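import Cfsg.Agent.H14.CoprimeExt

set_option autoImplicit false

namespace H14

open Module

/-- representations with the same irreducible character have the same determinant -/
theorem det_eq_of_char_eq {G : Type*} [Group G] [Finite G] {V W : Type*} [AddCommGroup V]
    [Module ℂ V] [FiniteDimensional ℂ V] [AddCommGroup W] [Module ℂ W] [FiniteDimensional ℂ W]
    (ρ : Representation ℂ G V) [ρ.IsIrreducible] (σ : Representation ℂ G W)
    (h : σ.character = ρ.character) (g : G) : LinearMap.det (σ g) = LinearMap.det (ρ g) := by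
  obtain ⟨e, he⟩ := exists_linearEquiv_of_char_eq ρ σ h
  rw [← LinearMap.det_conj (ρ g) e]
  congr 1
  refine LinearMap.ext fun w => ?_
  simp [he]

/-- the determinant of an extension restricts to the determinant -/
theorem detChar_res {G : Type*} [Group G] [Finite G] (N : Subgroup G) {ϑ : N → ℂ}
    (hϑ : Cfsg.IsIrrCharacter N ϑ) {χ : G → ℂ} (hχ : Cfsg.IsIrrCharacter G χ)
    (hres : ∀ n : N, χ n = ϑ n) (n : N) : Cfsg.detChar χ n = Cfsg.detChar ϑ n := by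
  obtain ⟨a, ρ, hρ, hρχ⟩ := hχ
  obtain ⟨b, σ, hσ, hσϑ⟩ := hϑ
  haveI := hρ
  haveI := hσ
  rw [detChar_eq ρ hρχ, detChar_eq σ hσϑ]
  exact det_eq_of_char_eq σ (MonoidHom.comp ρ N.subtype : Representation ℂ N (Fin a → ℂ))
    (by
      funext x
      change ρ.character (x : G) = σ.character x
      rw [hρχ, hres, hσϑ]) n

theorem detChar_hom {G : Type*} [Group G] [Finite G] {χ : G → ℂ} (hχ : Cfsg.IsIrrCharacter G χ) :
    ∃ f : G →* ℂˣ, Cfsg.detChar χ = fun g => (f g : ℂ) := by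
  obtain ⟨a, ρ, hρ, hρχ⟩ := hχ
  haveI := hρ
  exact ⟨detHom ρ, detChar_eq_detHom ρ hρχ⟩

theorem detChar_invariant {G : Type*} [Group G] [Finite G] (N : Subgroup G) [hN : N.Normal] {ϑ : N → ℂ}
    (hϑ : Cfsg.IsIrrCharacter N ϑ)
    (hinv : ∀ (g : G) (n : N), ϑ ⟨g * n * g⁻¹, hN.conj_mem (n : G) n.2 g⟩ = ϑ n) (g : G) (n : N) :
    Cfsg.detChar ϑ ⟨g * n * g⁻¹, hN.conj_mem (n : G) n.2 g⟩ = Cfsg.detChar ϑ n := by
  obtain ⟨b, σ, hσ, hσϑ⟩ := hϑ
  haveI := hσ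
  let c : N →* N := MonoidHom.mk' (fun x => (⟨g * x * g⁻¹, hN.conj_mem (x : G) x.2 g⟩ : N))
    (fun x y => Subtype.ext (by simp [mul_assoc]))
  rw [detChar_eq σ hσϑ, detChar_eq σ hσϑ]
  exact det_eq_of_char_eq σ (MonoidHom.comp σ c : Representation ℂ N (Fin b → ℂ))
    (by
      funext x
      change σ.character (c x) = σ.character x
      rw [hσϑ]
      exact hinv g x) n

/-- Gallagher's extension criterion in character form -/
theorem extends_iff_det {G : Type*} [Group G] [Finite G] (N : Subgroup G) [hN : N.Normal] (ϑ : N → ℂ)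
    (hϑ : Cfsg.IsIrrCharacter N ϑ)
    (hinv : ∀ (g : G) (n : N), ϑ ⟨g * n * g⁻¹, hN.conj_mem (n : G) n.2 g⟩ = ϑ n)
    (d : ℕ) (hd : ϑ 1 = d) (hcop : Nat.Coprime N.index d) :
    (∃ χ : G → ℂ, Cfsg.IsIrrCharacter G χ ∧ (∀ n : N, χ n = ϑ n)) ↔
      ∃ μ : G → ℂ, Cfsg.IsCharacter G μ ∧ μ 1 = 1 ∧ ∀ n : N, μ n = Cfsg.detChar ϑ n := by
  constructor
  · rintro ⟨χ, hχ, hres⟩
    obtain ⟨f, hf⟩ := detChar_hom hχ
    refine ⟨Cfsg.detChar χ, ?_, ?_, fun n => detChar_res N hϑ hχ hres n⟩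
    · rw [hf]; exact H12.isCharacter_monoidHom f
    · rw [hf]; simp
  · rintro ⟨μ, hμ, hμ1, hμN⟩
    obtain ⟨μh, rfl⟩ := H12.exists_monoidHom_of_apply_one_eq_one hμ hμ1
    obtain ⟨b, σ, hσ, hσϑ⟩ := hϑ
    haveI := hσ
    have hfr : finrank ℂ (Fin b → ℂ) = d := by
      rw [← hσϑ, Representation.char_one] at hd
      exact_mod_cast hd
    obtain ⟨τ, hτ, hτr⟩ := exists_extension_of_det N σ (fun g r => by
        rw [hσϑ]
        exact (congrArg ϑ (Subtype.ext (by simp))).trans (hinv g r))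
      (hfr.symm ▸ hcop) μh (fun r => Units.ext ((hμN r).trans (detChar_eq σ hσϑ r)))
    haveI := hτ
    exact ⟨τ.character, H12.isIrrCharacter_character τ, fun n => by rw [hτr, hσϑ]⟩

/-- the canonical extension -/
theorem exists_canonical_extension {G : Type*} [Group G] [Finite G] (N : Subgroup G) [hN : N.Normal]
    (ϑ : N → ℂ) (hϑ : Cfsg.IsIrrCharacter N ϑ)
    (hinv : ∀ (g : G) (n : N), ϑ ⟨g * n * g⁻¹, hN.conj_mem (n : G) n.2 g⟩ = ϑ n)
    (d : ℕ) (hd : ϑ 1 = d) (hcop : Nat.Coprime N.index (Cfsg.detOrder ϑ * d)) :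
    ∃ χ : G → ℂ, (Cfsg.IsIrrCharacter G χ ∧ (∀ n : N, χ n = ϑ n) ∧ Cfsg.detOrder χ = Cfsg.detOrder ϑ) ∧
      ∀ χ' : G → ℂ, Cfsg.IsIrrCharacter G χ' → (∀ n : N, χ' n = ϑ n) →
        Nat.Coprime N.index (Cfsg.detOrder χ') → χ' = χ := by
  obtain ⟨lam, hlam⟩ := detChar_hom hϑ
  have hlamapp : ∀ n, (lam n : ℂ) = Cfsg.detChar ϑ n := fun n => (congrFun hlam n).symm
  have hord : Cfsg.detOrder ϑ = orderOf lam := by
    rw [Cfsg.detOrder, hlam, orderOf_coe_hom]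
  obtain ⟨μ, hμ, hμord, huniq⟩ := exists_unique_coprime_extension N lam
    (fun g n => Units.ext (by rw [hlamapp, hlamapp]; exact detChar_invariant N hϑ hinv g n))
    (hord ▸ Nat.Coprime.coprime_mul_right_right hcop)
  have hcopd := Nat.Coprime.coprime_mul_left_right hcop
  obtain ⟨η, hη, hηN⟩ := (extends_iff_det N ϑ hϑ hinv d hd hcopd).mpr
    ⟨fun g => (μ g : ℂ), H12.isCharacter_monoidHom μ, by simp, fun n => by simp only [hμ, hlamapp]⟩
  have hex := fun (μ : G → ℂ) hμ hμN =>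
    exists_unique_extension_with_det N ϑ hϑ d hd hcopd η hη hηN μ hμ hμN
  obtain ⟨χ, ⟨hχ, hχN, hχdet⟩, hχuniq⟩ := hex (fun g => (μ g : ℂ))
    ⟨H12.isCharacter_monoidHom μ, by simp⟩ (fun n => by simp only [hμ, hlamapp])
  refine ⟨χ, ⟨hχ, hχN, by rw [Cfsg.detOrder, hχdet, orderOf_coe_hom, hμord, hord]⟩, ?_⟩
  intro χ' hχ' hχ'N hcop'
  obtain ⟨μ', hμ'⟩ := detChar_hom hχ'
  rw [Cfsg.detOrder, hμ', orderOf_coe_hom] at hcop'
  have heq : μ' = μ := huniq μ' (fun n => Units.ext (by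
    rw [hlamapp, ← detChar_res N hϑ hχ' hχ'N n, hμ'])) hcop'
  exact hχuniq χ' ⟨hχ', hχ'N, by rw [hμ', heq]⟩

end H14
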