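import Cfsg.Agent.H14.LinExt
import Cfsg.Agent.H13.Gallagher
import Cfsg.Agent.H13.Correspondence
import Cfsg.Agent.H13.Linear
import Cfsg.Agent.H12.Transport
import Cfsg.Agent.H12.Integral
import Cfsg.Agent.H19.GaloisAvg

set_option autoImplicit false

namespace H14

/-- Itô, coprime case: for an abelian normal subgroup of order prime to its index, degrees divide the index. -/
theorem degree_dvd_index_of_abelian_coprime {G : Type*} [Group G] [Finite G] (A : Subgroup G) [hA : A.Normal]
    (hab : ∀ a ∈ A, ∀ b ∈ A, a * b = b * a) (hcop : Nat.Coprime (Nat.card A) A.index)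
    (χ : Cfsg.IrrCharacter G) : H12.degree (χ : G → ℂ) ∣ A.index := by
  classical
  haveI := Fintype.ofFinite G
  haveI := Fintype.ofFinite A
  obtain ⟨θ, hθ⟩ := H13.exists_constituent A (H12.isCharacter_irr χ) (H12.irr_ne_zero χ)
  have hθ1 : (θ : A → ℂ) 1 = 1 :=
    H13.degree_one_of_commutative (fun a b => Subtype.ext (hab a a.2 b b.2)) θ
  set T := H13.inertia A (θ : A → ℂ) with hT
  have hAT : A ≤ T := H13.le_inertia A (H12.irr_isClassFunction θ)
  haveI := Fintype.ofFinite T
  obtain ⟨ψ, hψ, hψA, hind⟩ := H13.clifford_correspondence_exists A θ.2 hT hAT χ.2 hθ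
  let A' : Subgroup T := A.subgroupOf T
  haveI : A'.Normal := Subgroup.Normal.subgroupOf hA T
  haveI := Fintype.ofFinite A'
  haveI : Fintype (T ⧸ A') := Fintype.ofFinite _
  let e : A' ≃* A := Subgroup.subgroupOfEquivOfLe hAT
  obtain ⟨lam, hlam⟩ := H12.exists_monoidHom_of_apply_one_eq_one (H12.isCharacter_irr θ) hθ1
  have hidx : A'.index ∣ A.index := ⟨T.index, (Subgroup.relIndex_mul_index hAT).symm⟩
  have hord : orderOf (lam.comp e.toMonoidHom) ∣ Nat.card A := by
    refine orderOf_dvd_of_pow_eq_one (MonoidHom.ext fun x => ?_)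
    change lam (e x) ^ Nat.card A = 1
    rw [← map_pow, pow_card_eq_one', map_one]
  obtain ⟨μ, hμ, -, -⟩ := exists_unique_coprime_extension A' (lam.comp e.toMonoidHom) (fun g n => by
    apply Units.ext
    have hg : H13.twist A (g : G) (θ : A → ℂ) = (θ : A → ℂ) := (H13.mem_inertia A).mp g.2
    have h := congrFun hg (e n)
    rw [H13.twist_apply] at h
    change (lam (e ⟨g * n * g⁻¹, _⟩) : ℂ) = (lam (e n) : ℂ)
    rw [congrFun hlam, congrFun hlam, ← h]
    rfl)
    ((Nat.Coprime.coprime_dvd_left hord hcop).symm.coprime_dvd_left hidx)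
  have hres : (fun n : A' => (μ (n : T) : ℂ)) = (θ : A → ℂ) ∘ e := by
    funext n
    rw [hμ]
    exact congrFun hlam (e n)
  have hresirr : Cfsg.IsIrrCharacter A' (fun n : A' => (μ (n : T) : ℂ)) := by
    rw [hres]
    exact H13.isIrrCharacter_comp_equiv e θ.2
  obtain ⟨β, hβ⟩ := H13.gallagher_exists A' (H12.isCharacter_monoidHom μ) hresirr hψ (by
    rw [hres, show (fun n : A' => ψ (n : T)) = (H13.resTo hAT ψ) ∘ e from rfl,
      H12.classInner_comp_equiv]
    exact hψA)
  have h1 : (χ : G → ℂ) 1 = (T.index : ℂ) * (β : T ⧸ A' → ℂ) 1 := by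
    rw [← hind, H13.indFun_apply_one, hβ, Pi.mul_apply, H13.inflateIrr_apply]
    simp
  rw [H12.irr_apply_one, H12.irr_apply_one] at h1
  have h2 : H12.degree (χ : G → ℂ) = T.index * H12.degree (β : T ⧸ A' → ℂ) := by exact_mod_cast h1
  rw [h2, ← Subgroup.relIndex_mul_index hAT, mul_comm (A.relIndex T)]
  refine Nat.mul_dvd_mul_left _ ?_
  have h3 := H12.irr_degree_dvd_card β
  rwa [← Subgroup.index_eq_card] at h3

/-- every irreducible character of a normal subgroup lies under one of the group, so its degree divides that degree -/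
theorem exists_degree_dvd {G : Type*} [Group G] [Finite G] (N : Subgroup G) [N.Normal]
    (θ : Cfsg.IrrCharacter N) :
    ∃ χ : Cfsg.IrrCharacter G, H12.degree (θ : N → ℂ) ∣ H12.degree (χ : G → ℂ) := by
  classical
  haveI := Fintype.ofFinite G
  haveI := Fintype.ofFinite N
  obtain ⟨χ, hχ⟩ : ∃ χ : Cfsg.IrrCharacter G,
      Cfsg.classInner (Cfsg.indFun N (θ : N → ℂ)) χ ≠ 0 := by
    by_contra h0
    simp only [not_exists, not_not] at h0
    have h := congrFun (H12.eq_zero_of_classInner_irr_eq_zero (H13.indFun_isClassFunction N _) h0) 1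
    rw [H13.indFun_apply_one, Pi.zero_apply, mul_eq_zero] at h
    rcases h with h | h
    · exact Subgroup.index_ne_zero_of_finite (Nat.cast_eq_zero.1 h)
    · exact H12.irr_apply_one_ne_zero θ h
  refine ⟨χ, ?_⟩
  have hne : Cfsg.classInner (fun n : N => (χ : G → ℂ) n) θ ≠ 0 := by
    intro h0
    apply hχ
    rw [H13.classInner_indFun_left N _ (H12.irr_isClassFunction χ), ← H12.conj_classInner, h0, map_zero]
  obtain ⟨e, he⟩ := H12.IsCharacter.classInner_nat (H12.IsCharacter.res (H12.isCharacter_irr χ) N)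
    (H12.isCharacter_irr θ)
  have hd := H13.clifford_degree N χ.2 θ.2 hne
  rw [he, H12.irr_apply_one, H12.irr_apply_one] at hd
  exact ⟨e * (H13.inertia N (θ : N → ℂ)).index, by
    have hd' : H12.degree (χ : G → ℂ) =
        e * (H13.inertia N (θ : N → ℂ)).index * H12.degree (θ : N → ℂ) := by exact_mod_cast hd
    rw [hd', mul_comm]⟩

theorem exists_normal_complement_of_degrees (p : ℕ) (hp : p.Prime) :
    ∀ (N : ℕ) (G : Type*) [Group G] [Finite G], Nat.card G < N →
      (∀ χ : Cfsg.IrrCharacter G, ∃ k : ℕ, H12.degree (χ : G → ℂ) = p ^ k) →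
      ∃ A : Subgroup G, A.Normal ∧ (∀ a ∈ A, ∀ b ∈ A, a * b = b * a) ∧ Nat.Coprime (Nat.card A) p ∧
        ∃ k : ℕ, A.index = p ^ k := by
  intro N
  induction N with
  | zero => intro G _ _ h; simp at h
  | succ N ih =>
    intro G _ _ hN hdeg
    haveI := Fintype.ofFinite G
    haveI := Fact.mk hp
    by_cases hpG : p ∣ Nat.card G
    · -- a normal subgroup of index `p`
      have hcomm : p ∣ (commutator G).index := by
        rw [← H12.card_linear_irr, Nat.card_eq_fintype_card]
        classical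
        have h := H12.sum_degree_sq_nat (G := G)
        rw [← Finset.sum_filter_add_sum_filter_not Finset.univ
          (fun χ : Cfsg.IrrCharacter G => (χ : G → ℂ) 1 = 1)] at h
        have h1 : ∀ χ ∈ Finset.univ.filter (fun χ : Cfsg.IrrCharacter G => (χ : G → ℂ) 1 = 1),
            H12.degree (χ : G → ℂ) ^ 2 = 1 := by
          intro χ hχ
          have := (Finset.mem_filter.mp hχ).2
          rw [H12.irr_apply_one] at this
          rw [(by exact_mod_cast this : H12.degree (χ : G → ℂ) = 1), one_pow]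
        rw [Finset.sum_congr rfl h1, ← Finset.card_eq_sum_ones, ← Fintype.card_subtype] at h
        have h2 : p ∣ ∑ χ ∈ Finset.univ.filter (fun χ : Cfsg.IrrCharacter G => ¬ (χ : G → ℂ) 1 = 1),
            H12.degree (χ : G → ℂ) ^ 2 := by
          refine Finset.dvd_sum fun χ hχ => ?_
          obtain ⟨k, hk⟩ := hdeg χ
          have hk0 : k ≠ 0 := by
            rintro rfl
            refine (Finset.mem_filter.mp hχ).2 ?_
            rw [H12.irr_apply_one, hk, pow_zero, Nat.cast_one]
          rw [hk, ← pow_mul]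
          exact dvd_pow_self p (mul_ne_zero hk0 two_ne_zero)
        rw [← h] at hpG
        exact (Nat.dvd_add_left h2).mp hpG
      rw [← H12.card_monoidHom_units] at hcomm
      haveI : Finite (G →* ℂˣ) := Nat.finite_of_card_ne_zero (by
        rw [H12.card_monoidHom_units]; exact Subgroup.index_ne_zero_of_finite)
      obtain ⟨f, hf⟩ := exists_prime_orderOf_dvd_card' p hcomm
      set M := f.ker with hM
      have hMidx : M.index = p := by
        rw [hM, Subgroup.index_ker]
        have hle : f.range ≤ rootsOfUnity p ℂ := by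
          rintro _ ⟨g, rfl⟩
          rw [mem_rootsOfUnity]
          exact DFunLike.congr_fun (hf ▸ pow_orderOf_eq_one f : f ^ p = 1) g
        haveI : NeZero p := ⟨hp.ne_zero⟩
        have hd := Subgroup.card_dvd_of_le hle
        rw [Complex.card_rootsOfUnity] at hd
        rcases (Nat.dvd_prime hp).mp hd with h1 | h1
        · exfalso
          have hf1 : f = 1 := MonoidHom.range_eq_bot_iff.mp (Subgroup.eq_bot_of_card_eq _ h1)
          rw [hf1, orderOf_one] at hf
          exact hp.one_lt.ne hf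
        · exact h1
      have hMlt : Nat.card M < N := by
        have h := M.card_mul_index
        rw [hMidx] at h
        have : Nat.card M * 2 ≤ Nat.card M * p := Nat.mul_le_mul_left _ hp.two_le
        have := Nat.card_pos (α := M)
        omega
      obtain ⟨A, hAn, hAab, hAcop, k, hk⟩ := ih M hMlt (fun θ => by
        obtain ⟨χ, hχ⟩ := exists_degree_dvd M θ
        obtain ⟨j, hj⟩ := hdeg χ
        rw [hj] at hχ
        obtain ⟨i, -, hi⟩ := (Nat.dvd_prime_pow hp).mp hχ
        exact ⟨i, hi⟩)
      refine ⟨A.map M.subtype, ?_, ?_, ?_, k + 1, ?_⟩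
      · -- characteristic in `M`
        haveI := hAn
        have hmem : ∀ a : M, a ∈ A ↔ Nat.Coprime (orderOf (a : G)) p := by
          intro a
          rw [Subgroup.orderOf_coe]
          constructor
          · intro ha
            exact Nat.Coprime.coprime_dvd_left (Subgroup.orderOf_dvd_natCard A ha) hAcop
          · intro ha
            have h1 := Subgroup.pow_index_mem A a
            rw [hk] at h1
            obtain ⟨n, hn⟩ := exists_pow_eq_self_of_coprime (x := a) (Nat.Coprime.pow_left k ha.symm)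
            rw [← hn]
            exact A.pow_mem h1 n
        refine ⟨?_⟩
        rintro _ ⟨a, ha, rfl⟩ g
        refine ⟨⟨g * (a : G) * g⁻¹, Subgroup.Normal.conj_mem inferInstance _ a.2 g⟩, (hmem _).mpr ?_, rfl⟩
        change Nat.Coprime (orderOf (g * (a : G) * g⁻¹)) p
        rw [show g * (a : G) * g⁻¹ = MulAut.conj g (a : G) from rfl, MulEquiv.orderOf_eq]
        exact (hmem a).mp ha
      · rintro _ ⟨a, ha, rfl⟩ _ ⟨b, hb, rfl⟩
        rw [← map_mul, ← map_mul, hAab a ha b hb]
      · rwa [Subgroup.card_map_of_injective M.subtype_injective]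
      · have h1 := (A.map M.subtype).card_mul_index
        rw [Subgroup.card_map_of_injective M.subtype_injective, ← M.card_mul_index, ← A.card_mul_index,
          hk, hMidx, mul_assoc] at h1
        rw [pow_succ]
        exact Nat.eq_of_mul_eq_mul_left Nat.card_pos h1
    · refine ⟨⊤, inferInstance, fun a _ b _ => H13.commutative_of_all_linear (fun χ => ?_) a b, ?_, 0, by simp⟩
      · obtain ⟨k, hk⟩ := hdeg χ
        have hk0 : k = 0 := by
          by_contra h
          exact hpG ((dvd_pow_self p h).trans (hk ▸ H12.irr_degree_dvd_card χ))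
        rw [H12.irr_apply_one, hk, hk0, pow_zero, Nat.cast_one]
      · rw [Subgroup.card_top]
        exact ((Nat.Prime.coprime_iff_not_dvd hp).mpr hpG).symm

/-- a character value at a `p`-element is nonzero when the degree is prime to `p` -/
theorem sum_roots_ne_zero {p a : ℕ} [Fact p.Prime] {ζ : ℂ} (hζ : IsPrimitiveRoot ζ (p ^ (a + 1)))
    (P : Polynomial ℤ) (hP : ¬ (p : ℤ) ∣ P.eval 1) : Polynomial.aeval ζ P ≠ 0 := by
  intro h
  have hpos : 0 < p ^ (a + 1) := pow_pos (Fact.out : p.Prime).pos _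
  have hdvd : Polynomial.cyclotomic (p ^ (a + 1)) ℤ ∣ P := by
    rw [Polynomial.cyclotomic_eq_minpoly hζ hpos]
    exact minpoly.isIntegrallyClosed_dvd (hζ.isIntegral hpos) h
  have h1 := Polynomial.eval_dvd (x := (1 : ℤ)) hdvd
  rw [Polynomial.eval_one_cyclotomic_prime_pow] at h1
  exact hP h1

theorem class_count_of_selfcentralizing {G : Type*} [Group G] [Finite G] (p : ℕ) [Fact p.Prime]
    (P : Sylow p G) [(P : Subgroup G).Normal] (hab : ∀ a ∈ P, ∀ b ∈ P, a * b = b * a) (g : G) (hg : g ∈ P)
    (hC : Subgroup.centralizer ({g} : Set G) = P) :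
    Nat.card (Cfsg.IrrCharacter G) ≤ Nat.card P ∧
      (Nat.card (Cfsg.IrrCharacter G) = Nat.card P → commutator G ≤ P) := by
  classical
  haveI := Fintype.ofFinite G
  have hp : p.Prime := Fact.out
  by_cases hg1 : g = 1
  · subst hg1
    have htop : (P : Subgroup G) = ⊤ := by
      rw [← hC, eq_top_iff]
      intro x _
      rw [Subgroup.mem_centralizer_singleton_iff, mul_one, one_mul]
    refine ⟨?_, fun _ => by rw [htop]; exact le_top⟩
    rw [H12.card_irrCharacter]
    calc Nat.card (ConjClasses G) ≤ Nat.card G := Nat.card_le_card_of_surjective _ ConjClasses.mk_surjective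
      _ = Nat.card (P : Subgroup G) := by rw [htop, Subgroup.card_top]
  obtain ⟨a, ha⟩ := (IsPGroup.iff_orderOf.mp P.isPGroup') ⟨g, hg⟩
  rw [Subgroup.orderOf_mk] at ha
  obtain ⟨a, rfl⟩ : ∃ b, a = b + 1 := ⟨a - 1, by
    rcases Nat.eq_zero_or_pos a with h | h
    · rw [h, pow_zero, orderOf_eq_one_iff] at ha; exact absurd ha hg1
    · omega⟩
  set n := p ^ (a + 1) with hn
  have hnpos : 0 < n := pow_pos hp.pos _
  obtain ⟨ζ, hζ⟩ := H19.exists_root n hnpos.ne'
  haveI : NeZero n := ⟨hnpos.ne'⟩
  -- centralisers of the other generators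
  have hcent : ∀ j ∈ H19.units' n, (Nat.card (Subgroup.centralizer ({g ^ j} : Set G)) : ℝ) = Nat.card P := by
    intro j hj
    suffices h : Subgroup.centralizer ({g ^ j} : Set G) = (P : Subgroup G) by rw [h]
    rw [← hC]
    obtain ⟨k, hk⟩ := exists_pow_eq_self_of_coprime (x := g) (n := j)
      (by rw [ha]; exact (H19.mem_units'.mp hj).2.symm)
    ext x
    rw [Subgroup.mem_centralizer_singleton_iff, Subgroup.mem_centralizer_singleton_iff]
    refine ⟨fun h => ?_, fun h => (Commute.pow_right h j).eq⟩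
    rw [← hk]
    exact (Commute.pow_right h k).eq
  have hcopP : Nat.Coprime (Nat.card (P : Subgroup G)) (P : Subgroup G).index := P.card_coprime_index
  -- the conjugates of each value
  have hkey : ∀ χ : Cfsg.IrrCharacter G, (n.totient : ℝ) ≤ ∑ j ∈ H19.units' n, ‖(χ : G → ℂ) (g ^ j)‖ ^ 2 := by
    intro χ
    obtain ⟨m, ρ, hρ, hρχ⟩ := χ.2
    obtain ⟨μ, h1, h2, -⟩ := H12.exists_char_eigenvalues ρ g
    have hex : ∀ i, ∃ e, e < n ∧ ζ ^ e = μ i := fun i =>
      hζ.eq_pow_of_pow_eq_one (by rw [← ha]; exact h1 i)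
    choose e he hμ using hex
    let Q : Polynomial ℤ := ∑ i, Polynomial.X ^ e i
    have hQ : ∀ j : ℕ, Polynomial.aeval (ζ ^ j) Q = (χ : G → ℂ) (g ^ j) := by
      intro j
      rw [← hρχ, h2 j, map_sum]
      refine Finset.sum_congr rfl fun i _ => ?_
      rw [map_pow, Polynomial.aeval_X, ← pow_mul, mul_comm, pow_mul, hμ]
    have hQ1 : Q.eval 1 = (H12.degree (χ : G → ℂ) : ℤ) := by
      rw [← hρχ, H12.degree_character]
      simp [Q, Polynomial.eval_finsetSum]
    have hne : Polynomial.aeval ζ Q ≠ 0 := by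
      refine sum_roots_ne_zero hζ Q ?_
      rw [hQ1, Int.natCast_dvd_natCast]
      intro hd
      exact P.not_dvd_index (hd.trans (degree_dvd_index_of_abelian_coprime (P : Subgroup G) hab hcopP χ))
    refine (H19.totient_le_sum_normSq hnpos hζ Q hne).trans (le_of_eq (Finset.sum_congr rfl fun j _ => ?_))
    rw [hQ]
  have htot : ∑ χ : Cfsg.IrrCharacter G, ∑ j ∈ H19.units' n, ‖(χ : G → ℂ) (g ^ j)‖ ^ 2 =
      (n.totient : ℝ) * Nat.card P := by
    rw [Finset.sum_comm, Finset.sum_congr rfl (g := fun _ => (Nat.card P : ℝ)) (fun j hj => ?_),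
      Finset.sum_const, H19.card_units', nsmul_eq_mul]
    rw [← hcent j hj, ← H13.sum_normSq_irr]
    exact Finset.sum_congr rfl fun χ _ => (Complex.normSq_eq_norm_sq _).symm
  have htotpos : (0 : ℝ) < n.totient := by exact_mod_cast Nat.totient_pos.mpr hnpos
  have hle := Finset.sum_le_sum (s := Finset.univ) fun χ _ => hkey χ
  rw [htot, Finset.sum_const, Finset.card_univ, nsmul_eq_mul, ← Nat.card_eq_fintype_card, mul_comm] at hle
  refine ⟨by exact_mod_cast le_of_mul_le_mul_left hle htotpos, fun heq => ?_⟩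
  -- equality: `G ⧸ P` is abelian
  have hall : ∀ χ : Cfsg.IrrCharacter G,
      ∑ j ∈ H19.units' n, ‖(χ : G → ℂ) (g ^ j)‖ ^ 2 = (n.totient : ℝ) := by
    intro χ
    refine ((Finset.sum_eq_sum_iff_of_le fun χ _ => hkey χ).mp ?_ χ (Finset.mem_univ _)).symm
    rw [htot, Finset.sum_const, Finset.card_univ, nsmul_eq_mul, ← Nat.card_eq_fintype_card, heq, mul_comm]
  have hlin : ∀ β : Cfsg.IrrCharacter (G ⧸ (P : Subgroup G)), (β : G ⧸ (P : Subgroup G) → ℂ) 1 = 1 := by
    intro β
    have h := hall (H13.inflateIrr (P : Subgroup G) β)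
    rw [Finset.sum_congr rfl (g := fun _ => (H12.degree (β : G ⧸ (P : Subgroup G) → ℂ) : ℝ) ^ 2)
      (fun j _ => by
        rw [H13.inflateIrr_kernel (P : Subgroup G) β ((P : Subgroup G).pow_mem hg j), H13.inflateIrr_apply,
          QuotientGroup.mk_one, H12.irr_apply_one, Complex.norm_natCast]),
      Finset.sum_const, H19.card_units', nsmul_eq_mul, mul_eq_left₀ htotpos.ne'] at h
    have h' : H12.degree (β : G ⧸ (P : Subgroup G) → ℂ) ^ 2 = 1 := by exact_mod_cast h
    have h'' := (pow_eq_one_iff.mp h').resolve_right (by norm_num)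
    rw [H12.irr_apply_one, h'', Nat.cast_one]
  rw [commutator_def, Subgroup.commutator_le]
  intro x _ y _
  rw [← QuotientGroup.eq_one_iff]
  have := H13.commutative_of_all_linear hlin (x : G ⧸ (P : Subgroup G)) y
  rw [commutatorElement_def, QuotientGroup.mk_mul, QuotientGroup.mk_mul, QuotientGroup.mk_mul, this,
    QuotientGroup.mk_inv, QuotientGroup.mk_inv]
  group

end H14
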