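import Mathlib.GroupTheory.SpecificGroups.Dihedral
import Cfsg.Agent.H6.Transfer
import Cfsg.Agent.S0840
import Cfsg.Agent.H16.Extend
import Cfsg.Agent.H13.Induced
import Cfsg.Agent.H13.Kernel
import Cfsg.Agent.H12.Linear

/-!
# Perfect groups with an involution centralizer dihedral of order eight
-/

set_option autoImplicit false
set_option linter.unusedSectionVars false
set_option linter.style.haveILetI false
open scoped ComplexConjugate
open Cfsg

namespace H14

theorem dihedralFour_facts :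
    (∀ x : DihedralGroup 4, x ≠ 1 → (∀ y : DihedralGroup 4, x * y = y * x) → x = DihedralGroup.r 2) ∧
    (∀ x : DihedralGroup 4, x * DihedralGroup.r 1 = DihedralGroup.r 1 * x →
      x = 1 ∨ x = DihedralGroup.r 1 ∨ x = DihedralGroup.r 2 ∨ x = DihedralGroup.r 3) ∧
    (∀ x : DihedralGroup 4, x * DihedralGroup.r 1 * x⁻¹ = DihedralGroup.r 1 ∨
      x * DihedralGroup.r 1 * x⁻¹ = DihedralGroup.r 3) := by decide

/-- a virtual character of norm three vanishing at `1` with principal component `1` -/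
theorem norm_three {G : Type*} [Group G] [Fintype G] {α : G → ℂ} (hαgen : IsGeneralizedCharacter G α)
    (hnorm : classInner α α = ((3 : ℕ) : ℂ)) (hone : classInner α (fun _ => 1) = 1) (hα1 : α 1 = 0) :
    ∃ χ₁ χ₂ : G → ℂ, IsIrrCharacter G χ₁ ∧ IsIrrCharacter G χ₂ ∧ χ₁ ≠ (fun _ => 1) ∧ χ₂ ≠ (fun _ => 1) ∧
      α = (fun _ => (1 : ℂ)) + χ₂ - χ₁ := by
  classical
  obtain ⟨s, c, hs, hθ, h2, -⟩ := H16.gen_decomp_norm hαgen hnorm
  have hb : ∀ i ∈ s, c i = 1 ∨ c i = -1 := by
    intro i hi
    have hne := (hs i hi).2.2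
    have hle : c i ^ 2 ≤ 3 := by
      have := Finset.single_le_sum (fun j _ => sq_nonneg (c j)) hi
      simpa [h2] using this
    have h1' : c i ≤ 1 := by nlinarith
    have h2' : -1 ≤ c i := by nlinarith
    omega
  have hs3 : s.card = 3 := by
    have : ∑ i ∈ s, c i ^ 2 = ∑ i ∈ s, (1 : ℤ) :=
      Finset.sum_congr rfl fun i hi => by rcases hb i hi with e' | e' <;> simp [e']
    rw [this, Finset.sum_const, nsmul_eq_mul, mul_one] at h2
    exact_mod_cast h2
  have h1s : (fun _ : G => (1 : ℂ)) ∈ s := by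
    by_contra h
    have h' := hone
    rw [hθ, H16.ci_sum_left, Finset.sum_eq_zero] at h'
    · simp at h'
    · intro i hi
      rw [H16.ci_zsmul_left, H16.ci_irr_ne (hs i hi).1 H12.isIrrCharacter_one (fun e' => h (e' ▸ hi)), mul_zero]
  have hc1 : c (fun _ : G => (1 : ℂ)) = 1 := by
    have := (hs _ h1s).2.1
    rw [hone] at this
    exact_mod_cast this.symm
  obtain ⟨p, q, hpq, hpqs⟩ := Finset.card_eq_two.mp
    (show (s.erase (fun _ : G => (1 : ℂ))).card = 2 by rw [Finset.card_erase_of_mem h1s, hs3])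
  have hp : p ∈ s ∧ p ≠ fun _ => 1 := by
    have h : p ∈ s.erase (fun _ : G => (1 : ℂ)) := by rw [hpqs]; simp
    exact ⟨Finset.mem_of_mem_erase h, Finset.ne_of_mem_erase h⟩
  have hq : q ∈ s ∧ q ≠ fun _ => 1 := by
    have h : q ∈ s.erase (fun _ : G => (1 : ℂ)) := by rw [hpqs]; simp
    exact ⟨Finset.mem_of_mem_erase h, Finset.ne_of_mem_erase h⟩
  have hθ' : α = (fun _ => (1 : ℂ)) + (c p • p + c q • q) := by
    rw [hθ, ← Finset.add_sum_erase s _ h1s, hpqs, Finset.sum_pair hpq, hc1, one_smul]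
  obtain ⟨dp, hdp, ep⟩ := H16.irr_one (hs p hp.1).1
  obtain ⟨dq, hdq, eq⟩ := H16.irr_one (hs q hq.1).1
  rcases hb p hp.1 with e1 | e1 <;> rcases hb q hq.1 with e2 | e2 <;> rw [e1, e2] at hθ'
  · exfalso
    have h := congrFun hθ' 1
    simp [hα1, ep, eq] at h
    have : 1 + (dp + dq) = 0 := by exact_mod_cast h.symm
    omega
  · exact ⟨q, p, (hs q hq.1).1, (hs p hp.1).1, hq.2, hp.2, by rw [hθ']; simp [sub_eq_add_neg, add_assoc]⟩
  · exact ⟨p, q, (hs p hp.1).1, (hs q hq.1).1, hp.2, hq.2, by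
      rw [hθ']; simp only [one_smul, neg_smul]; abel⟩
  · exfalso
    have h := congrFun hθ' 1
    simp [hα1, ep, eq] at h
    have h' : (dp : ℂ) + dq = 1 := by linear_combination h
    have : dp + dq = 1 := by exact_mod_cast h'
    omega

/-- the values on a cyclic subgroup of order four of a character real there -/
theorem cyclicFour_values {G : Type*} [Group G] [Fintype G] {χ : G → ℂ} (hχ : IsCharacter G χ) (u : G)
    (hu : orderOf u = 4) (hreal : χ (u ^ 3) = χ u) (d : ℕ) (hd : χ 1 = d) :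
    ∃ (a b : ℤ), χ u = a ∧ χ (u ^ 2) = b ∧ 4 ∣ (d : ℤ) - b ∧ 4 ∣ (d : ℤ) + b + 2 * a := by
  classical
  letI : Fintype (Subgroup.zpowers u) := Fintype.ofFinite _
  set γ : Subgroup.zpowers u := ⟨u, Subgroup.mem_zpowers u⟩ with hγ
  have hγgen : ∀ y : Subgroup.zpowers u, y ∈ Subgroup.zpowers γ := by
    rintro ⟨_, i, rfl⟩
    exact ⟨i, Subtype.ext (by simp [hγ])⟩
  have hγo : orderOf γ = 4 := by rw [← Subgroup.orderOf_coe]; exact hu
  let w : ℂˣ := Units.mk0 Complex.I Complex.I_ne_zero
  have hw : orderOf w ∣ orderOf γ := by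
    rw [hγo]; exact orderOf_dvd_of_pow_eq_one (Units.ext (by simp [w]))
  let lam := monoidHomOfForallMemZpowers hγgen hw
  have hlam : lam γ = w := monoidHomOfForallMemZpowers_apply_gen hγgen hw
  have hsum : ∀ g : Subgroup.zpowers u → ℂ, ∑ y, g y = g (γ ^ 0) + g (γ ^ 1) + g (γ ^ 2) + g (γ ^ 3) := by
    intro g
    have him : (Finset.range 4).image (fun i => γ ^ i) = Finset.univ := by
      rw [← hγo]
      exact IsCyclic.image_range_orderOf hγgen
    rw [← him, Finset.sum_image (fun i hi j hj h => pow_injOn_Iio_orderOf (x := γ)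
      (by simpa [hγo] using hi) (by simpa [hγo] using hj) h)]
    simp [Finset.sum_range_succ]
  have hmult : ∀ j : ℕ, ∃ m : ℕ, (4 : ℂ) * m =
      χ 1 + χ u * (-Complex.I) ^ j + χ (u ^ 2) * (-1) ^ j + χ (u ^ 3) * Complex.I ^ j := by
    intro j
    obtain ⟨m, hm⟩ := H12.IsCharacter.classInner_nat (H12.IsCharacter.res hχ (Subgroup.zpowers u))
      (H12.isCharacter_irr (H12.linIrr (lam ^ j)))
    refine ⟨m, ?_⟩
    rw [← hm]
    simp only [Cfsg.classInner, hsum, H12.linIrr_apply, MonoidHom.pow_apply, map_pow, hlam,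
      Units.val_pow_eq_pow_val, w, Units.val_mk0, Nat.card_zpowers, hu, Complex.conj_I]
    simp only [Subgroup.coe_pow, hγ, pow_zero, one_pow, mul_one, pow_one]
    have e2 : ((-Complex.I) ^ 2) = (-1 : ℂ) := by rw [neg_sq, Complex.I_sq]
    have e3 : ((-Complex.I) ^ 3) = Complex.I := by
      rw [pow_succ, e2]; ring
    rw [e2, e3]
    push_cast
    ring
  obtain ⟨m0, h0⟩ := hmult 0
  obtain ⟨m1, h1⟩ := hmult 1
  obtain ⟨m2, h2⟩ := hmult 2
  rw [hd, hreal] at h0 h1 h2
  simp only [pow_zero, mul_one, pow_one, neg_sq, Complex.I_sq, one_pow] at h0 h1 h2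
  refine ⟨(m0 : ℤ) - m2, (d : ℤ) - 4 * m1, ?_, ?_, ⟨m1, by ring⟩, ?_⟩
  · push_cast; linear_combination (-(1 / 4 : ℂ)) * h0 + (1 / 4 : ℂ) * h2
  · push_cast
    linear_combination h1
  · have e : ((2 : ℂ) * d - 4 * m1 + 2 * ((m0 : ℂ) - m2)) = 4 * m0 := by
      linear_combination (-(1 / 2 : ℂ)) * h0 - h1 + (-(1 / 2 : ℂ)) * h2
    refine ⟨(m0 : ℤ), ?_⟩
    have : (((d : ℤ) + ((d : ℤ) - 4 * m1) + 2 * ((m0 : ℤ) - m2) : ℤ) : ℂ) = ((4 * (m0 : ℤ) : ℤ) : ℂ) := by
      push_cast; linear_combination e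
    exact_mod_cast this

theorem perfect_d8 {G : Type*} [Group G] [Fintype G] (hperf : commutator G = ⊤) (t : G) (ht : orderOf t = 2)
    (e : Subgroup.centralizer ({t} : Set G) ≃* DihedralGroup 4) : Nat.card G = 168 ∨ Nat.card G = 360 := by
  classical
  obtain ⟨hcen, hcr, hconjr⟩ := dihedralFour_facts
  set C := Subgroup.centralizer ({t} : Set G) with hC
  have htC : t ∈ C := Subgroup.mem_centralizer_singleton_iff.mpr rfl
  have het : e ⟨t, htC⟩ = DihedralGroup.r 2 := by
    refine hcen _ (fun h => ?_) (fun y => ?_)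
    · rw [MulEquiv.map_eq_one_iff] at h
      have := congrArg Subtype.val h
      rw [show t = 1 from this, orderOf_one] at ht
      exact absurd ht (by norm_num)
    · obtain ⟨x, rfl⟩ := e.surjective y
      rw [← map_mul, ← map_mul]
      exact congrArg e (Subtype.ext (Subgroup.mem_centralizer_singleton_iff.mp x.2).symm)
  have hcardC : Nat.card C = 8 := by
    rw [Nat.card_congr e.toEquiv, Nat.card_eq_fintype_card, DihedralGroup.card]
  -- `C` is a Sylow 2-subgroup
  obtain ⟨P, hCP⟩ := (IsPGroup.of_card (p := 2) (n := 3) (G := C) (by rw [hcardC]; norm_num)).exists_le_sylow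
  have hPC : (P : Subgroup G) = C := by
    refine le_antisymm ?_ hCP
    haveI : Nontrivial (P : Subgroup G) :=
      (Subgroup.nontrivial_iff_ne_bot _).mpr fun h => by
        have := Subgroup.card_dvd_of_le hCP
        rw [h, Subgroup.card_bot, hcardC] at this
        omega
    haveI := P.2.center_nontrivial
    obtain ⟨z, hz⟩ := exists_ne (1 : Subgroup.center (P : Subgroup G))
    have hzc : ∀ x : (P : Subgroup G), x * z.1 = z.1 * x := fun x => Subgroup.mem_center_iff.mp z.2 x
    have hzC : ((z.1 : (P : Subgroup G)) : G) ∈ C := Subgroup.mem_centralizer_singleton_iff.mpr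
      (congrArg Subtype.val (hzc ⟨t, hCP htC⟩)).symm
    have hez : e ⟨_, hzC⟩ = DihedralGroup.r 2 := by
      refine hcen _ (fun h => hz ?_) (fun y => ?_)
      · rw [MulEquiv.map_eq_one_iff] at h
        exact Subtype.ext (Subtype.ext (congrArg (fun c : C => (c : G)) h))
      · obtain ⟨x, rfl⟩ := e.surjective y
        rw [← map_mul, ← map_mul]
        exact congrArg e (Subtype.ext (congrArg Subtype.val (hzc ⟨x, hCP x.2⟩)).symm)
    have hzt : ((z.1 : (P : Subgroup G)) : G) = t :=
      congrArg Subtype.val (e.injective (hez.trans het.symm))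
    intro x hx
    rw [hC, Subgroup.mem_centralizer_singleton_iff, ← hzt]
    exact congrArg Subtype.val (hzc ⟨x, hx⟩)
  have hodd : ¬ 2 ∣ C.index := hPC ▸ P.not_dvd_index
  -- the rotation
  set u : G := ((e.symm (DihedralGroup.r 1) : C) : G) with hu
  have huo : orderOf u = 4 := by
    rw [hu, Subgroup.orderOf_coe, e.symm.orderOf_eq, DihedralGroup.orderOf_r_one]
  have huC : u ∈ C := (e.symm (DihedralGroup.r 1)).2
  have hu2 : u ^ 2 = t := by
    have h2r : (DihedralGroup.r 1 : DihedralGroup 4) ^ 2 = DihedralGroup.r 2 := by decide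
    rw [hu, ← Subgroup.coe_pow, ← map_pow, h2r, ← het, e.symm_apply_apply]
  have hu4 : u ^ 4 = 1 := by rw [← huo]; exact pow_orderOf_eq_one u
  have ht2 : t * t = 1 := by rw [← pow_two, ← ht, pow_orderOf_eq_one]
  have ht1 : t ≠ 1 := fun h => by rw [h, orderOf_one] at ht; exact absurd ht (by norm_num)
  let U := Subgroup.zpowers u
  letI : Fintype U := Fintype.ofFinite _
  have hUC : U ≤ C := Subgroup.zpowers_le.mpr huC
  have hmemU : ∀ y : G, y ∈ U → y = 1 ∨ y = u ∨ y = t ∨ y = u ^ 3 := by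
    intro y hy
    obtain ⟨j, hj, rfl⟩ := Finset.mem_image.mp (mem_zpowers_iff_mem_range_orderOf.mp hy)
    rw [Finset.mem_range, huo] at hj
    interval_cases j
    · exact Or.inl (pow_zero u)
    · exact Or.inr (Or.inl (pow_one u))
    · exact Or.inr (Or.inr (Or.inl hu2))
    · exact Or.inr (Or.inr (Or.inr rfl))
  have hsq : ∀ y ∈ U, y ≠ 1 → y ≠ t → y ^ 2 = t := by
    intro y hy h1 h2
    rcases hmemU y hy with rfl | rfl | rfl | rfl
    · exact absurd rfl h1
    · exact hu2
    · exact absurd rfl h2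
    · rw [← pow_mul, show 3 * 2 = 4 + 2 from rfl, pow_add, hu4, one_mul, hu2]
  -- one class of involutions
  have hclass : ∀ s : G, orderOf s = 2 → IsConj t s := by
    intro s hs
    rcases H6.thompson_transfer P U (hUC.trans hPC.ge) (by
      rw [hPC, Subgroup.relIndex]
      have h := (U.subgroupOf C).card_mul_index
      rw [Nat.card_congr (Subgroup.subgroupOfEquivOfLe hUC).toEquiv, Nat.card_zpowers, huo, hcardC] at h
      omega) s hs with ⟨M, hMn, hM2, -⟩ | ⟨g, hg⟩
    · exfalso
      haveI := hMn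
      have hle : commutator G ≤ M := by
        haveI : Fact (Nat.Prime 2) := ⟨Nat.prime_two⟩
        haveI : IsCyclic (G ⧸ M) := isCyclic_of_prime_card (p := 2) (by rw [← Subgroup.index_eq_card, hM2])
        rw [← QuotientGroup.ker_mk' M]
        letI := IsCyclic.commGroup (α := G ⧸ M)
        exact Abelianization.commutator_subset_ker (QuotientGroup.mk' M)
      rw [hperf, top_le_iff] at hle
      rw [hle, Subgroup.index_top] at hM2
      exact absurd hM2 (by norm_num)
    · refine (isConj_iff.mpr ⟨g, ?_⟩ : IsConj s t).symm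
      have hord : orderOf (g * s * g⁻¹) = 2 := by
        rw [← hs]; simpa using (MulAut.conj g).orderOf_eq s
      by_contra hne
      have h := hsq _ hg (fun h => by rw [h, orderOf_one] at hord; omega) hne
      have h2 : (g * s * g⁻¹) ^ 2 = 1 := by rw [← hord]; exact pow_orderOf_eq_one _
      rw [h2] at h
      exact ht1 h.symm
  -- TI property of `U`
  have hTI : ∀ x : G, ∀ y ∈ U, y ≠ 1 → x⁻¹ * y * x ∈ U → x ∈ C := by
    intro x y hy hy1 hxy
    have hz1 : x⁻¹ * y * x ≠ 1 := fun h => hy1 (by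
      have h' := congrArg (fun z => x * z * x⁻¹) h
      simpa [mul_assoc] using h')
    rw [hC, Subgroup.mem_centralizer_singleton_iff]
    by_cases hyt : y = t
    · rw [hyt] at hxy hz1
      by_cases hzt : x⁻¹ * t * x = t
      · calc x * t = x * (x⁻¹ * t * x) := by rw [hzt]
          _ = t * x := by group
      · exfalso
        have h := hsq _ hxy hz1 hzt
        rw [pow_two, show x⁻¹ * t * x * (x⁻¹ * t * x) = x⁻¹ * (t * t) * x by group, ht2, mul_one,
          inv_mul_cancel] at h
        exact ht1 h.symm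
    · have hy2 := hsq y hy hy1 hyt
      by_cases hzt : x⁻¹ * y * x = t
      · exfalso
        have h : x⁻¹ * y ^ 2 * x = t * t := by rw [← hzt, pow_two]; group
        rw [hy2, ht2] at h
        have h' := congrArg (fun z => x * z * x⁻¹) h
        simp [mul_assoc] at h'
        exact ht1 h'
      · have h := hsq _ hxy hz1 hzt
        have h' : x⁻¹ * t * x = t :=
          calc x⁻¹ * t * x = x⁻¹ * (y * y) * x := by rw [← pow_two, hy2]
            _ = (x⁻¹ * y * x) ^ 2 := by rw [pow_two]; group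
            _ = t := h
        calc x * t = x * (x⁻¹ * t * x) := by rw [h']
          _ = t * x := by group
  -- the exceptional characters
  set γ : U := ⟨u, Subgroup.mem_zpowers u⟩ with hγ
  have hγgen : ∀ y : U, y ∈ Subgroup.zpowers γ := by
    rintro ⟨_, i, rfl⟩
    exact ⟨i, Subtype.ext (by simp [hγ])⟩
  have hγo : orderOf γ = 4 := by rw [← Subgroup.orderOf_coe]; exact huo
  let w : ℂˣ := Units.mk0 Complex.I Complex.I_ne_zero
  have hw : orderOf w ∣ orderOf γ := by
    rw [hγo]; exact orderOf_dvd_of_pow_eq_one (Units.ext (by simp [w]))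
  let lam := monoidHomOfForallMemZpowers hγgen hw
  have hlam : (lam γ : ℂ) = Complex.I := by
    rw [show lam γ = w from monoidHomOfForallMemZpowers_apply_gen hγgen hw]; rfl
  set φ : U → ℂ := (H12.linIrr (1 : U →* ℂˣ) : U → ℂ) - (H12.linIrr lam : U → ℂ) with hφ
  have hφa : ∀ y : U, φ y = 1 - (lam y : ℂ) := fun y => by simp [hφ, H12.linIrr_apply]
  set α : G → ℂ := Cfsg.indFun U φ with hα
  have hconjU : ∀ x ∈ C, ∀ y : U, (x ∈ U → x⁻¹ * (y : G) * x = y) ∧ (x ∉ U → x⁻¹ * (y : G) * x = (y : G)⁻¹) := by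
    intro x hx y
    have hxu : x⁻¹ * u * x = u ∨ x⁻¹ * u * x = u⁻¹ := by
      have h3 : (DihedralGroup.r 3 : DihedralGroup 4) = (DihedralGroup.r 1)⁻¹ := by decide
      rcases hconjr (e ⟨x, hx⟩)⁻¹ with h | h
      · left
        have h' := congrArg (fun q => ((e.symm q : C) : G)) h
        simp only [map_mul, map_inv, inv_inv, e.symm_apply_apply, Subgroup.coe_mul, Subgroup.coe_inv] at h'
        exact h'
      · right
        rw [h3] at h
        have h' := congrArg (fun q => ((e.symm q : C) : G)) h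
        simp only [map_mul, map_inv, inv_inv, e.symm_apply_apply, Subgroup.coe_mul, Subgroup.coe_inv] at h'
        exact h'
    obtain ⟨i, hi⟩ := Subgroup.mem_zpowers_iff.mp y.2
    have hxy : ∀ v : G, x⁻¹ * u * x = v → x⁻¹ * (y : G) * x = v ^ i := by
      intro v hv
      rw [← hi, ← hv]
      have := conj_zpow (i := i) (a := x⁻¹) (b := u)
      rw [inv_inv] at this
      exact this.symm
    constructor
    · intro hxU
      have hcom : x⁻¹ * u * x = u := by
        obtain ⟨k, rfl⟩ := Subgroup.mem_zpowers_iff.mp hxU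
        group
      rw [hxy u hcom, hi]
    · intro hxU
      have hninv : x⁻¹ * u * x = u⁻¹ := by
        rcases hxu with h | h
        · exfalso
          refine hxU ?_
          have hc : x * u = u * x := by
            calc x * u = x * (x⁻¹ * u * x) := by rw [h]
              _ = u * x := by group
          have hc' : e ⟨x, hx⟩ * DihedralGroup.r 1 = DihedralGroup.r 1 * e ⟨x, hx⟩ := by
            rw [← e.apply_symm_apply (DihedralGroup.r 1), ← map_mul, ← map_mul]
            exact congrArg e (Subtype.ext hc)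
          have hpw : ∀ j : ℕ, e ⟨x, hx⟩ = DihedralGroup.r 1 ^ j → x ∈ U := fun j hj => by
            have h' := congrArg (fun q => ((e.symm q : C) : G)) hj
            simp only [e.symm_apply_apply, map_pow, Subgroup.coe_pow] at h'
            rw [h']
            exact Subgroup.pow_mem _ (Subgroup.mem_zpowers u) j
          rcases hcr _ hc' with h' | h' | h' | h'
          · exact hpw 0 (by rw [h']; decide)
          · exact hpw 1 (by rw [h']; decide)
          · exact hpw 2 (by rw [h']; decide)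
          · exact hpw 3 (by rw [h']; decide)
        · exact h
      rw [hxy _ hninv, inv_zpow, hi]
  have hres : ∀ y : U, α y = (1 - (lam y : ℂ)) + (1 - ((lam⁻¹ : U →* ℂˣ) y : ℂ)) := by
    intro y
    by_cases hy : y = 1
    · subst hy
      rw [hα, OneMemClass.coe_one, H13.indFun_apply_one, hφa]
      simp
    have hy' : (y : G) ≠ 1 := fun h => hy (Subtype.ext h)
    have hout : ∀ x : G, x ∉ C → Cfsg.extendByZero U φ (x⁻¹ * (y : G) * x) = 0 := by
      intro x hx
      rw [H13.extendByZero_notMem _ _ fun h => hx (hTI x y y.2 hy' h)]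
    have hin : ∀ x : G, x ∈ U → Cfsg.extendByZero U φ (x⁻¹ * (y : G) * x) = 1 - (lam y : ℂ) := by
      intro x hx
      rw [(hconjU x (hUC hx) y).1 hx, H13.extendByZero_coe, hφa]
    have hin' : ∀ x : G, x ∈ C → x ∉ U →
        Cfsg.extendByZero U φ (x⁻¹ * (y : G) * x) = 1 - ((lam⁻¹ : U →* ℂˣ) y : ℂ) := by
      intro x hx hxU
      rw [(hconjU x hx y).2 hxU, ← Subgroup.coe_inv, H13.extendByZero_coe, hφa, map_inv]
      rfl
    have hc1 : (Finset.univ.filter fun x : G => x ∈ U).card = 4 := by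
      rw [← Fintype.card_subtype, ← Nat.card_eq_fintype_card]
      exact (Nat.card_zpowers u).trans huo
    have hc3 : (Finset.univ.filter fun x : G => x ∈ C).card = 8 := by
      rw [← Fintype.card_subtype, ← Nat.card_eq_fintype_card]
      exact hcardC
    have hc2 : (Finset.univ.filter fun x : G => x ∈ C ∧ x ∉ U).card = 4 := by
      have h4 := Finset.card_filter_add_card_filter_not (s := Finset.univ.filter fun x : G => x ∈ C)
        (fun x : G => x ∈ U)
      rw [Finset.filter_filter, Finset.filter_filter, hc3] at h4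
      have h5 : (Finset.univ.filter fun x : G => x ∈ C ∧ x ∈ U) = Finset.univ.filter fun x : G => x ∈ U :=
        Finset.filter_congr fun x _ => ⟨fun h => h.2, fun h => ⟨hUC h, h⟩⟩
      rw [h5, hc1] at h4
      omega
    rw [hα]
    unfold Cfsg.indFun
    have hsum : ∑ x : G, Cfsg.extendByZero U φ (x⁻¹ * (y : G) * x) =
        4 * (1 - (lam y : ℂ)) + 4 * (1 - ((lam⁻¹ : U →* ℂˣ) y : ℂ)) := by
      rw [← Finset.sum_filter_add_sum_filter_not Finset.univ (fun x : G => x ∈ C),
        Finset.sum_eq_zero (s := Finset.univ.filter fun x : G => ¬ x ∈ C)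
          (fun x hx => hout x (Finset.mem_filter.mp hx).2), add_zero,
        ← Finset.sum_filter_add_sum_filter_not (Finset.univ.filter fun x : G => x ∈ C) (fun x : G => x ∈ U),
        Finset.filter_filter, Finset.filter_filter]
      congr 1
      · rw [Finset.filter_congr (q := fun x : G => x ∈ U) fun x _ => ⟨fun h => h.2, fun h => ⟨hUC h, h⟩⟩,
          Finset.sum_congr rfl (fun x hx => hin x (Finset.mem_filter.mp hx).2), Finset.sum_const, hc1,
          nsmul_eq_mul]
        norm_num
      · rw [Finset.sum_congr rfl (fun x hx => hin' x (Finset.mem_filter.mp hx).2.1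
          (Finset.mem_filter.mp hx).2.2), Finset.sum_const, hc2, nsmul_eq_mul]
        norm_num
    rw [hsum, show Nat.card U = 4 from (Nat.card_zpowers u).trans huo]
    push_cast
    ring
  have hres' : (fun y : U => α y) = (H12.linIrr (1 : U →* ℂˣ) : U → ℂ) - (H12.linIrr lam : U → ℂ) +
      ((H12.linIrr (1 : U →* ℂˣ) : U → ℂ) - (H12.linIrr (lam⁻¹ : U →* ℂˣ) : U → ℂ)) :=
    funext fun y => by simp [hres y, H12.linIrr_apply]
  have hl1 : lam ≠ 1 := fun h => by
    rw [h] at hlam
    simp [Complex.ext_iff] at hlam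
  have hli : (lam⁻¹ : U →* ℂˣ) ≠ 1 := fun h =>
    hl1 (MonoidHom.ext fun y => inv_eq_one.mp (DFunLike.congr_fun h y))
  have hll : (lam⁻¹ : U →* ℂˣ) ≠ lam := fun h => by
    have h2 := congrArg (fun f : U →* ℂˣ => (f γ : ℂ)) h
    simp only [MonoidHom.inv_apply, Units.val_inv_eq_inv_val, hlam, Complex.inv_I] at h2
    simp [Complex.ext_iff] at h2
    norm_num at h2
  have hlin : ∀ f f' : U →* ℂˣ, f ≠ f' →
      classInner (H12.linIrr f : U → ℂ) (H12.linIrr f' : U → ℂ) = 0 := fun f f' h =>
    H12.classInner_irr_ne fun hh => h (H12.linIrr_injective hh)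
  have hself : ∀ f : U →* ℂˣ, classInner (H12.linIrr f : U → ℂ) (H12.linIrr f : U → ℂ) = 1 := fun f =>
    H16.ci_irr_self (H12.linIrr f).2
  have hnorm : classInner α α = ((3 : ℕ) : ℂ) := by
    nth_rewrite 1 [hα]
    rw [H13.classInner_indFun_left U φ (H13.indFun_isClassFunction U φ), hres', hφ]
    simp only [H16.ci_sub_left, H16.ci_add_right, H16.ci_sub_right, hself, hlin _ _ hl1.symm, hlin _ _ hl1,
      hlin _ _ hli.symm, hlin _ _ hll.symm]
    norm_num
  have hone : classInner α (fun _ => 1) = 1 := by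
    rw [hα, H13.classInner_indFun_left U φ (fun _ _ => rfl), hφ]
    have h1 : (fun _ : U => (1 : ℂ)) = (H12.linIrr (1 : U →* ℂˣ) : U → ℂ) :=
      funext fun y => by simp [H12.linIrr_apply]
    rw [h1, H16.ci_sub_left, hself, hlin _ _ hl1]
    norm_num
  obtain ⟨χ₁, χ₂, h₁, h₂, hn₁, hn₂, hdec⟩ := norm_three (H13.isGeneralizedCharacter_indFun U
    (H16.gen_sub (H16.gen_of_irr (H12.linIrr (1 : U →* ℂˣ)).2) (H16.gen_of_irr (H12.linIrr lam).2)))
    hnorm hone (by rw [H13.indFun_apply_one]; simp [H12.linIrr_apply])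
  have hdec' : α = (fun _ => (1 : ℂ)) + χ₂ - χ₁ := hdec
  have hval : ∀ x, α x = 1 + χ₂ x - χ₁ x := fun x => by rw [hdec']; simp
  -- degrees and values
  obtain ⟨d, hd, ed⟩ := H16.irr_one h₂
  have e1' : χ₁ 1 = ((d + 1 : ℕ) : ℂ) := by
    have h := hval 1
    rw [hα, H13.indFun_apply_one, hφa, map_one, Units.val_one, sub_self, mul_zero, ed] at h
    push_cast; linear_combination h
  have hu3 : u ^ 3 = u⁻¹ := by
    rw [eq_inv_iff_mul_eq_one, ← pow_succ]; exact hu4
  have hreal : ∀ χ : G → ℂ, IsIrrCharacter G χ → χ (u ^ 3) = χ u := by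
    intro χ hχ
    rw [hu3]
    obtain ⟨x, hx, hxU⟩ : ∃ x, x ∈ C ∧ x ∉ U := by
      by_contra hcon
      push Not at hcon
      have := Subgroup.card_dvd_of_le (show C ≤ U from hcon)
      rw [show Nat.card U = 4 from (Nat.card_zpowers u).trans huo, hcardC] at this
      omega
    have h := (hconjU x hx γ).2 hxU
    rw [show ((γ : U) : G) = u from rfl] at h
    rw [← h]
    simpa using H12.irr_isClassFunction ⟨χ, hχ⟩ u x⁻¹
  obtain ⟨a₁, b₁, ha₁, hb₁, hdb₁, hda₁⟩ :=
    cyclicFour_values (H12.isCharacter_of_isIrrCharacter h₁) u huo (hreal χ₁ h₁) (d + 1) e1'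
  obtain ⟨a₂, b₂, ha₂, hb₂, hdb₂, hda₂⟩ :=
    cyclicFour_values (H12.isCharacter_of_isIrrCharacter h₂) u huo (hreal χ₂ h₂) d ed
  rw [hu2] at hb₁ hb₂
  have hαu : α u = 2 := by
    have h := hres γ
    rw [MonoidHom.inv_apply, Units.val_inv_eq_inv_val, hlam, Complex.inv_I] at h
    rw [show α u = α ((γ : U) : G) from rfl, h]
    ring
  have hαt : α t = 4 := by
    have h := hres (γ ^ 2)
    rw [MonoidHom.inv_apply, Units.val_inv_eq_inv_val, map_pow, Units.val_pow_eq_pow_val, hlam,
      Complex.I_sq] at h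
    rw [show ((γ ^ 2 : U) : G) = t from by rw [Subgroup.coe_pow]; exact hu2] at h
    rw [h]; norm_num
  have hA : a₂ = a₁ + 1 := by
    have h := hval u
    rw [hαu, ha₁, ha₂] at h
    have : (a₂ : ℂ) = ((a₁ + 1 : ℤ) : ℂ) := by push_cast; linear_combination -h
    exact_mod_cast this
  have hB : b₂ = b₁ + 3 := by
    have h := hval t
    rw [hαt, hb₁, hb₂] at h
    have : (b₂ : ℂ) = ((b₁ + 3 : ℤ) : ℂ) := by push_cast; linear_combination -h
    exact_mod_cast this
  have hne12 : χ₁ ≠ χ₂ := fun h => by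
    rw [h, ed] at e1'
    have : d = d + 1 := by exact_mod_cast e1'
    omega
  let one' : IrrCharacter G := ⟨fun _ => 1, H12.isIrrCharacter_one⟩
  let c₁ : IrrCharacter G := ⟨χ₁, h₁⟩
  let c₂ : IrrCharacter G := ⟨χ₂, h₂⟩
  have hbound : ∀ g : G, 1 + Complex.normSq (χ₁ g) + Complex.normSq (χ₂ g) ≤
      (Nat.card (Subgroup.centralizer ({g} : Set G)) : ℝ) := by
    intro g
    rw [← H13.sum_normSq_irr g]
    have h := Finset.sum_le_sum_of_subset_of_nonneg (Finset.subset_univ ({one', c₁, c₂} : Finset (IrrCharacter G)))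
      (f := fun χ : IrrCharacter G => Complex.normSq ((χ : G → ℂ) g)) (fun _ _ _ => Complex.normSq_nonneg _)
    rw [Finset.sum_insert, Finset.sum_pair] at h
    · simpa [one', c₁, c₂, add_assoc] using h
    · exact fun h => hne12 (congrArg Subtype.val h)
    · simp only [Finset.mem_insert, Finset.mem_singleton, not_or]
      exact ⟨fun h => hn₁ (congrArg Subtype.val h).symm, fun h => hn₂ (congrArg Subtype.val h).symm⟩
  have hCu : Subgroup.centralizer ({u} : Set G) = U := by
    refine le_antisymm (fun x hx => ?_) (fun x hx => ?_)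
    · have hxu := Subgroup.mem_centralizer_singleton_iff.mp hx
      have hxC : x ∈ C := by
        rw [hC, Subgroup.mem_centralizer_singleton_iff, ← hu2]
        exact (Commute.pow_right hxu 2).eq
      by_contra hxU
      have h := (hconjU x hxC γ).2 hxU
      have h' : x⁻¹ * u * x = u := by rw [mul_assoc, ← hxu, inv_mul_cancel_left]
      rw [show ((γ : U) : G) = u from rfl, h'] at h
      have h2 : u ^ 2 = 1 := by rw [pow_two]; nth_rewrite 2 [h]; exact mul_inv_cancel u
      exact ht1 (hu2 ▸ h2)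
    · rw [Subgroup.mem_centralizer_singleton_iff]
      obtain ⟨k, rfl⟩ := Subgroup.mem_zpowers_iff.mp hx
      exact ((Commute.refl u).zpow_left k).eq
  have hAu : a₁ * a₁ + a₂ * a₂ ≤ 3 := by
    have h := hbound u
    rw [hCu, show Nat.card U = 4 from (Nat.card_zpowers u).trans huo, ha₁, ha₂, Complex.normSq_intCast,
      Complex.normSq_intCast] at h
    have : ((a₁ * a₁ + a₂ * a₂ : ℤ) : ℝ) ≤ ((3 : ℤ) : ℝ) := by push_cast at h ⊢; linarith
    exact_mod_cast this
  have hBt : b₁ * b₁ + b₂ * b₂ ≤ 7 := by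
    have h := hbound t
    rw [← hC, hcardC, hb₁, hb₂, Complex.normSq_intCast, Complex.normSq_intCast] at h
    have : ((b₁ * b₁ + b₂ * b₂ : ℤ) : ℝ) ≤ ((7 : ℤ) : ℝ) := by push_cast at h ⊢; linarith
    exact_mod_cast this
  -- counting pairs of involutions
  set T : ℕ := Nat.card {x : G // IsConj t x} with hT
  have hT8 : T * 8 = Nat.card G := by
    rw [hT, Nat.card_eq_fintype_card, Fintype.card_subtype, ← hcardC]
    exact H12.card_conjClass_mul_card_centralizer t
  have hinvol : ∀ v : G, IsConj t v ↔ v * v = 1 ∧ v ≠ 1 := by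
    intro v
    constructor
    · intro h
      obtain ⟨g, rfl⟩ := isConj_iff.mp h
      refine ⟨?_, fun h' => ht1 ?_⟩
      · rw [show g * t * g⁻¹ * (g * t * g⁻¹) = g * (t * t) * g⁻¹ by group, ht2, mul_one, mul_inv_cancel]
      · have := congrArg (fun z => g⁻¹ * z * g) h'
        simpa [mul_assoc] using this
    · intro h
      exact hclass v (orderOf_eq_prime (by rw [pow_two]; exact h.1) h.2)
  have hcount : ∀ y : U, y ≠ 1 →
      Nat.card {p : G × G // IsConj t p.1 ∧ IsConj t p.2 ∧ p.1 * p.2 = (y : G)} = 4 := by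
    intro y hy
    have hyC : (y : G) ∈ C := hUC y.2
    have hvC : ∀ v : G, v * v = 1 → (v * (y : G)) * (v * (y : G)) = 1 → v ∈ C := by
      intro v hv hvy
      have hvinv : v * (y : G) * v = (y : G)⁻¹ :=
        eq_inv_of_mul_eq_one_left (by rw [← hvy]; group)
      rw [hC, Subgroup.mem_centralizer_singleton_iff]
      have hvy2 : v * t * v = t := by
        by_cases hyt : (y : G) = t
        · rw [hyt] at hvinv
          rw [hvinv, inv_eq_of_mul_eq_one_right ht2]
        · have hy2 := hsq _ y.2 (fun h => hy (Subtype.ext h)) hyt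
          calc v * t * v = v * ((y : G) * (y : G)) * v := by rw [← pow_two, hy2]
            _ = (v * (y : G) * v) * (v * (y : G) * v) := by
                rw [show v * (y : G) * v * (v * (y : G) * v) = v * (y : G) * (v * v) * ((y : G) * v) by group, hv]
                group
            _ = ((y : G) * (y : G))⁻¹ := by rw [hvinv, mul_inv_rev]
            _ = t := by rw [← pow_two, hy2, inv_eq_of_mul_eq_one_right ht2]
      calc v * t = v * t * (v * v) := by rw [hv, mul_one]
        _ = (v * t * v) * v := by group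
        _ = t * v := by rw [hvy2]
    let Y : DihedralGroup 4 := e ⟨y, hyC⟩
    have hkey : ∀ v : G, IsConj t v → IsConj t (v⁻¹ * (y : G)) →
        v * v = 1 ∧ v ≠ 1 ∧ v ∈ C ∧ (v * (y : G)) * (v * (y : G)) = 1 ∧ v * (y : G) ≠ 1 := by
      intro v h1 h2
      obtain ⟨hv, hv1⟩ := (hinvol v).mp h1
      rw [inv_eq_of_mul_eq_one_right hv] at h2
      obtain ⟨hw, hw1⟩ := (hinvol _).mp h2
      exact ⟨hv, hv1, hvC v hv hw, hw, hw1⟩
    have hequiv : {p : G × G // IsConj t p.1 ∧ IsConj t p.2 ∧ p.1 * p.2 = (y : G)} ≃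
        {q : DihedralGroup 4 // q * q = 1 ∧ q ≠ 1 ∧ q * Y * (q * Y) = 1 ∧ q * Y ≠ 1} :=
      { toFun := fun p => by
          have h := hkey p.1.1 p.2.1 (by
            rw [← eq_inv_mul_iff_mul_eq.mpr p.2.2.2]; exact p.2.2.1)
          refine ⟨e ⟨p.1.1, h.2.2.1⟩, ?_, ?_, ?_, ?_⟩
          · rw [← map_mul, MulEquiv.map_eq_one_iff]; exact Subtype.ext h.1
          · rw [ne_eq, MulEquiv.map_eq_one_iff]; exact fun h' => h.2.1 (congrArg Subtype.val h')
          · rw [← map_mul, ← map_mul, MulEquiv.map_eq_one_iff]; exact Subtype.ext h.2.2.2.1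
          · rw [ne_eq, ← map_mul, MulEquiv.map_eq_one_iff]; exact fun h' => h.2.2.2.2 (congrArg Subtype.val h')
        invFun := fun q => by
          refine ⟨(((e.symm q.1 : C) : G), ((e.symm q.1 : C) : G) * (y : G)), ?_, ?_, ?_⟩
          · refine (hinvol _).mpr ⟨?_, fun h => q.2.2.1 ?_⟩
            · rw [← Subgroup.coe_mul, ← map_mul, q.2.1, map_one]; rfl
            · exact e.symm.injective (by rw [map_one]; exact Subtype.ext h)
          · refine (hinvol _).mpr ⟨?_, fun h => q.2.2.2.2 ?_⟩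
            · have hqy : (e.symm q.1 : C) * ⟨(y : G), hyC⟩ = e.symm (q.1 * Y) := by
                rw [map_mul, e.symm_apply_apply]
              rw [show ((e.symm q.1 : C) : G) * (y : G) = ((e.symm (q.1 * Y) : C) : G) by rw [← hqy]; rfl,
                ← Subgroup.coe_mul, ← map_mul, q.2.2.2.1, map_one]
              rfl
            · refine e.symm.injective ?_
              rw [map_one, map_mul, e.symm_apply_apply]
              exact Subtype.ext h
          · show ((e.symm q.1 : C) : G) * (((e.symm q.1 : C) : G) * (y : G)) = (y : G)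
            rw [← mul_assoc, ← Subgroup.coe_mul, ← map_mul, q.2.1, map_one]
            exact one_mul _
        left_inv := fun p => by
          have hv := ((hinvol p.1.1).mp p.2.1).1
          refine Subtype.ext (Prod.ext ?_ ?_)
          · show ((e.symm (e _) : C) : G) = p.1.1
            rw [e.symm_apply_apply]
          · show ((e.symm (e _) : C) : G) * (y : G) = p.1.2
            rw [e.symm_apply_apply]
            show p.1.1 * (y : G) = p.1.2
            calc p.1.1 * (y : G) = p.1.1 * (p.1.1 * p.1.2) := congrArg (p.1.1 * ·) p.2.2.2.symm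
              _ = p.1.2 := by rw [← mul_assoc, hv, one_mul]
        right_inv := fun q => by
          refine Subtype.ext ?_
          show e ⟨((e.symm q.1 : C) : G), _⟩ = q.1
          exact e.apply_symm_apply q.1 }
    rw [Nat.card_congr hequiv, Nat.card_eq_fintype_card]
    have hY : Y = DihedralGroup.r 1 ∨ Y = DihedralGroup.r 2 ∨ Y = DihedralGroup.r 3 := by
      rcases hmemU _ y.2 with h | h | h | h
      · exact absurd (Subtype.ext h) hy
      · left
        rw [← e.apply_symm_apply (DihedralGroup.r 1)]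
        exact congrArg e (Subtype.ext h)
      · right; left
        rw [← het]
        exact congrArg e (Subtype.ext h)
      · right; right
        have h3r : (DihedralGroup.r 1 : DihedralGroup 4) ^ 3 = DihedralGroup.r 3 := by decide
        rw [← h3r, ← e.apply_symm_apply (DihedralGroup.r 1), ← map_pow]
        exact congrArg e (Subtype.ext h)
    rcases hY with h | h | h <;> simp only [h] <;> decide
  -- orthogonality with the class multiplication function
  let wf : IrrCharacter G → ℂ := fun χ => (χ : G → ℂ) t * (χ : G → ℂ) t / (χ : G → ℂ) 1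
  have hG0 : (Nat.card G : ℂ) ≠ 0 := Nat.cast_ne_zero.mpr Nat.card_pos.ne'
  have hT0 : (T : ℂ) ≠ 0 := Nat.cast_ne_zero.mpr (fun h => by rw [h, zero_mul] at hT8; exact Nat.card_pos.ne hT8)
  have hTC : (T : ℂ) * 8 = Nat.card G := by exact_mod_cast hT8
  have hf : ∀ y : U, y ≠ 1 → ∑ χ : IrrCharacter G, wf χ * conj ((χ : G → ℂ) y) = 256 / (Nat.card G : ℂ) := by
    intro y hy
    have h := Cfsg.Agent.S0840.result t t (y : G)
    rw [hcount y hy, finsum_eq_sum_of_fintype, ← hT] at h
    have hsum : ∑ χ : IrrCharacter G, wf χ * conj ((χ : G → ℂ) y) =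
        ∑ χ : IrrCharacter G, (χ : G → ℂ) t * (χ : G → ℂ) t * conj ((χ : G → ℂ) y) / (χ : G → ℂ) 1 :=
      Finset.sum_congr rfl fun χ _ => div_mul_eq_mul_div _ _ _
    rw [← hsum] at h
    push_cast at h
    set σ := ∑ χ : IrrCharacter G, wf χ * conj ((χ : G → ℂ) y)
    rw [eq_div_iff hG0, ← hTC]
    rw [← hTC] at h
    field_simp at h
    linear_combination (-8 : ℂ) * h
  have hS : ∑ χ : IrrCharacter G, wf χ * classInner α (χ : G → ℂ) = 256 / (Nat.card G : ℂ) := by
    have e1 : ∀ χ : IrrCharacter G, classInner α (χ : G → ℂ) = classInner φ (fun y : U => (χ : G → ℂ) y) :=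
      fun χ => H13.classInner_indFun_left U φ (H12.irr_isClassFunction χ)
    rw [Finset.sum_congr rfl (g := fun χ : IrrCharacter G => wf χ * classInner φ (fun y : U => (χ : G → ℂ) y))
      (fun χ _ => by rw [e1 χ])]
    simp only [Cfsg.classInner, Finset.mul_sum]
    rw [Finset.sum_comm]
    have e2 : ∀ y : U, ∑ χ : IrrCharacter G, wf χ * ((Nat.card U : ℂ)⁻¹ * (φ y * conj ((χ : G → ℂ) y))) =
        (Nat.card U : ℂ)⁻¹ * (256 / (Nat.card G : ℂ)) * φ y := by
      intro y
      by_cases hy : y = 1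
      · subst hy
        simp [hφa]
      · rw [← hf y hy, Finset.mul_sum, Finset.sum_mul]
        exact Finset.sum_congr rfl fun χ _ => by ring
    rw [Finset.sum_congr rfl (fun y _ => e2 y), ← Finset.mul_sum]
    have hφsum : ∑ y : U, φ y = (Nat.card U : ℂ) := by
      have := hone
      rw [hα, H13.classInner_indFun_left U φ (fun _ _ => rfl)] at this
      simp only [Cfsg.classInner, map_one, mul_one] at this
      rwa [inv_mul_eq_one₀ (Nat.cast_ne_zero.mpr Nat.card_pos.ne'), eq_comm] at this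
    rw [hφsum]
    field_simp
  have hpick : ∀ (ψ : G → ℂ) (hψ : IsIrrCharacter G ψ),
      ∑ χ : IrrCharacter G, wf χ * classInner ψ (χ : G → ℂ) = wf ⟨ψ, hψ⟩ := by
    intro ψ hψ
    rw [Finset.sum_eq_single (⟨ψ, hψ⟩ : IrrCharacter G)]
    · rw [H16.ci_irr_self hψ, mul_one]
    · intro χ _ hχ
      rw [H16.ci_irr_ne hψ χ.2 (fun e' => hχ (Subtype.ext e'.symm)), mul_zero]
    · simp
  simp only [hdec', H16.ci_sub_left, H16.ci_add_left, mul_sub, mul_add, Finset.sum_sub_distrib,
    Finset.sum_add_distrib, hpick _ H12.isIrrCharacter_one, hpick _ h₂, hpick _ h₁] at hS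
  simp only [wf, hb₁, hb₂, e1', ed, mul_one, div_one] at hS
  have hmain : (Nat.card G : ℤ) * ((d : ℤ) * (d + 1) + b₂ * b₂ * (d + 1) - b₁ * b₁ * d) =
      256 * ((d : ℤ) * (d + 1)) := by
    have hd0 : (d : ℂ) ≠ 0 := Nat.cast_ne_zero.mpr hd.ne'
    have hd1 : (d : ℂ) + 1 ≠ 0 := by
      rw [← Nat.cast_one, ← Nat.cast_add]; exact Nat.cast_ne_zero.mpr (Nat.succ_ne_zero d)
    push_cast at hS
    field_simp at hS
    have h : (((Nat.card G : ℤ) * ((d : ℤ) * (d + 1) + b₂ * b₂ * (d + 1) - b₁ * b₁ * d) : ℤ) : ℂ) =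
        ((256 * ((d : ℤ) * (d + 1)) : ℤ) : ℂ) := by
      push_cast
      linear_combination hS
    exact_mod_cast h
  -- arithmetic
  have h8 : Nat.card G = 8 * C.index := by rw [← hcardC]; exact C.card_mul_index.symm
  have hb1r : b₁ = -1 ∨ b₁ = -2 := by
    have h1 : -3 ≤ b₁ := by nlinarith
    have h2 : b₁ ≤ 0 := by nlinarith
    interval_cases b₁ <;> subst hB <;> omega
  have ha1r : a₁ = 0 ∨ a₁ = -1 := by
    have h1 : -1 ≤ a₁ := by nlinarith
    have h2 : a₁ ≤ 0 := by nlinarith
    omega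
  set m := C.index
  rcases hb1r with hb | hb
  · subst hB; subst hb
    have hdmod : (d : ℤ) % 4 = 2 := by omega
    have hfac : (Nat.card G : ℤ) * (((d : ℤ) + 2) * ((d : ℤ) + 2)) = 256 * ((d : ℤ) * (d + 1)) := by
      linear_combination hmain
    have hdvd : (d + 2) ∣ 32 := by
      obtain ⟨k, hk⟩ : ∃ k : ℕ, d + 2 = 4 * k := ⟨(d + 2) / 4, by omega⟩
      have hk' : (d : ℤ) = 4 * k - 2 := by omega
      have hdiv : (k : ℤ) * (2 * k) ∣ 16 * ((2 * k - 1) * (4 * k - 1)) := by
        refine ⟨(Nat.card G : ℤ) / 4, ?_⟩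
        rw [h8]; push_cast
        rw [show (8 * (m : ℤ)) / 4 = 2 * m by omega]
        rw [h8, hk'] at hfac
        push_cast at hfac
        linarith
      have hk8 : (k : ℤ) ∣ 16 := by
        have h1 : (k : ℤ) ∣ 16 * ((2 * k - 1) * (4 * k - 1)) := (Dvd.intro _ rfl).trans hdiv
        have h2 : (k : ℤ) ∣ 16 * (8 * k - 6) * k := Dvd.intro_left _ rfl
        have h3 := dvd_sub h1 h2
        have h4 : 16 * ((2 * (k : ℤ) - 1) * (4 * k - 1)) - 16 * (8 * k - 6) * k = 16 := by ring
        rwa [h4] at h3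
      have hk16 : k ∣ 16 := by exact_mod_cast hk8
      have hk0 : k ≤ 16 := Nat.le_of_dvd (by norm_num) hk16
      rw [hk]
      interval_cases k <;> first | omega | (exfalso; push_cast at hdiv; norm_num at hdiv)
    have hle := Nat.le_of_dvd (by norm_num) hdvd
    have hd32 : d ≤ 30 := by omega
    have : d = 2 ∨ d = 6 ∨ d = 14 ∨ d = 30 := by
      interval_cases d <;> first | omega | norm_num at hdvd
    rcases this with rfl | rfl | rfl | rfl <;> norm_num at hfac <;> omega
  · subst hB; subst hb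
    have hdmod : (d : ℤ) % 4 = 1 := by omega
    have hfac : (Nat.card G : ℤ) * (((d : ℤ) - 1) * ((d : ℤ) - 1)) = 256 * ((d : ℤ) * (d + 1)) := by
      linear_combination hmain
    have hd1 : d ≠ 1 := by
      rintro rfl
      norm_num at hfac
    have hdvd : (d - 1) ∣ 32 := by
      obtain ⟨k, hk⟩ : ∃ k : ℕ, d - 1 = 4 * k := ⟨(d - 1) / 4, by omega⟩
      have hk' : (d : ℤ) = 4 * k + 1 := by omega
      have hdiv : (k : ℤ) * (2 * k) ∣ 16 * ((4 * k + 1) * (2 * k + 1)) := by
        refine ⟨(Nat.card G : ℤ) / 4, ?_⟩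
        rw [h8]; push_cast
        rw [show (8 * (m : ℤ)) / 4 = 2 * m by omega]
        rw [h8, hk'] at hfac
        push_cast at hfac
        linarith
      have hk8 : (k : ℤ) ∣ 16 := by
        have h1 : (k : ℤ) ∣ 16 * ((4 * k + 1) * (2 * k + 1)) := (Dvd.intro _ rfl).trans hdiv
        have h2 : (k : ℤ) ∣ 16 * (8 * k + 6) * k := Dvd.intro_left _ rfl
        have h3 := dvd_sub h1 h2
        have h4 : 16 * ((4 * (k : ℤ) + 1) * (2 * k + 1)) - 16 * (8 * k + 6) * k = 16 := by ring
        rwa [h4] at h3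
      have hk16 : k ∣ 16 := by exact_mod_cast hk8
      have hk0 : k ≤ 16 := Nat.le_of_dvd (by norm_num) hk16
      rw [hk]
      interval_cases k <;> first | omega | (exfalso; push_cast at hdiv; norm_num at hdiv)
    have hle := Nat.le_of_dvd (by norm_num) hdvd
    have hd33 : d ≤ 33 := by omega
    have : d = 5 ∨ d = 9 ∨ d = 17 ∨ d = 33 := by
      interval_cases d <;> first | omega | norm_num at hdvd
    rcases this with rfl | rfl | rfl | rfl <;> norm_num at hfac <;> omega

end H14
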