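import Cfsg.Agent.H12.Linear
import Cfsg.Agent.H24.CharBasic
import Cfsg.Agent.H17.RamifiedCyclic
import Cfsg.Agent.H17.CharTools

/-!
The inequality of Feit and Thompson for an abelian subgroup whose conjugates are separated by
centralizers of non-central elements.
-/

set_option autoImplicit false
set_option linter.unusedSectionVars false
set_option linter.style.haveILetI false

namespace H14.FTBound

open Cfsg Finset
open scoped ComplexConjugate

universe u

variable {G : Type u} [Group G] [Fintype G]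

theorem sum_normSq_mult (m : IrrCharacter G → ℕ) :
    ∑ g : G, Complex.normSq ((∑ ψ, (m ψ : ℂ) • (ψ : G → ℂ)) g) =
      (Nat.card G : ℝ) * ∑ ψ, (m ψ : ℝ) ^ 2 := by
  classical
  have h := H12.sum_mul_conj_eq_card_mul (∑ ψ, (m ψ : ℂ) • (ψ : G → ℂ))
    (∑ ψ, (m ψ : ℂ) • (ψ : G → ℂ))
  rw [H12.classInner_sum_smul_sum_smul] at h
  apply Complex.ofReal_injective
  push_cast
  simp only [← Complex.mul_conj, Complex.conj_natCast, ← pow_two] at h ⊢
  simpa [Complex.conj_natCast, pow_two] using h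

theorem sum_normSq_irr {χ : G → ℂ} (hχ : IsIrrCharacter G χ) :
    ∑ g : G, Complex.normSq (χ g) = (Nat.card G : ℝ) := by
  have h := H12.sum_mul_conj_eq_card_mul χ χ
  have h1 : classInner χ χ = 1 := H12.classInner_irr_self ⟨χ, hχ⟩
  rw [h1, mul_one] at h
  apply Complex.ofReal_injective
  push_cast
  simpa [Complex.mul_conj] using h

/-- The hypothesis on the conjugates of `H`. -/
def Sep (H : Subgroup G) : Prop :=
  ∀ g : G, g ∉ Subgroup.center G → ∀ a b : G,
    Subgroup.centralizer ({g} : Set G) ⊓ H.map (MulAut.conj a).toMonoidHom ≠ ⊥ →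
    Subgroup.centralizer ({g} : Set G) ⊓ H.map (MulAut.conj b).toMonoidHom ≠ ⊥ →
    H.map (MulAut.conj a).toMonoidHom = H.map (MulAut.conj b).toMonoidHom

open scoped Classical in
/-- The elements outside the center whose centralizer meets `H`. -/
noncomputable def supp (H : Subgroup G) : Finset G :=
  Finset.univ.filter fun g =>
    g ∉ Subgroup.center G ∧ ∃ h ∈ H, h ≠ 1 ∧ g * h = h * g

theorem mem_supp {H : Subgroup G} {g : G} :
    g ∈ supp H ↔ g ∉ Subgroup.center G ∧ ∃ h ∈ H, h ≠ 1 ∧ g * h = h * g := by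
  classical
  simp [supp]

theorem sum_upper {H : Subgroup G} (hone : Sep H) {χ : G → ℂ} (hχ : IsIrrCharacter G χ)
    (h1 : χ 1 ≠ 0) :
    ∑ g ∈ supp H, Complex.normSq (χ g) < (Nat.card (Subgroup.normalizer (H : Set G)) : ℝ) := by
  classical
  set N := Subgroup.normalizer (H : Set G) with hN
  letI : Fintype (G ⧸ N) := Fintype.ofFinite _
  have hcf : IsClassFunction G χ :=
    H12.IsCharacter.isClassFunction (H12.isCharacter_of_isIrrCharacter hχ)
  let F : (G ⧸ N) × G → G := fun x => x.1.out * x.2 * x.1.out⁻¹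
  have hmeet : ∀ (a : G), ∀ t ∈ supp H,
      Subgroup.centralizer ({a * t * a⁻¹} : Set G) ⊓ H.map (MulAut.conj a).toMonoidHom ≠ ⊥ := by
    intro a t ht hbot
    obtain ⟨-, h, hh, hne, hcomm⟩ := mem_supp.1 ht
    have hm : a * h * a⁻¹ ∈ (⊥ : Subgroup G) := hbot ▸
      ⟨Subgroup.mem_centralizer_singleton_iff.2
        (by
          calc a * h * a⁻¹ * (a * t * a⁻¹) = a * (h * t) * a⁻¹ := by group
            _ = a * (t * h) * a⁻¹ := by rw [hcomm]
            _ = a * t * a⁻¹ * (a * h * a⁻¹) := by group),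
        ⟨h, hh, rfl⟩⟩
    exact hne (by simpa using conj_eq_one_iff.1 (Subgroup.mem_bot.1 hm))
  have hinj : Set.InjOn F ↑((Finset.univ : Finset (G ⧸ N)) ×ˢ supp H) := by
    rintro ⟨q, t⟩ hx ⟨q', t'⟩ hy he
    simp only [Finset.coe_product, Set.mem_prod, Finset.mem_coe, Finset.mem_univ, true_and] at hx hy
    simp only [F] at he
    have hnc : q.out * t * q.out⁻¹ ∉ Subgroup.center G := by
      intro hc
      refine (mem_supp.1 hx).1 ?_
      have := Subgroup.Normal.conj_mem inferInstance _ hc q.out⁻¹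
      simpa [mul_assoc] using this
    have heq := hone _ hnc q.out q'.out (hmeet _ t hx) (he ▸ hmeet _ t' hy)
    have hq : q = q' := by
      rw [← q.out_eq', ← q'.out_eq']
      refine QuotientGroup.eq.2 ?_
      refine Subgroup.mem_normalizer_iff.2 fun h => ?_
      constructor
      · intro hh
        have hm : q'.out * h * q'.out⁻¹ ∈ H.map (MulAut.conj q'.out).toMonoidHom := ⟨h, hh, rfl⟩
        rw [← heq] at hm
        obtain ⟨k, hk, hke⟩ := hm
        have : q.out⁻¹ * q'.out * h * (q.out⁻¹ * q'.out)⁻¹ = k := by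
          have hke' : q.out * k * q.out⁻¹ = q'.out * h * q'.out⁻¹ := hke
          calc q.out⁻¹ * q'.out * h * (q.out⁻¹ * q'.out)⁻¹
              = q.out⁻¹ * (q'.out * h * q'.out⁻¹) * q.out := by group
            _ = q.out⁻¹ * (q.out * k * q.out⁻¹) * q.out := by rw [hke']
            _ = k := by group
        exact this ▸ hk
      · intro hh
        have hm : q.out * (q.out⁻¹ * q'.out * h * (q.out⁻¹ * q'.out)⁻¹) * q.out⁻¹ ∈
            H.map (MulAut.conj q.out).toMonoidHom := ⟨_, hh, rfl⟩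
        rw [heq] at hm
        obtain ⟨k, hk, hke⟩ := hm
        have hke' : q'.out * k * q'.out⁻¹ =
            q.out * (q.out⁻¹ * q'.out * h * (q.out⁻¹ * q'.out)⁻¹) * q.out⁻¹ := hke
        have : k = h := by
          calc k = q'.out⁻¹ * (q'.out * k * q'.out⁻¹) * q'.out := by group
            _ = h := by rw [hke']; group
        exact this ▸ hk
    subst hq
    have : t = t' := by simpa using he
    subst this
    rfl
  have hdisj : Disjoint (((Finset.univ : Finset (G ⧸ N)) ×ˢ supp H).image F)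
      ({1} : Finset G) := by
    rw [Finset.disjoint_singleton_right]
    intro h
    obtain ⟨⟨q, t⟩, hx, he⟩ := Finset.mem_image.1 h
    simp only [Finset.mem_product, Finset.mem_univ, true_and] at hx
    refine (mem_supp.1 hx).1 ?_
    have he' : q.out * t * q.out⁻¹ = 1 := he
    rw [conj_eq_one_iff.1 he']
    exact one_mem _
  have hle := Finset.sum_le_sum_of_subset_of_nonneg
    (Finset.subset_univ ((((Finset.univ : Finset (G ⧸ N)) ×ˢ supp H).image F) ∪ {1}))
    (fun g _ _ => Complex.normSq_nonneg (χ g))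
  rw [Finset.sum_union hdisj, Finset.sum_image hinj, Finset.sum_singleton, sum_normSq_irr hχ,
    Finset.sum_product] at hle
  have hval : ∀ (q : G ⧸ N) (t : G), χ (F (q, t)) = χ t := fun q t => hcf t q.out
  simp only [hval, Finset.sum_const, Finset.card_univ, nsmul_eq_mul] at hle
  rw [← Subgroup.card_mul_index N, Subgroup.index, Nat.card_eq_fintype_card (α := G ⧸ N)] at hle
  push_cast at hle
  have hpos : 0 < Complex.normSq (χ 1) := Complex.normSq_pos.2 h1
  have hi : (0 : ℝ) < Fintype.card (G ⧸ N) := by exact_mod_cast Fintype.card_pos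
  by_contra hc
  push Not at hc
  nlinarith [mul_le_mul_of_nonneg_left hc hi.le]

theorem sum_lower (H : Subgroup G) [Fintype H] (hab : ∀ a ∈ H, ∀ b ∈ H, a * b = b * a)
    (hZ : H ⊓ Subgroup.center G = ⊥) {χ : G → ℂ} (hχ : IsIrrCharacter G χ)
    (hker : ∃ h ∈ H, χ h ≠ χ 1) :
    (Nat.card (Subgroup.normalizer (H : Set G)) : ℝ) +
        (Nat.card (Subgroup.center G) : ℝ) *
          ((Nat.card H : ℝ) * Complex.normSq (classInner (fun h : H => χ h) (fun _ => 1))) ≤
      ∑ g ∈ supp H, Complex.normSq (χ g) +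
        (Nat.card (Subgroup.center G) : ℝ) * Complex.normSq (χ 1) := by
  classical
  set N := Subgroup.normalizer (H : Set G) with hNdef
  haveI hHn : (H.subgroupOf N).Normal := Subgroup.normal_in_normalizer
  set K := H.subgroupOf N with hK
  letI : Fintype N := Fintype.ofFinite _
  letI : Fintype K := Fintype.ofFinite _
  have hHN : H ≤ N := Subgroup.le_normalizer
  let e : K ≃ H := (Subgroup.subgroupOfEquivOfLe hHN).toEquiv
  have hchar : IsCharacter N (fun n : N => χ n) :=
    H12.IsCharacter.res (H12.isCharacter_of_isIrrCharacter hχ) N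
  obtain ⟨m, hm⟩ := H12.IsCharacter.exists_mult hchar
  set m' : IrrCharacter N → ℕ := fun ψ => if K ≤ H24.kerChar ψ then m ψ else 0 with hm'
  set α : N → ℂ := ∑ ψ, (m' ψ : ℂ) • (ψ : N → ℂ) with hα
  have hcard : (Nat.card H : ℂ) ≠ 0 := by exact_mod_cast Nat.card_pos.ne'
  -- the average over the cosets
  have havg : ∀ n : N, ∑ h : H, χ ((n : G) * h) = (Nat.card H : ℂ) * α n := by
    intro n
    have h1 : ∑ h : H, χ ((n : G) * h) = ∑ k : K, (fun n : N => χ n) (n * k) :=
      (Fintype.sum_equiv e _ _ fun k => rfl).symm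
    rw [h1, hm, hα]
    simp only [Finset.sum_apply, Pi.smul_apply, smul_eq_mul, Finset.mul_sum]
    rw [Finset.sum_comm]
    refine Finset.sum_congr rfl fun ψ _ => ?_
    rw [← Finset.mul_sum]
    by_cases hψ : K ≤ H24.kerChar ψ
    · rw [Finset.sum_congr rfl fun (k : K) _ => H24.irr_mul_of_mem_ker ψ n (k : N) (hψ k.2),
        Finset.sum_const, Finset.card_univ, ← Nat.card_eq_fintype_card,
        Nat.card_congr e, nsmul_eq_mul]
      simp only [hm', if_pos hψ]
      ring
    · rw [H17.RamifiedCyclic.sum_coset_eq_zero K (H12.isCharacter_irr ψ)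
        (H24.sum_normal_eq_zero ψ K hψ) n]
      simp [hm', hψ]
  -- some constituent is nontrivial on `H`
  have hex : ∃ ψ, m ψ ≠ 0 ∧ ¬ K ≤ H24.kerChar ψ := by
    by_contra hno
    push Not at hno
    obtain ⟨h, hh, hne⟩ := hker
    apply hne
    have h0 := congrFun hm ⟨h, hHN hh⟩
    have h1 := congrFun hm 1
    simp only [Finset.sum_apply, Pi.smul_apply, smul_eq_mul, OneMemClass.coe_one] at h0 h1
    rw [h0, h1]
    refine Finset.sum_congr rfl fun ψ _ => ?_
    by_cases hψ : m ψ = 0
    · simp [hψ]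
    · rw [H24.mem_kerChar.1 (hno ψ hψ (x := ⟨h, hHN hh⟩) hh)]
  have hnorm : (Nat.card N : ℝ) + ∑ n : N, Complex.normSq (α n) ≤
      ∑ n : N, Complex.normSq (χ n) := by
    have hsum : ∑ n : N, Complex.normSq (χ n) =
        ∑ n : N, Complex.normSq ((∑ ψ, (m ψ : ℂ) • (ψ : N → ℂ)) n) :=
      Finset.sum_congr rfl fun n _ => by rw [← hm]
    rw [hsum, hα, sum_normSq_mult, sum_normSq_mult]
    obtain ⟨ψ, hψ, hψK⟩ := hex
    have hlt : (∑ φ, m' φ ^ 2) + 1 ≤ ∑ φ, m φ ^ 2 := by
      refine Nat.succ_le_of_lt (Finset.sum_lt_sum (fun φ _ => ?_) ⟨ψ, Finset.mem_univ _, ?_⟩)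
      · simp only [hm']
        split_ifs <;> simp
      · simp only [hm', if_neg hψK]
        simpa using Nat.pos_of_ne_zero (pow_ne_zero 2 hψ)
    have hlt' : ((∑ φ, m' φ ^ 2 : ℕ) : ℝ) + 1 ≤ ((∑ φ, m φ ^ 2 : ℕ) : ℝ) := by
      exact_mod_cast hlt
    push_cast at hlt'
    nlinarith [show (0 : ℝ) ≤ Nat.card N from Nat.cast_nonneg _]
  -- off the support and the center the character is its average
  have hout : ∀ n : N, (n : G) ∉ supp H → (n : G) ∉ Subgroup.center G → α n = χ n := by
    intro n hs hc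
    have hfp : ∀ h ∈ H, (n : G) * h = h * n → h = 1 := fun h hh he => by
      by_contra hne
      exact hs (mem_supp.2 ⟨hc, h, hh, hne, he⟩)
    have hnm : ∀ k : H, (n : G)⁻¹ * k * n ∈ H := fun k =>
      (Subgroup.mem_normalizer_iff''.1 n.2 k).1 k.2
    let c : H → H := fun k => ⟨(n : G)⁻¹ * k * n * (k : G)⁻¹, mul_mem (hnm k) (inv_mem k.2)⟩
    have hcinj : Function.Injective c := by
      intro a b he
      have he' : (n : G)⁻¹ * a * n * (a : G)⁻¹ = (n : G)⁻¹ * b * n * (b : G)⁻¹ :=
        congrArg Subtype.val he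
      have hone : (b : G)⁻¹ * a = 1 := by
        refine hfp _ (mul_mem (inv_mem b.2) a.2) ?_
        have e1 : (n : G)⁻¹ * ((b : G)⁻¹ * a) * n = (b : G)⁻¹ * a := by
          calc (n : G)⁻¹ * ((b : G)⁻¹ * a) * n
              = ((n : G)⁻¹ * b * n)⁻¹ * ((n : G)⁻¹ * a * n * (a : G)⁻¹) * a := by group
            _ = ((n : G)⁻¹ * b * n)⁻¹ * ((n : G)⁻¹ * b * n * (b : G)⁻¹) * a := by rw [he']
            _ = (b : G)⁻¹ * a := by group
        calc (n : G) * ((b : G)⁻¹ * a)
            = n * ((n : G)⁻¹ * ((b : G)⁻¹ * a) * n) := by rw [e1]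
          _ = (b : G)⁻¹ * a * n := by group
      exact Subtype.ext (inv_mul_eq_one.1 hone).symm
    have hcsurj : Function.Surjective c := Finite.surjective_of_injective hcinj
    have hconst : ∀ h : H, χ ((n : G) * h) = χ n := by
      intro h
      obtain ⟨k, rfl⟩ := hcsurj h
      have : (n : G) * (c k : G) = (k : G) * n * (k : G)⁻¹ := by
        simp only [c]; group
      rw [this]
      exact H12.IsCharacter.isClassFunction (H12.isCharacter_of_isIrrCharacter hχ) _ _
    have h2 := havg n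
    rw [Finset.sum_congr rfl fun h _ => hconst h, Finset.sum_const, Finset.card_univ,
      ← Nat.card_eq_fintype_card, nsmul_eq_mul] at h2
    exact (mul_left_cancel₀ hcard h2).symm
  -- the products of central elements and elements of `H`
  have hCN : Subgroup.center G ≤ N := fun z hz => by
    rw [hNdef, Subgroup.mem_normalizer_iff]
    intro h
    rw [← Subgroup.mem_center_iff.1 hz h, mul_inv_cancel_right]
  obtain ⟨ω, hω⟩ := H17.exists_central_char hχ (Subgroup.center G) le_rfl
  have hω1 : ∀ z : Subgroup.center G, Complex.normSq (ω z : ℂ) = 1 := by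
    intro z
    have hpow : (ω z : ℂ) ^ orderOf z = 1 := by
      rw [← Units.val_pow_eq_pow_val, ← map_pow, pow_orderOf_eq_one, map_one, Units.val_one]
    rw [Complex.normSq_eq_norm_sq,
      H12.norm_eq_one_of_pow_eq_one (orderOf_pos z).ne' hpow, one_pow]
  set a := classInner (fun h : H => χ h) (fun _ => 1) with ha
  have hsumH : ∑ h : H, χ h = (Nat.card H : ℂ) * a := by
    rw [ha, ← H12.sum_mul_conj_eq_card_mul]; simp
  let P : Subgroup.center G × H → N := fun x =>
    ⟨(x.1 : G) * (x.2 : G), mul_mem (hCN x.1.2) (hHN x.2.2)⟩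
  have hPα : ∀ x, Complex.normSq (α (P x)) = Complex.normSq a := by
    rintro ⟨z, h⟩
    have h2 := havg (P (z, h))
    have h3 : ∑ k : H, χ ((P (z, h) : G) * k) = (ω z : ℂ) * ((Nat.card H : ℂ) * a) := by
      rw [← hsumH, Finset.mul_sum]
      refine Fintype.sum_equiv (Equiv.mulLeft h) _ _ fun k => ?_
      show χ ((z : G) * (h : G) * k) = _
      rw [mul_assoc, hω]
      rfl
    rw [h3, ← mul_assoc, mul_comm (ω z : ℂ), mul_assoc] at h2
    rw [← mul_left_cancel₀ hcard h2, map_mul, hω1, one_mul]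
  have hPinj : Function.Injective P := by
    rintro ⟨z, h⟩ ⟨z', h'⟩ he
    have he' : (z : G) * h = (z' : G) * h' := congrArg Subtype.val he
    have hb : (z' : G)⁻¹ * z = (h' : G) * (h : G)⁻¹ := by
      rw [eq_mul_inv_iff_mul_eq, mul_assoc, he', inv_mul_cancel_left]
    have hm2 : (z' : G)⁻¹ * z ∈ H ⊓ Subgroup.center G :=
      Subgroup.mem_inf.2 ⟨hb ▸ H.mul_mem h'.2 (H.inv_mem h.2),
        (Subgroup.center G).mul_mem ((Subgroup.center G).inv_mem z'.2) z.2⟩
    rw [hZ, Subgroup.mem_bot, inv_mul_eq_one] at hm2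
    have hz : z' = z := Subtype.ext hm2
    subst hz
    exact Prod.ext rfl (Subtype.ext (mul_left_cancel he'))
  have hPA : ∀ x, (P x : G) ∈ supp H ∨ (P x : G) ∈ Subgroup.center G := by
    rintro ⟨z, h⟩
    by_cases hc : (P (z, h) : G) ∈ Subgroup.center G
    · exact Or.inr hc
    refine Or.inl (mem_supp.2 ⟨hc, h, h.2, ?_, ?_⟩)
    · intro h1
      refine hc ?_
      show (z : G) * (h : G) ∈ _
      rw [h1, mul_one]
      exact z.2
    · show (z : G) * h * h = h * ((z : G) * h)
      rw [← mul_assoc, Subgroup.mem_center_iff.1 z.2 h]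
  set A := (Finset.univ : Finset N).filter
    fun n : N => (n : G) ∈ supp H ∨ (n : G) ∈ Subgroup.center G with hA
  have hsplit : ∀ f : N → ℝ, ∑ n : N, f n = ∑ n ∈ A, f n +
      ∑ n ∈ (Finset.univ : Finset N) \ A, f n := fun f => by
    rw [add_comm, Finset.sum_sdiff (Finset.subset_univ A)]
  have hcompl : ∑ n ∈ (Finset.univ : Finset N) \ A, Complex.normSq (α n) =
      ∑ n ∈ (Finset.univ : Finset N) \ A, Complex.normSq (χ n) := by
    refine Finset.sum_congr rfl fun n hn => ?_
    simp only [hA, Finset.mem_sdiff, Finset.mem_univ, Finset.mem_filter, true_and, not_or] at hn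
    rw [hout n hn.1 hn.2]
  rw [hsplit, hsplit, hcompl] at hnorm
  have hA1 : (Nat.card (Subgroup.center G) : ℝ) * ((Nat.card H : ℝ) * Complex.normSq a) ≤
      ∑ n ∈ A, Complex.normSq (α n) := by
    have h5 := Finset.sum_le_sum_of_subset_of_nonneg (f := fun n : N => Complex.normSq (α n))
      (s := (Finset.univ : Finset (Subgroup.center G × H)).image P) (t := A)
      (fun n hn => by
        obtain ⟨x, -, rfl⟩ := Finset.mem_image.1 hn
        exact Finset.mem_filter.2 ⟨Finset.mem_univ _, hPA x⟩)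
      (fun n _ _ => Complex.normSq_nonneg _)
    rw [Finset.sum_image hPinj.injOn, Finset.sum_congr rfl fun x _ => hPα x, Finset.sum_const,
      Finset.card_univ, ← Nat.card_eq_fintype_card, Nat.card_prod, nsmul_eq_mul] at h5
    push_cast at h5
    rw [← mul_assoc]
    exact h5
  have hA2 : ∑ n ∈ A, Complex.normSq (χ n) ≤ ∑ g ∈ supp H, Complex.normSq (χ g) +
      (Nat.card (Subgroup.center G) : ℝ) * Complex.normSq (χ 1) := by
    have hdis : Disjoint (supp H)
        ((Finset.univ : Finset G).filter fun g => g ∈ Subgroup.center G) :=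
      Finset.disjoint_filter.2 (fun _ _ h => h.1) |>.mono le_rfl le_rfl
    have h6 := Finset.sum_le_sum_of_subset_of_nonneg (f := fun g : G => Complex.normSq (χ g))
      (s := A.image fun n : N => (n : G))
      (t := supp H ∪ (Finset.univ : Finset G).filter fun g => g ∈ Subgroup.center G)
      (fun g hg => by
        obtain ⟨n, hn, rfl⟩ := Finset.mem_image.1 hg
        rcases (Finset.mem_filter.1 hn).2 with h | h
        · exact Finset.mem_union_left _ h
        · exact Finset.mem_union_right _ (Finset.mem_filter.2 ⟨Finset.mem_univ _, h⟩))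
      (fun g _ _ => Complex.normSq_nonneg _)
    rw [Finset.sum_image Subtype.val_injective.injOn, Finset.sum_union hdis] at h6
    refine h6.trans_eq ?_
    congr 1
    rw [Finset.sum_congr rfl fun g hg => ?_, Finset.sum_const, nsmul_eq_mul,
      ← Fintype.card_subtype, ← Nat.card_eq_fintype_card]
    rcases Finset.mem_filter.1 hg with ⟨-, hg⟩
    have h7 := hω ⟨g, hg⟩ 1
    rw [mul_one] at h7
    rw [h7, map_mul, hω1, one_mul]
  linarith

/-- The first inequality: `χ(1)² > |H| · a²`. -/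
theorem degree_sq_gt (H : Subgroup G) [Fintype H] (hab : ∀ a ∈ H, ∀ b ∈ H, a * b = b * a)
    (hZ : H ⊓ Subgroup.center G = ⊥) (hone : Sep H) {χ : G → ℂ} (hχ : IsIrrCharacter G χ)
    (hker : ∃ h ∈ H, χ h ≠ χ 1) :
    (Nat.card H : ℝ) * (classInner (fun h : H => χ h) (fun _ => 1)).re ^ 2 < (χ 1).re ^ 2 := by
  have h1 : χ 1 ≠ 0 := H12.irr_apply_one_ne_zero ⟨χ, hχ⟩
  have hl := sum_lower H hab hZ hχ hker
  have hu := sum_upper hone hχ h1
  obtain ⟨d, hd⟩ := H12.IsCharacter.apply_one (H12.isCharacter_of_isIrrCharacter hχ)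
  obtain ⟨k, hk⟩ := H12.IsCharacter.classInner_nat
    (H12.IsCharacter.res (H12.isCharacter_of_isIrrCharacter hχ) H)
    (H12.isCharacter_one (G := H))
  rw [hd, hk] at hl ⊢
  simp only [Complex.normSq_natCast] at hl
  simp only [Complex.natCast_re, pow_two]
  by_contra hc
  push Not at hc
  nlinarith [mul_le_mul_of_nonneg_left hc
    (show (0 : ℝ) ≤ Nat.card (Subgroup.center G) from Nat.cast_nonneg _)]

/-- The second inequality: `(1 + χ(1))² > |H|`. -/
theorem card_lt_sq (H : Subgroup G) [Fintype H] (hab : ∀ a ∈ H, ∀ b ∈ H, a * b = b * a)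
    (hZ : H ⊓ Subgroup.center G = ⊥) (hone : Sep H) {χ : G → ℂ} (hχ : IsIrrCharacter G χ)
    (hne : χ 1 ≠ 1) (hmax : ∀ M : Subgroup G, M.Normal → H ≤ M → M = ⊤) :
    (Nat.card H : ℝ) < (1 + (χ 1).re) ^ 2 := by
  classical
  have hch := H12.isCharacter_of_isIrrCharacter hχ
  obtain ⟨d, hd⟩ := H12.IsCharacter.apply_one hch
  have hsq : IsCharacter G (fun g => χ g * conj (χ g)) :=
    H12.IsCharacter.mul hch (H12.IsCharacter.star hch)
  obtain ⟨c, hc⟩ := H12.IsCharacter.exists_mult hsq
  -- the trivial character occurs once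
  have hc1 : c (H12.oneIrr G) = 1 := by
    have h1 : classInner (fun g => χ g * conj (χ g)) (H12.oneIrr G : G → ℂ) =
        classInner χ χ := by
      simp [H12.classInner_def, H12.oneIrr_apply]
    rw [hc, H12.classInner_sum_smul_irr,
      show classInner χ χ = 1 from H12.classInner_irr_self ⟨χ, hχ⟩] at h1
    exact_mod_cast h1
  choose r hr using fun ψ : IrrCharacter G => H12.IsCharacter.classInner_nat
    (H12.IsCharacter.res (H12.isCharacter_irr ψ) H) (H12.isCharacter_one (G := H))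
  have hr1 : r (H12.oneIrr G) = 1 := by
    have h2 := hr (H12.oneIrr G)
    have h3 : classInner (fun h : H => (H12.oneIrr G : G → ℂ) h) (fun _ => 1) = 1 :=
      H12.classInner_irr_self (H12.oneIrr H)
    rw [h3] at h2
    exact_mod_cast h2.symm
  -- the trivial character of `H` occurs at least `χ(1)` times
  obtain ⟨l, hl⟩ := H12.IsCharacter.exists_mult (H12.IsCharacter.res hch H)
  have hlin : ∀ θ : IrrCharacter H, (θ : H → ℂ) 1 = 1 :=
    H12.irr_apply_one_of_comm fun a b => Subtype.ext (hab a a.2 b b.2)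
  have hsuml : ∑ θ, l θ = d := by
    have h4 := congrFun hl 1
    simp only [Finset.sum_apply, Pi.smul_apply, smul_eq_mul, hlin, mul_one,
      OneMemClass.coe_one, hd] at h4
    exact_mod_cast h4.symm
  have hdc : d ≤ ∑ ψ, c ψ * r ψ := by
    have h5 : classInner (fun h : H => χ h * conj (χ h)) (fun _ => 1) =
        classInner (fun h : H => χ h) (fun h : H => χ h) := by
      simp [H12.classInner_def]
    have h6 : classInner (fun h : H => χ h * conj (χ h)) (fun _ => 1) =
        ∑ ψ, (c ψ : ℂ) * (r ψ : ℂ) := by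
      have h7 : (fun h : H => χ h * conj (χ h)) =
          ∑ ψ, (c ψ : ℂ) • fun h : H => (ψ : G → ℂ) h := by
        funext h
        have h8 := congrFun hc (h : G)
        simp only [Finset.sum_apply, Pi.smul_apply] at h8 ⊢
        exact h8
      rw [h7, H12.classInner_sum_left]
      exact Finset.sum_congr rfl fun ψ _ => by rw [H12.classInner_smul_left, hr]
    rw [h5, hl, H12.classInner_sum_smul_sum_smul] at h6
    simp only [Complex.conj_natCast] at h6
    have h9 : ∑ θ, l θ * l θ = ∑ ψ, c ψ * r ψ := by exact_mod_cast h6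
    rw [← h9, ← hsuml]
    exact Finset.sum_le_sum fun θ _ => Nat.le_mul_self _
  -- degrees
  choose e he using fun ψ : IrrCharacter G =>
    H12.IsCharacter.apply_one (H12.isCharacter_irr ψ)
  have hde : d * d = ∑ ψ, c ψ * e ψ := by
    have h10 := congrFun hc 1
    simp only [Finset.sum_apply, Pi.smul_apply, smul_eq_mul, he, hd, Complex.conj_natCast] at h10
    exact_mod_cast h10
  set S := (Finset.univ : Finset (IrrCharacter G)).erase (H12.oneIrr G) with hS
  have he1 : e (H12.oneIrr G) = 1 := by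
    have := he (H12.oneIrr G)
    rw [H12.oneIrr_apply] at this
    exact_mod_cast this.symm
  have hsplit1 : ∑ ψ, c ψ * r ψ = 1 + ∑ ψ ∈ S, c ψ * r ψ := by
    rw [← Finset.add_sum_erase _ _ (Finset.mem_univ (H12.oneIrr G)), hc1, hr1]
  have hsplit2 : ∑ ψ, c ψ * e ψ = 1 + ∑ ψ ∈ S, c ψ * e ψ := by
    rw [← Finset.add_sum_erase _ _ (Finset.mem_univ (H12.oneIrr G)), hc1, he1]
  have hkey : ∀ ψ ∈ S, Real.sqrt (Nat.card H) * r ψ < e ψ := by
    intro ψ hψ
    have hkerψ : ∃ h ∈ H, (ψ : G → ℂ) h ≠ (ψ : G → ℂ) 1 := by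
      by_contra hno
      push Not at hno
      have htop : H24.kerChar ψ = ⊤ := hmax _ inferInstance
        fun h hh => H24.mem_kerChar.2 (hno h hh)
      have hcst : ∀ g : G, (ψ : G → ℂ) g = (ψ : G → ℂ) 1 := fun g =>
        H24.mem_kerChar.1 (htop ▸ Subgroup.mem_top g)
      refine Finset.ne_of_mem_erase hψ ?_
      apply Subtype.ext
      by_contra hne'
      have horth := H12.classInner_irr_ne (χ := ψ) (ψ := H12.oneIrr G)
        (fun h => hne' (congrArg Subtype.val h))
      rw [H12.classInner_def] at horth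
      simp [hcst, H12.oneIrr_apply, H12.irr_apply_one_ne_zero] at horth
    have h11 := degree_sq_gt H hab hZ hone ψ.2 hkerψ
    rw [hr ψ, he ψ, Complex.natCast_re, Complex.natCast_re] at h11
    nlinarith [Real.sq_sqrt (show (0 : ℝ) ≤ Nat.card H from Nat.cast_nonneg _),
      Real.sqrt_nonneg (Nat.card H : ℝ),
      mul_nonneg (Real.sqrt_nonneg (Nat.card H : ℝ)) (Nat.cast_nonneg (α := ℝ) (r ψ))]
  have hd2 : 2 ≤ d := by
    have hd0 : d ≠ 0 := fun h => H12.irr_apply_one_ne_zero ⟨χ, hχ⟩ (by simp [hd, h])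
    have hd1 : d ≠ 1 := fun h => hne (by simp [hd, h])
    omega
  have hA : (d : ℝ) - 1 ≤ ∑ ψ ∈ S, (c ψ : ℝ) * r ψ := by
    have : (d : ℝ) ≤ 1 + ((∑ ψ ∈ S, c ψ * r ψ : ℕ) : ℝ) := by exact_mod_cast hsplit1 ▸ hdc
    push_cast at this
    linarith
  have hB : ∑ ψ ∈ S, (c ψ : ℝ) * e ψ = (d : ℝ) * d - 1 := by
    have : (d : ℝ) * d = 1 + ((∑ ψ ∈ S, c ψ * e ψ : ℕ) : ℝ) := by exact_mod_cast hsplit2 ▸ hde
    push_cast at this
    linarith
  have hlt : ∑ ψ ∈ S, (c ψ : ℝ) * (Real.sqrt (Nat.card H) * r ψ) <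
      ∑ ψ ∈ S, (c ψ : ℝ) * e ψ := by
    refine Finset.sum_lt_sum (fun ψ hψ => mul_le_mul_of_nonneg_left (hkey ψ hψ).le
      (Nat.cast_nonneg _)) ?_
    obtain ⟨ψ, hψ, hne'⟩ : ∃ ψ ∈ S, c ψ * r ψ ≠ 0 :=
      Finset.exists_ne_zero_of_sum_ne_zero (by omega)
    exact ⟨ψ, hψ, mul_lt_mul_of_pos_left (hkey ψ hψ)
      (by exact_mod_cast Nat.pos_of_ne_zero (left_ne_zero_of_mul hne'))⟩
  rw [hB, Finset.sum_congr rfl fun ψ _ => mul_left_comm (c ψ : ℝ) _ _, ← Finset.mul_sum] at hlt
  rw [hd, Complex.natCast_re]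
  have hdR : (2 : ℝ) ≤ d := by exact_mod_cast hd2
  have hs : Real.sqrt (Nat.card H) < 1 + d := by
    by_contra hh
    push Not at hh
    nlinarith [mul_le_mul_of_nonneg_left hA (Real.sqrt_nonneg (Nat.card H : ℝ)),
      mul_le_mul_of_nonneg_right hh (show (0 : ℝ) ≤ d - 1 by linarith)]
  nlinarith [Real.sq_sqrt (show (0 : ℝ) ≤ Nat.card H from Nat.cast_nonneg _),
    Real.sqrt_nonneg (Nat.card H : ℝ)]

end H14.FTBound
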