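import Cfsg.Agent.H14.SmallDegreeCoprime
import Cfsg.Agent.H14.FTBound

/-!
Feit and Thompson: a faithful character of small degree forces a normal Sylow subgroup.
-/

set_option autoImplicit false
set_option linter.unusedSectionVars false
set_option linter.style.haveILetI false

namespace H14.SmallDegree

open Cfsg
open scoped ComplexConjugate commutatorElement

universe u

variable {G : Type u} [Group G] [Finite G]

theorem conj_inv_mem_of {a : G} {S : Subgroup G} {x : G}
    (h : x ∈ S.map (MulAut.conj a).toMonoidHom) : a⁻¹ * x * a ∈ S := by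
  obtain ⟨y, hy, rfl⟩ := h
  simpa [mul_assoc] using hy

/-- The Sylow subgroups of a group with a faithful character of degree less than `p` are abelian. -/
theorem sylow_comm {p : ℕ} [hp : Fact p.Prime] (P : Sylow p G) {χ : G → ℂ} (hχ : IsCharacter G χ)
    (hfaith : ∀ g : G, χ g = χ 1 → g = 1) {n : ℕ} (hn : χ 1 = n) (hnp : n < p) :
    ∀ a ∈ (P : Subgroup G), ∀ b ∈ (P : Subgroup G), a * b = b * a := by
  classical
  haveI := Fintype.ofFinite (P : Subgroup G)
  intro a ha b hb
  obtain ⟨m, hm⟩ := H12.IsCharacter.exists_mult (H12.IsCharacter.res hχ (P : Subgroup G))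
  set c : (P : Subgroup G) := ⁅(⟨a, ha⟩ : (P : Subgroup G)), ⟨b, hb⟩⁆ with hc
  have hker : ∀ ψ, m ψ ≠ 0 → c ∈ H24.kerChar ψ := by
    intro ψ hψ
    obtain ⟨k, hk⟩ := IsPGroup.iff_card.1 P.isPGroup'
    obtain ⟨i, -, hi⟩ := (Nat.dvd_prime_pow hp.out).1 (hk ▸ H24.charDegree_dvd_card ψ)
    have h1 := congrFun hm 1
    simp only [OneMemClass.coe_one, hn, Finset.sum_apply, Pi.smul_apply, smul_eq_mul,
      H24.irr_one, ← Nat.cast_mul, ← Nat.cast_sum, Nat.cast_inj] at h1
    have h2 : charDegree (ψ : ↥(P : Subgroup G) → ℂ) ≤ n := by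
      rw [h1]
      exact le_trans (Nat.le_mul_of_pos_left _ (Nat.pos_of_ne_zero hψ))
        (Finset.single_le_sum (f := fun φ => m φ * charDegree (φ : ↥(P : Subgroup G) → ℂ))
          (fun _ _ => Nat.zero_le _) (Finset.mem_univ ψ))
    have hd : charDegree (ψ : ↥(P : Subgroup G) → ℂ) = 1 := by
      rcases i with _ | i
      · simpa using hi
      · have : p ≤ p ^ (i + 1) := Nat.le_self_pow (by omega) p
        omega
    exact (H14.GaloisKernel.charDegree_eq_one_iff ψ).1 hd
      (Subgroup.commutator_mem_commutator (Subgroup.mem_top _) (Subgroup.mem_top _))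
  have hc1 : (c : G) = 1 := by
    refine hfaith _ ?_
    have h1 := congrFun hm c
    have h2 := congrFun hm 1
    simp only [Finset.sum_apply, Pi.smul_apply, smul_eq_mul, OneMemClass.coe_one] at h1 h2
    rw [h1, h2]
    refine Finset.sum_congr rfl fun ψ _ => ?_
    by_cases hψ : m ψ = 0
    · simp [hψ]
    · rw [H24.mem_kerChar.1 (hker ψ hψ)]
  exact congrArg Subtype.val
    (commutatorElement_eq_one_iff_mul_comm.1 (Subtype.ext hc1 : c = 1))

theorem conj_mem_of_le {p : ℕ} [Fact p.Prime] {K : Subgroup G}
    (hK : ∀ R : Sylow p K, (R : Subgroup K).Normal) {Q : Sylow p G}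
    (hQ : (Q : Subgroup G) ≤ K) {g y : G} (hg : g ∈ K) (hy : y ∈ (Q : Subgroup G)) :
    g * y * g⁻¹ ∈ (Q : Subgroup G) := by
  have hn := hK (Q.subtype hQ)
  rw [Sylow.coe_subtype] at hn
  exact Subgroup.mem_subgroupOf.1 (hn.conj_mem ⟨y, hQ hy⟩ (Subgroup.mem_subgroupOf.2 hy) ⟨g, hg⟩)

/-- A central element of a Sylow subgroup in the derived subgroup is trivial, for abelian Sylow
subgroups. -/
theorem eq_one_of_center {p : ℕ} [hp : Fact p.Prime] (P : Sylow p G)
    (hPab : ∀ a ∈ (P : Subgroup G), ∀ b ∈ (P : Subgroup G), a * b = b * a)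
    {z : G} (hzP : z ∈ (P : Subgroup G)) (hzZ : z ∈ Subgroup.center G)
    (hzD : z ∈ commutator G) : z = 1 := by
  letI : CommGroup (P : Subgroup G) :=
    { (inferInstance : Group (P : Subgroup G)) with
      mul_comm := fun a b => Subtype.ext (hPab a a.2 b b.2) }
  have key : ∀ (k : ℕ) (g₀ : G), g₀⁻¹ * z ^ k * g₀ ∈ (P : Subgroup G) →
      g₀⁻¹ * z ^ k * g₀ = z ^ k := fun k g₀ _ => by
    rw [mul_assoc, ← Subgroup.mem_center_iff.1 (pow_mem hzZ k) g₀, inv_mul_cancel_left]
  have h1 := MonoidHom.transfer_eq_pow (MonoidHom.id (P : Subgroup G)) z key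
  have h2 : MonoidHom.transfer (MonoidHom.id (P : Subgroup G)) z = 1 :=
    Abelianization.commutator_subset_ker _ hzD
  have h3 : z ^ (P : Subgroup G).index = 1 := by
    have h4 := congrArg Subtype.val (h1.symm.trans h2)
    exact h4
  obtain ⟨k, hk⟩ := P.isPGroup' ⟨z, hzP⟩
  have h4 : z ^ p ^ k = 1 := congrArg Subtype.val hk
  have h5 := pow_gcd_eq_one (a := z) |>.2 ⟨h4, h3⟩
  rwa [Nat.Coprime.pow_left k (hp.out.coprime_iff_not_dvd.2 P.not_dvd_index), pow_one] at h5

theorem mem_sup_of_normalizer {R P : Subgroup G} (h : P ≤ Subgroup.normalizer (R : Set G)) {w : G}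
    (hw : w ∈ R ⊔ P) : ∃ r ∈ R, ∃ y ∈ P, r * y = w := by
  have h1 : (w : G) ∈ ((R ⊔ P : Subgroup G) : Set G) := hw
  rw [Subgroup.coe_mul_of_right_le_normalizer_left R P h] at h1
  obtain ⟨r, hr, y, hy, he⟩ := Set.mem_mul.1 h1
  exact ⟨r, hr, y, hy, he⟩

/-- The condition of the theorem. -/
def Cond (p : ℕ) (G : Type u) [Group G] (n : ℕ) : Prop :=
  n + 1 < p ∧ ((n + 1) ^ 2 ≤ p ∨
    ∀ K : Subgroup G, ¬ p ^ 2 ∣ Nat.card K → ∀ Q : Sylow p K, (Q : Subgroup K).Normal)

theorem Cond.sub {p n : ℕ} [Fact p.Prime] (h : Cond p G n) (H : Subgroup G) : Cond p H n := by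
  refine ⟨h.1, h.2.imp id fun h2 K hK Q => ?_⟩
  let e : K ≃* K.map H.subtype := K.equivMapOfInjective _ H.subtype_injective
  have hn := h2 (K.map H.subtype) (by rwa [← Nat.card_congr e.toEquiv])
    (Q.comapOfInjective e.symm.toMonoidHom e.symm.injective
      (fun x _ => ⟨e x, e.symm_apply_apply x⟩))
  refine ⟨fun x hx g => ?_⟩
  have h3 := hn.conj_mem (e x) (by
    show e.symm.toMonoidHom (e x) ∈ (Q : Subgroup K)
    simpa using hx) (e g)
  have h4 : e.symm.toMonoidHom (e g * e x * (e g)⁻¹) ∈ (Q : Subgroup K) := h3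
  simpa using h4

theorem sylow_normal_aux {p : ℕ} [hp : Fact p.Prime] (N : ℕ) : ∀ (G : Type u) [Group G] [Finite G],
    Nat.card G = N → ∀ (χ : G → ℂ), IsCharacter G χ → (∀ g : G, χ g = χ 1 → g = 1) →
    ∀ n : ℕ, χ 1 = n → Cond p G n → ∀ P : Sylow p G, (P : Subgroup G).Normal := by
  induction N using Nat.strong_induction_on with
  | _ N ih =>
    intro G _ _ hN χ hχ hfaith n hn hcond P
    classical
    haveI := Fintype.ofFinite G
    have hPab := sylow_comm P hχ hfaith hn (by have := hcond.1; omega)
    by_contra hnot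
    have hab : ∀ S : Sylow p G, ∀ a ∈ (S : Subgroup G), ∀ b ∈ (S : Subgroup G), a * b = b * a :=
      fun S => sylow_comm S hχ hfaith hn (by have := hcond.1; omega)
    -- proper subgroups
    have hsub : ∀ H : Subgroup G, H ≠ ⊤ → ∀ R : Sylow p H, (R : Subgroup H).Normal := by
      intro H hH R
      refine ih (Nat.card H) ?_ H rfl (fun h : H => χ h) (H12.IsCharacter.res hχ H)
        (fun h hh => Subtype.ext (hfaith h (by simpa using hh))) n (by simpa using hn)
        (hcond.sub H) R
      rw [← hN]
      exact lt_of_le_of_ne (Subgroup.card_le_card_group H)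
        fun he => hH (Subgroup.eq_top_of_card_eq _ he)
    have hNtop : Subgroup.normalizer ((P : Subgroup G) : Set G) ≠ ⊤ := fun h =>
      hnot (Subgroup.normalizer_eq_top_iff.1 h)
    have hcent : ∀ (Q : Sylow p G) {x : G}, x ∈ (Q : Subgroup G) → x ∉ Subgroup.center G →
        ∀ {c y : G}, c * x = x * c → y ∈ (Q : Subgroup G) → c * y * c⁻¹ ∈ (Q : Subgroup G) := by
      intro Q x hx hxZ c y hc hy
      refine conj_mem_of_le (K := Subgroup.centralizer ({x} : Set G)) (hsub _ fun he => hxZ ?_)
        (fun w hw => Subgroup.mem_centralizer_singleton_iff.2 (hab Q w hw x hx))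
        (Subgroup.mem_centralizer_singleton_iff.2 hc) hy
      refine Subgroup.mem_center_iff.2 fun g => ?_
      exact Subgroup.mem_centralizer_singleton_iff.1 (he ▸ Subgroup.mem_top g)
    -- every normal subgroup containing `P` is everything
    have hgen : ∀ M : Subgroup G, M.Normal → (P : Subgroup G) ≤ M → M = ⊤ := by
      intro M hM hPM
      by_contra hne
      apply hnot
      haveI := hM
      haveI := hsub M hne (P.subtype hPM)
      refine ⟨fun y hy g => ?_⟩
      haveI := Sylow.unique_of_normal (P.subtype hPM) inferInstance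
      have h1 : g • P = P := by
        have hle : ((g • P : Sylow p G) : Subgroup G) ≤ M := by
          rw [Sylow.coe_subgroup_smul]
          rintro _ ⟨w, hw, rfl⟩
          exact hM.conj_mem _ (hPM hw) g
        have h2 : (g • P).subtype hle = P.subtype hPM := Subsingleton.elim _ _
        exact Sylow.subtype_injective h2
      rw [← h1, Sylow.coe_subgroup_smul]
      exact ⟨y, hy, rfl⟩
    by_cases hperf : commutator G = ⊤
    · -- the perfect case
      have hPZ : (P : Subgroup G) ⊓ Subgroup.center G = ⊥ :=
        (Subgroup.eq_bot_iff_forall _).2 fun z hz =>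
          eq_one_of_center P hPab hz.1 hz.2 (hperf ▸ Subgroup.mem_top z)
      have hsep : FTBound.Sep (P : Subgroup G) := by
        intro g hg a b ha hb
        obtain ⟨⟨x, hx⟩, hx1'⟩ := Subgroup.ne_bot_iff_exists_ne_one.1 ha
        obtain ⟨⟨y, hy⟩, hy1'⟩ := Subgroup.ne_bot_iff_exists_ne_one.1 hb
        rw [Subgroup.mem_inf] at hx hy
        have hx1 : x ≠ 1 := fun h => hx1' (Subtype.ext h)
        have hy1 : y ≠ 1 := fun h => hy1' (Subtype.ext h)
        set A := a • P with hA
        set B := b • P with hB
        have hAc : (A : Subgroup G) = (P : Subgroup G).map (MulAut.conj a).toMonoidHom := rfl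
        have hBc : (B : Subgroup G) = (P : Subgroup G).map (MulAut.conj b).toMonoidHom := rfl
        rw [← hAc] at hx ⊢
        rw [← hBc] at hy ⊢
        have hcpl : Subgroup.centralizer ({g} : Set G) ≠ ⊤ := fun he =>
          hg (Subgroup.mem_center_iff.2 fun w =>
            Subgroup.mem_centralizer_singleton_iff.1 (he ▸ Subgroup.mem_top w))
        have hZ' : ∀ (c : G) {w : G}, w ∈ (c • P : Sylow p G) → w ≠ 1 →
            w ∉ Subgroup.center G := by
          intro c w hw hw1 hwZ
          have h1 : c⁻¹ * w * c ∈ (P : Subgroup G) := conj_inv_mem_of hw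
          rw [mul_assoc, ← Subgroup.mem_center_iff.1 hwZ c, inv_mul_cancel_left] at h1
          exact hw1 (Subgroup.mem_bot.1 (hPZ ▸ Subgroup.mem_inf.2 ⟨h1, hwZ⟩))
        set C := Subgroup.centralizer ({g} : Set G)
        -- `x` and `y` commute
        let xx : C := ⟨x, hx.1⟩
        let yy : C := ⟨y, hy.1⟩
        have hpx : IsPGroup p (Subgroup.zpowers xx) := by
          obtain ⟨k, hk⟩ := A.isPGroup' ⟨x, hx.2⟩
          obtain ⟨j, -, hj⟩ := (Nat.dvd_prime_pow hp.out).1
            (orderOf_dvd_of_pow_eq_one (show xx ^ p ^ k = 1 from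
              Subtype.ext (by simpa [xx] using congrArg Subtype.val hk)))
          exact IsPGroup.of_card (n := j) (by rw [Nat.card_zpowers, hj])
        have hpy : IsPGroup p (Subgroup.zpowers yy) := by
          obtain ⟨k, hk⟩ := B.isPGroup' ⟨y, hy.2⟩
          obtain ⟨j, -, hj⟩ := (Nat.dvd_prime_pow hp.out).1
            (orderOf_dvd_of_pow_eq_one (show yy ^ p ^ k = 1 from
              Subtype.ext (by simpa [yy] using congrArg Subtype.val hk)))
          exact IsPGroup.of_card (n := j) (by rw [Nat.card_zpowers, hj])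
        obtain ⟨R, hR⟩ := hpx.exists_le_sylow
        obtain ⟨R', hR'⟩ := hpy.exists_le_sylow
        haveI := Sylow.unique_of_normal R (hsub C hcpl R)
        have hRR : R' = R := Subsingleton.elim _ _
        have hRab := sylow_comm R (H12.IsCharacter.res hχ C)
          (fun h hh => Subtype.ext (hfaith h (by simpa using hh))) (n := n)
          (by simpa using hn) (by have := hcond.1; omega)
        have hxy : x * y = y * x := congrArg Subtype.val
          (hRab xx (hR (Subgroup.mem_zpowers _)) yy (hRR ▸ hR' (Subgroup.mem_zpowers _)))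
        -- so both lie in `A`
        set K := Subgroup.centralizer ({x} : Set G) with hKdef
        have hKne : K ≠ ⊤ := fun he => hZ' a hx.2 hx1 (Subgroup.mem_center_iff.2 fun w =>
          Subgroup.mem_centralizer_singleton_iff.1 (he ▸ Subgroup.mem_top w : w ∈ K))
        have hAK : (A : Subgroup G) ≤ K := fun w hw =>
          Subgroup.mem_centralizer_singleton_iff.2 (hab A w hw x hx.2)
        have hyA : y ∈ (A : Subgroup G) := by
          let y' : K := ⟨y, Subgroup.mem_centralizer_singleton_iff.2 hxy.symm⟩
          have hpy' : IsPGroup p (Subgroup.zpowers y') := by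
            obtain ⟨k, hk⟩ := B.isPGroup' ⟨y, hy.2⟩
            obtain ⟨j, -, hj⟩ := (Nat.dvd_prime_pow hp.out).1
              (orderOf_dvd_of_pow_eq_one (show y' ^ p ^ k = 1 from
                Subtype.ext (by simpa [y'] using congrArg Subtype.val hk)))
            exact IsPGroup.of_card (n := j) (by rw [Nat.card_zpowers, hj])
          obtain ⟨S, hS⟩ := hpy'.exists_le_sylow
          haveI := Sylow.unique_of_normal S (hsub K hKne S)
          have hSA : S = A.subtype hAK := Subsingleton.elim _ _
          have h5 : y' ∈ ((A.subtype hAK : Sylow p K) : Subgroup K) :=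
            hSA ▸ hS (Subgroup.mem_zpowers _)
          rw [Sylow.coe_subtype, Subgroup.mem_subgroupOf] at h5
          exact h5
        -- hence the two Sylow subgroups agree
        set K' := Subgroup.centralizer ({y} : Set G)
        have hK'ne : K' ≠ ⊤ := fun he => hZ' b hy.2 hy1 (Subgroup.mem_center_iff.2 fun w =>
          Subgroup.mem_centralizer_singleton_iff.1 (he ▸ Subgroup.mem_top w : w ∈ K'))
        have hAK' : (A : Subgroup G) ≤ K' := fun w hw =>
          Subgroup.mem_centralizer_singleton_iff.2 (hab A w hw y hyA)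
        have hBK' : (B : Subgroup G) ≤ K' := fun w hw =>
          Subgroup.mem_centralizer_singleton_iff.2 (hab B w hw y hy.2)
        haveI := Sylow.unique_of_normal (A.subtype hAK') (hsub K' hK'ne _)
        have hAB : A.subtype hAK' = B.subtype hBK' := Subsingleton.elim _ _
        exact congrArg Sylow.toSubgroup (Sylow.subtype_injective hAB)
      -- a nonlinear constituent
      have hPne : ∃ x ∈ (P : Subgroup G), x ≠ 1 := by
        by_contra hno
        push Not at hno
        exact hnot ⟨fun y hy g => by rw [hno y hy, mul_one, mul_inv_cancel]; exact one_mem _⟩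
      obtain ⟨m, hm⟩ := H12.IsCharacter.exists_mult hχ
      obtain ⟨x, hxP, hx1⟩ := hPne
      obtain ⟨ψ, hψm, hψx⟩ : ∃ ψ, m ψ ≠ 0 ∧ x ∉ H24.kerChar ψ := by
        by_contra hno
        push Not at hno
        refine hx1 (hfaith x ?_)
        have h1 := congrFun hm x
        have h2 := congrFun hm 1
        simp only [Finset.sum_apply, Pi.smul_apply, smul_eq_mul] at h1 h2
        rw [h1, h2]
        refine Finset.sum_congr rfl fun φ _ => ?_
        by_cases hφ : m φ = 0
        · simp [hφ]
        · rw [H24.mem_kerChar.1 (hno φ hφ)]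
      have hψne : (ψ : G → ℂ) 1 ≠ 1 := by
        intro h1
        refine hψx ?_
        have : charDegree (ψ : G → ℂ) = 1 := by
          rw [H24.irr_one] at h1
          exact_mod_cast h1
        exact (H14.GaloisKernel.charDegree_eq_one_iff ψ).1 this (hperf ▸ Subgroup.mem_top x)
      haveI := Fintype.ofFinite (P : Subgroup G)
      have h2 := FTBound.card_lt_sq (P : Subgroup G) hPab hPZ hsep ψ.2 hψne hgen
      rw [H24.irr_one, Complex.natCast_re] at h2
      have hdle : charDegree (ψ : G → ℂ) ≤ n := by
        have h1 := congrFun hm 1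
        simp only [hn, Finset.sum_apply, Pi.smul_apply, smul_eq_mul, H24.irr_one, ← Nat.cast_mul,
          ← Nat.cast_sum, Nat.cast_inj] at h1
        rw [h1]
        exact le_trans (Nat.le_mul_of_pos_left _ (Nat.pos_of_ne_zero hψm))
          (Finset.single_le_sum (f := fun φ => m φ * charDegree (φ : G → ℂ))
            (fun _ _ => Nat.zero_le _) (Finset.mem_univ ψ))
      have h3 : Nat.card (P : Subgroup G) < (1 + n) ^ 2 := by
        have : (Nat.card (P : Subgroup G) : ℝ) < ((1 + n : ℕ) : ℝ) ^ 2 := by
          refine h2.trans_le ?_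
          push_cast
          gcongr
        exact_mod_cast this
      obtain ⟨e, he⟩ := IsPGroup.iff_card.1 P.isPGroup'
      have hp2 := hp.out.two_le
      rcases hcond.2 with hc | hc
      · have he0 : e ≠ 0 := fun h0 => hx1 (Subgroup.mem_bot.1
          (Subgroup.card_eq_one.1 (by rw [he, h0, pow_zero] : Nat.card (P : Subgroup G) = 1) ▸ hxP))
        have : p ≤ p ^ e := Nat.le_self_pow he0 p
        rw [he] at h3
        nlinarith
      · have hdvd : p ^ 2 ∣ Nat.card (⊤ : Subgroup G) := by
          by_contra hno
          have hn' := hc ⊤ hno (P.subtype le_top)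
          rw [Sylow.coe_subtype] at hn'
          refine hnot ⟨fun y hy g => ?_⟩
          exact Subgroup.mem_subgroupOf.1
            (hn'.conj_mem ⟨y, Subgroup.mem_top y⟩ (Subgroup.mem_subgroupOf.2 hy)
              ⟨g, Subgroup.mem_top g⟩)
        rw [Subgroup.card_top] at hdvd
        have h4 : p ^ 2 ∣ Nat.card (P : Subgroup G) := P.pow_dvd_card_of_pow_dvd_card hdvd
        have h5 := Nat.le_of_dvd Nat.card_pos h4
        have : (1 + n) ^ 2 < p ^ 2 := Nat.pow_lt_pow_left (by have := hcond.1; omega) two_ne_zero
        omega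
    · -- the derived subgroup is a proper subgroup
      set D := commutator G with hD
      haveI hDn : D.Normal := inferInstance
      obtain ⟨R⟩ : Nonempty (Sylow p D) := inferInstance
      haveI hRn := hsub D hperf R
      haveI := Sylow.unique_of_normal R hRn
      haveI : (R : Subgroup D).Characteristic := Sylow.characteristic_of_normal R hRn
      set R' := (R : Subgroup D).map D.subtype with hR'
      haveI hR'n : R'.Normal := ConjAct.normal_of_characteristic_of_normal
      have hR'P : R' ≤ (P : Subgroup G) := by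
        obtain ⟨S, hS⟩ := (R.isPGroup'.map D.subtype).exists_le_sylow
        obtain ⟨g, rfl⟩ := MulAction.exists_smul_eq G P S
        intro w hw
        have h1 := hS (hR'n.conj_mem w hw g)
        rw [Sylow.coe_subgroup_smul] at h1
        have h2 := conj_inv_mem_of h1
        simpa [mul_assoc] using h2
      have hcR : Subgroup.centralizer (R' : Set G) = ⊤ := by
        refine hgen _ inferInstance fun w hw => ?_
        exact Subgroup.mem_centralizer_iff.2 fun r hr => hPab r (hR'P hr) w hw
      have hR1 : R' = ⊥ := by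
        refine (Subgroup.eq_bot_iff_forall _).2 fun r hr => ?_
        refine eq_one_of_center P hPab (hR'P hr) (Subgroup.mem_center_iff.2 fun g => ?_) ?_
        · exact ((Subgroup.mem_centralizer_iff.1 (hcR ▸ Subgroup.mem_top g :
            g ∈ Subgroup.centralizer (R' : Set G))) r hr).symm
        · obtain ⟨w, -, rfl⟩ := hr
          exact w.2
      have hDp : ¬ p ∣ Nat.card D := by
        intro hd
        have h1 := R.dvd_card_of_dvd_card hd
        have h2 : Nat.card (R : Subgroup D) = 1 := by
          rw [Nat.card_congr ((R : Subgroup D).equivMapOfInjective _ D.subtype_injective).toEquiv,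
            ← hR', hR1, Subgroup.card_bot]
        rw [h2] at h1
        exact hp.out.not_dvd_one h1
      have htop : D ⊔ (P : Subgroup G) = ⊤ :=
        hgen _ (Subgroup.Normal.of_commutator_le _ le_sup_left) le_sup_right
      -- `P` centralizes a Sylow subgroup of `D` for each prime
      have hall : ∀ q : ℕ, q.Prime → q ∣ Nat.card D → ∃ S : Sylow q D,
          ∀ x ∈ (P : Subgroup G), ∀ v : D, v ∈ S → x * v = v * x := by
        intro q hq hqd
        haveI := Fact.mk hq
        have hqp : p ≠ q := fun h => hDp (h ▸ hqd)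
        obtain ⟨S₀⟩ : Nonempty (Sylow q D) := inferInstance
        set Q₀ := (S₀ : Subgroup D).map D.subtype
        have hfr : Subgroup.normalizer (Q₀ : Set G) ⊔ D = ⊤ := Sylow.normalizer_sup_eq_top S₀
        obtain ⟨S', hS'⟩ : ∃ S' : Sylow p G, (S' : Subgroup G) ≤ Subgroup.normalizer (Q₀ : Set G) := by
          set N' := Subgroup.normalizer (Q₀ : Set G) with hN'
          obtain ⟨T⟩ : Nonempty (Sylow p N') := inferInstance
          have hT : IsPGroup p ((T : Subgroup N').map N'.subtype) := T.isPGroup'.map _
          obtain ⟨S', hS'⟩ := hT.exists_le_sylow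
          refine ⟨S', ?_⟩
          have hidx : ¬ p ∣ N'.index := by
            have h1 : N'.index ∣ Nat.card D := by
              have e1 : D.index = D.relIndex N' := by
                rw [← Subgroup.relIndex_top_right (H := D), ← hfr, Subgroup.relIndex_sup_right]
              have e2 : Nat.card (D.subgroupOf N') * D.relIndex N' = Nat.card N' :=
                Subgroup.card_mul_index _
              have e3 : N'.index * Nat.card N' = Nat.card D * D.relIndex N' := by
                rw [← e1, Subgroup.card_mul_index, mul_comm, Subgroup.card_mul_index]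
              rw [← e2, ← mul_assoc] at e3
              exact Dvd.intro _ (Nat.eq_of_mul_eq_mul_right
                (Nat.pos_of_ne_zero Subgroup.index_ne_zero_of_finite) e3)
            exact fun h => hDp (h.trans h1)
          have h2 : Nat.card ((T : Subgroup N').map N'.subtype) = Nat.card (S' : Subgroup G) := by
            rw [← Nat.card_congr ((T : Subgroup N').equivMapOfInjective _ N'.subtype_injective).toEquiv]
            show Nat.card T = Nat.card S'
            rw [T.card_eq_multiplicity, S'.card_eq_multiplicity]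
            congr 1
            rw [← Subgroup.card_mul_index N', Nat.factorization_mul Nat.card_pos.ne'
              Subgroup.index_ne_zero_of_finite, Finsupp.add_apply,
              Nat.factorization_eq_zero_of_not_dvd hidx, add_zero]
          rw [← Subgroup.eq_of_le_of_card_ge hS' h2.ge]
          exact Subgroup.map_subtype_le _
        obtain ⟨g, hg⟩ := MulAction.exists_smul_eq G P S'
        -- the conjugate Sylow subgroup of `D`
        let σ : D ≃* D := MulAut.conjNormal g⁻¹
        let S : Sylow q D := S₀.comapOfInjective σ.symm.toMonoidHom σ.symm.injective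
          (fun x _ => ⟨σ x, σ.symm_apply_apply x⟩)
        have hmemS : ∀ v : D, v ∈ S ↔ (g * (v : G) * g⁻¹) ∈ Q₀ := by
          intro v
          constructor
          · intro hv
            refine ⟨σ.symm v, hv, ?_⟩
            simp [σ, MulAut.conjNormal_symm_apply, mul_assoc]
          · rintro ⟨w, hw, he⟩
            show σ.symm v ∈ (S₀ : Subgroup D)
            have : σ.symm v = w := Subtype.ext (by
              simpa [σ, MulAut.conjNormal_symm_apply, mul_assoc] using he.symm)
            rw [this]
            exact hw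
        set Q := (S : Subgroup D).map D.subtype with hQ
        have hQQ₀ : ∀ w : G, w ∈ Q ↔ g * w * g⁻¹ ∈ Q₀ := by
          intro w
          constructor
          · rintro ⟨v, hv, rfl⟩
            exact (hmemS v).1 hv
          · intro hw
            have hwD : w ∈ D := by
              have h1 := hDn.conj_mem _ ((Subgroup.map_subtype_le (S₀ : Subgroup D)) hw) g⁻¹
              simpa [mul_assoc] using h1
            exact ⟨⟨w, hwD⟩, (hmemS _).2 hw, rfl⟩
        have hPQ : (P : Subgroup G) ≤ Subgroup.normalizer (Q : Set G) := by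
          intro x hx
          have h1 : g * x * g⁻¹ ∈ Subgroup.normalizer (Q₀ : Set G) := hS' (by
            rw [← hg, Sylow.coe_subgroup_smul]; exact ⟨x, hx, rfl⟩)
          refine Subgroup.mem_normalizer_iff.2 fun w => ?_
          rw [hQQ₀, hQQ₀, Subgroup.mem_normalizer_iff.1 h1 (g * w * g⁻¹)]
          rw [show g * x * g⁻¹ * (g * w * g⁻¹) * (g * x * g⁻¹)⁻¹ = g * (x * w * x⁻¹) * g⁻¹ by group]
        have hQp : IsPGroup q Q := S.isPGroup'.map _
        have hQP : ∀ (Q' : Subgroup G), IsPGroup q Q' →
            (P : Subgroup G) ≤ Subgroup.normalizer (Q' : Set G) → Q' ⊔ (P : Subgroup G) ≠ ⊤ →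
            ∀ x ∈ (P : Subgroup G), ∀ v ∈ Q', x * v = v * x := by
          intro Q' hQ' hPQ' hne x hx v hv
          have h1 : v * x * v⁻¹ ∈ (P : Subgroup G) := conj_mem_of_le (hsub _ hne) le_sup_right
            (Subgroup.mem_sup_left hv) hx
          have h2 : x * v⁻¹ * x⁻¹ ∈ Q' := (Subgroup.mem_normalizer_iff.1 (hPQ' hx) _).1 (inv_mem hv)
          have h3 : v * x * v⁻¹ * x⁻¹ = 1 := by
            have hd := (IsPGroup.disjoint_of_ne q p hqp.symm Q' (P : Subgroup G) hQ' P.isPGroup').eq_bot
            refine Subgroup.mem_bot.1 (hd ▸ Subgroup.mem_inf.2 ⟨?_, mul_mem h1 (inv_mem hx)⟩)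
            have h4 := mul_mem hv h2
            simpa [mul_assoc] using h4
          exact (mul_inv_eq_iff_eq_mul.1 (mul_inv_eq_one.1 h3)).symm
        refine ⟨S, fun x hx v hv => ?_⟩
        by_cases hQtop : Q ⊔ (P : Subgroup G) = ⊤
        · refine centralize (P : Subgroup G) Q hp.out hq hqp P.isPGroup' hQp hPQ hPab ?_ hχ hfaith
            hn hcond.1 x hx v ⟨v, hv, rfl⟩
          intro R hR hPR
          refine hQP R (hQp.to_le hR.le) hPR fun he => hR.ne ?_
          refine le_antisymm hR.le fun w hw => ?_
          obtain ⟨r, hr, y, hy, hry⟩ := H14.SmallDegree.mem_sup_of_normalizer hPR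
            (he ▸ Subgroup.mem_top w : w ∈ R ⊔ (P : Subgroup G))
          have hy1 : y ∈ Q ⊓ (P : Subgroup G) := ⟨by
            have : y = r⁻¹ * w := by rw [← hry]; group
            rw [this]
            exact Q.mul_mem (Q.inv_mem (hR.le hr)) hw, hy⟩
          rw [(IsPGroup.disjoint_of_ne q p hqp.symm Q (P : Subgroup G) hQp P.isPGroup').eq_bot, Subgroup.mem_bot] at hy1
          rw [← hry, hy1, mul_one]
          exact hr
        · exact hQP Q hQp hPQ hQtop x hx v ⟨v, hv, rfl⟩
      -- so `P` centralizes `D`
      set F := Subgroup.centralizer ((P : Subgroup G) : Set G) ⊓ D with hF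
      have hFD : F = D := by
        refine Subgroup.eq_of_le_of_card_ge inf_le_right (Nat.le_of_dvd Nat.card_pos ?_)
        rw [← Nat.factorization_le_iff_dvd Nat.card_pos.ne' Nat.card_pos.ne']
        intro q
        by_cases hq : q.Prime
        swap
        · rw [Nat.factorization_eq_zero_of_not_prime _ hq]; exact Nat.zero_le _
        by_cases hqd : q ∣ Nat.card D
        swap
        · rw [Nat.factorization_eq_zero_of_not_dvd hqd]; exact Nat.zero_le _
        haveI := Fact.mk hq
        obtain ⟨S, hS⟩ := hall q hq hqd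
        have hle : (S : Subgroup D).map D.subtype ≤ F := by
          rintro _ ⟨v, hv, rfl⟩
          exact ⟨Subgroup.mem_centralizer_iff.2 fun x hx => hS x hx v hv, v.2⟩
        have h1 := Subgroup.card_dvd_of_le hle
        rw [← Nat.card_congr ((S : Subgroup D).equivMapOfInjective _ D.subtype_injective).toEquiv] at h1
        have h2 : Nat.card (S : Subgroup D) = q ^ (Nat.card D).factorization q :=
          S.card_eq_multiplicity
        rw [h2] at h1
        exact (hq.pow_dvd_iff_le_factorization Nat.card_pos.ne').1 h1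
      apply hNtop
      rw [eq_top_iff, ← htop]
      exact sup_le ((hFD ▸ inf_le_left : D ≤ Subgroup.centralizer ((P : Subgroup G) : Set G)).trans
        (Subgroup.centralizer_le_normalizer _)) Subgroup.le_normalizer

theorem sylow_normal {p : ℕ} [Fact p.Prime] (χ : G → ℂ) (hχ : IsCharacter G χ)
    (hfaith : ∀ g : G, χ g = χ 1 → g = 1) {n : ℕ} (hn : χ 1 = n) (hcond : Cond p G n)
    (P : Sylow p G) : (P : Subgroup G).Normal :=
  sylow_normal_aux (Nat.card G) G rfl χ hχ hfaith n hn hcond P

end H14.SmallDegree
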