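import Cfsg.Agent.H14.RelativeMGroup
import Cfsg.Agent.H13.Monomial
import Cfsg.Agent.H24.CharBasic
import Cfsg.Agent.H13.Linear

/-!
# Characters irreducible on a normal subgroup with abelian Sylow subgroups are monomial
-/

set_option autoImplicit false
set_option linter.unusedSectionVars false
set_option linter.style.haveILetI false
open Cfsg

namespace H14

universe u

/-- every `p`-subgroup inside `M` is commutative -/
def AbelianPParts {G : Type u} [Group G] (M : Subgroup G) : Prop :=
  ∀ (p : ℕ) [Fact p.Prime] (P : Subgroup G), P ≤ M → IsPGroup p P → ∀ a ∈ P, ∀ b ∈ P, a * b = b * a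

/-- monomiality of one character -/
def MonomialAt {G : Type u} [Group G] [Fintype G] (χ : G → ℂ) : Prop :=
  ∃ (U : Subgroup G) (lam : U → ℂ), IsIrrCharacter U lam ∧ lam 1 = 1 ∧ indFun U lam = χ

theorem abelianPParts_subgroupOf {G : Type u} [Group G] {N T : Subgroup G} (h : AbelianPParts N) :
    AbelianPParts (N.subgroupOf T) := by
  intro p _ P hP hPp a ha b hb
  refine Subtype.ext (h p (P.map T.subtype) ?_ (hPp.map _) a ⟨a, ha, rfl⟩ b ⟨b, hb, rfl⟩)
  rintro _ ⟨x, hx, rfl⟩
  exact Subgroup.mem_subgroupOf.mp (hP hx)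

theorem abelianPParts_map {G : Type u} [Group G] [Finite G] {N : Subgroup G} (h : AbelianPParts N)
    {H : Type u} [Group H] (f : G →* H) : AbelianPParts (N.map f) := by
  intro p _ P hP hPp a ha b hb
  let f' : (P.comap f ⊓ N : Subgroup G) →* P :=
    (f.comp (P.comap f ⊓ N).subtype).codRestrict P fun x => x.2.1
  have hf' : Function.Surjective f' := by
    rintro ⟨y, hy⟩
    obtain ⟨x, hx, rfl⟩ := hP hy
    exact ⟨⟨x, hy, hx⟩, rfl⟩
  let R : Sylow p ↥(P.comap f ⊓ N) := default
  have htop : ((R.mapSurjective hf' : Sylow p P) : Subgroup P) = ⊤ := by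
    have htopP : IsPGroup p (⊤ : Subgroup P) := hPp.of_equiv Subgroup.topEquiv.symm
    exact ((R.mapSurjective hf').3 htopP le_top).symm
  obtain ⟨x, hx, hxa⟩ : (⟨a, ha⟩ : P) ∈ (R : Subgroup _).map f' := htop.symm.le (Subgroup.mem_top _)
  obtain ⟨y, hy, hyb⟩ : (⟨b, hb⟩ : P) ∈ (R : Subgroup _).map f' := htop.symm.le (Subgroup.mem_top _)
  have hc := h p ((R : Subgroup _).map (P.comap f ⊓ N).subtype)
    (fun z hz => by obtain ⟨w, -, rfl⟩ := hz; exact w.2.2) (R.2.map _) x ⟨x, hx, rfl⟩ y ⟨y, hy, rfl⟩
  have e1 : f (x : G) = a := congrArg Subtype.val hxa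
  have e2 : f (y : G) = b := congrArg Subtype.val hyb
  rw [← e1, ← e2, ← map_mul, ← map_mul, hc]

theorem classInner_comp_hom {A B : Type*} [Group A] [Fintype A] [Group B] [Fintype B] {f : A →* B}
    (hf : Function.Surjective f) (a b : B → ℂ) : classInner (a ∘ f) (b ∘ f) = classInner a b := by
  classical
  unfold Cfsg.classInner
  rw [← Finset.sum_fiberwise Finset.univ f]
  have hfib : ∀ q : B, (Finset.univ.filter fun x : A => f x = q).card = Nat.card f.ker := by
    intro q
    obtain ⟨a, rfl⟩ := hf q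
    rw [← Fintype.card_subtype, ← Nat.card_eq_fintype_card]
    exact Nat.card_congr
      { toFun := fun x => ⟨a⁻¹ * x.1, by rw [MonoidHom.mem_ker, map_mul, map_inv, x.2, inv_mul_cancel]⟩
        invFun := fun n => ⟨a * n.1, by rw [map_mul, n.2, mul_one]⟩
        left_inv := fun x => by simp
        right_inv := fun n => by simp }
  rw [Finset.sum_congr rfl (g := fun q => (Nat.card f.ker : ℂ) * (a q * (starRingEnd ℂ) (b q)))
    (fun q _ => by
      rw [Finset.sum_congr rfl (g := fun _ => a q * (starRingEnd ℂ) (b q))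
        (fun x hx => by rw [Function.comp_apply, Function.comp_apply, (Finset.mem_filter.1 hx).2]),
        Finset.sum_const, hfib, nsmul_eq_mul]), ← Finset.mul_sum, ← mul_assoc]
  congr 1
  have h2 : Nat.card f.ker * Nat.card B = Nat.card A := by
    rw [← f.ker.card_mul_index, Subgroup.index_ker, MonoidHom.range_eq_top.mpr hf, Subgroup.card_top]
  rw [← h2, Nat.cast_mul, mul_inv, mul_comm (Nat.card f.ker : ℂ)⁻¹, mul_assoc,
    inv_mul_cancel₀ (Nat.cast_ne_zero.2 Nat.card_pos.ne'), mul_one]

/-- a finite nilpotent group with commutative `p`-subgroups is commutative -/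
theorem comm_of_nilpotent {M : Type u} [Group M] [Finite M] [Group.IsNilpotent M]
    (h : AbelianPParts (⊤ : Subgroup M)) : ∀ a b : M, a * b = b * a := by
  obtain ⟨e⟩ := (Group.isNilpotent_of_finite_tfae (G := M)).out 0 4 rfl rfl |>.mp ‹_›
  intro a b
  apply e.symm.injective
  rw [map_mul, map_mul]
  funext p P
  haveI := Fact.mk (Nat.prime_of_mem_primeFactors p.2)
  refine Subtype.ext ?_
  exact h p.1 (P : Subgroup M) le_top P.2 _ (e.symm a p P).2 _ (e.symm b p P).2

/-- a solvable normal subgroup with abelian Sylow subgroups is abelian if all abelian normal subgroups inside it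
are central -/
theorem commutative_of_central {G : Type u} [Group G] [Finite G] [Group.IsSolvable G] (N : Subgroup G)
    [hNn : N.Normal] (hA : AbelianPParts N)
    (hcen : ∀ A : Subgroup G, A.Normal → A ≤ N → (∀ a ∈ A, ∀ b ∈ A, a * b = b * a) → A ≤ Subgroup.center G) :
    N ≤ Subgroup.center G := by
  by_contra hN
  let Z := N ⊓ Subgroup.center G
  haveI hZn : Z.Normal := inferInstance
  have hNbar : N.map (QuotientGroup.mk' Z) ≠ ⊥ := fun h => by
    rw [Subgroup.map_eq_bot_iff, QuotientGroup.ker_mk'] at h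
    exact hN (h.trans inf_le_right)
  obtain ⟨Mb, ⟨hMn, hMne, hMle⟩, hMmin⟩ := (Set.toFinite {Mb : Subgroup (G ⧸ Z) | Mb.Normal ∧ Mb ≠ ⊥ ∧
    Mb ≤ N.map (QuotientGroup.mk' Z)}).exists_minimal
      ⟨_, Subgroup.Normal.map hNn _ (QuotientGroup.mk'_surjective Z), hNbar, le_rfl⟩
  have hab : ⁅Mb, Mb⁆ = ⊥ := by
    haveI := hMn
    by_contra hne
    have hlt : ⁅Mb, Mb⁆ < Mb := Group.IsSolvable.commutator_lt_of_ne_bot hMne
    exact hlt.not_ge (hMmin ⟨inferInstance, hne, hlt.le.trans hMle⟩ hlt.le)
  set M := Mb.comap (QuotientGroup.mk' Z) ⊓ N with hM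
  haveI : Mb.Normal := hMn
  haveI hMnorm : M.Normal := inferInstance
  have hnil : Group.IsNilpotent M := by
    let f : M →* (Mb : Type u) := ((QuotientGroup.mk' Z).comp M.subtype).codRestrict Mb fun x => x.2.1
    have hker : f.ker ≤ Subgroup.center M := by
      intro x hx
      rw [MonoidHom.mem_ker] at hx
      have hxZ : (x : G) ∈ Z := (QuotientGroup.eq_one_iff _).mp (congrArg Subtype.val hx)
      rw [Subgroup.mem_center_iff]
      intro y
      exact Subtype.ext (Subgroup.mem_center_iff.mp hxZ.2 y)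
    haveI : Group.IsNilpotent Mb := by
      letI : CommGroup Mb := { (inferInstance : Group Mb) with
        mul_comm := fun a b => Subtype.ext
          (Subgroup.mem_centralizer_iff.mp ((Subgroup.commutator_eq_bot_iff_le_centralizer.mp hab) b.2) a a.2) }
      exact CommGroup.isNilpotent
    exact isNilpotent_of_ker_le_center f hker
  have hMc : ∀ a ∈ M, ∀ b ∈ M, a * b = b * a := by
    intro a ha b hb
    have h := comm_of_nilpotent (M := M) (fun p _ P _ hP x hx y hy => Subtype.ext (hA p (P.map M.subtype)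
      (fun z hz => by obtain ⟨w, -, rfl⟩ := hz; exact w.2.2) (hP.map _) x ⟨x, hx, rfl⟩ y ⟨y, hy, rfl⟩))
      ⟨a, ha⟩ ⟨b, hb⟩
    exact congrArg Subtype.val h
  have hMZ : M ≤ Z := le_inf inf_le_right (hcen M hMnorm inf_le_right hMc)
  refine hMne (le_bot_iff.mp fun q hq => ?_)
  obtain ⟨x, hx, rfl⟩ := hMle hq
  exact Subgroup.mem_bot.mpr ((QuotientGroup.eq_one_iff x).mpr (hMZ ⟨hq, hx⟩))

theorem agroup_monomial_aux (n : ℕ) : ∀ {G : Type u} [Group G] [Fintype G] [Group.IsSolvable G],
    Nat.card G = n → ∀ (N : Subgroup G) [N.Normal], AbelianPParts N → ∀ χ : G → ℂ, IsIrrCharacter G χ →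
    IsIrrCharacter N (fun x : N => χ x) → MonomialAt χ := by
  classical
  induction n using Nat.strong_induction_on with
  | _ n IH =>
    intro G _ _ _ hn N _ hA χ hχ hres
    obtain ⟨K, hKn, hK⟩ := H24.exists_ker (H12.isCharacter_of_isIrrCharacter hχ)
    haveI := hKn
    by_cases hKbot : K = ⊥
    swap
    · -- pass to the quotient by the kernel
      letI : Fintype (G ⧸ K) := Fintype.ofFinite _
      obtain ⟨ψ, hψ⟩ := H13.exists_irr_of_le_kernel K hχ (fun k hk => (hK k).mp hk)
      have hlt : Nat.card (G ⧸ K) < n := by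
        rw [← hn, ← K.card_mul_index]
        change K.index < _
        have h1 : 1 < Nat.card K := Finite.one_lt_card_iff_nontrivial.mpr ((Subgroup.nontrivial_iff_ne_bot K).mpr hKbot)
        exact lt_mul_of_one_lt_left (Nat.pos_of_ne_zero Subgroup.index_ne_zero_of_finite) h1
      haveI : (N.map (QuotientGroup.mk' K)).Normal :=
        Subgroup.Normal.map inferInstance _ (QuotientGroup.mk'_surjective K)
      let f : N →* N.map (QuotientGroup.mk' K) := (QuotientGroup.mk' K).subgroupMap N
      have hres' : IsIrrCharacter (N.map (QuotientGroup.mk' K))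
          (fun x : N.map (QuotientGroup.mk' K) => (ψ : G ⧸ K → ℂ) x) := by
        letI : Fintype N := Fintype.ofFinite _
        letI : Fintype (N.map (QuotientGroup.mk' K)) := Fintype.ofFinite _
        refine H12.isIrrCharacter_of_classInner_self_eq_one
          (H12.IsCharacter.res (H12.isCharacter_irr ψ) _) ?_
        rw [← classInner_comp_hom (MonoidHom.subgroupMap_surjective (QuotientGroup.mk' K) N), ← H16.ci_irr_self hres]
        congr 1 <;> funext x <;> exact (hψ x).symm
      obtain ⟨U, lam, hlam, hlam1, hind⟩ := IH _ hlt (G := G ⧸ K) rfl (N.map (QuotientGroup.mk' K))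
        (abelianPParts_map hA _) ψ ψ.2 hres'
      refine ⟨U.comap (QuotientGroup.mk' K), fun x => lam ⟨_, x.2⟩, ?_, ?_, funext fun g => ?_⟩
      · refine H12.IsIrrCharacter.comp_surjective hlam (f := (QuotientGroup.mk' K).subgroupComap U) ?_
        rintro ⟨q, hq⟩
        obtain ⟨g, rfl⟩ := QuotientGroup.mk'_surjective K q
        exact ⟨⟨g, hq⟩, rfl⟩
      · rw [← hlam1]
        exact congrArg lam (Subtype.ext rfl)
      · rw [H13.indFun_inflate K U lam g, hind, ← hψ]
    -- faithful case
    by_cases hinv : ∀ A : Subgroup G, A.Normal → A ≤ N → (∀ a ∈ A, ∀ b ∈ A, a * b = b * a) →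
        A ≤ Subgroup.center G
    · have hcom := commutative_of_central N hA hinv
      letI : Fintype (⊤ : Subgroup G) := Fintype.ofFinite _
      refine ⟨⊤, fun x => χ x, H13.isIrrCharacter_comp_equiv (Subgroup.topEquiv : (⊤ : Subgroup G) ≃* G) hχ,
        ?_, H13.indFun_top_of_isClassFunction (H12.irr_isClassFunction ⟨χ, hχ⟩)⟩
      have h1 := H13.degree_one_of_commutative (fun a b : N => Subtype.ext
        (Subgroup.mem_center_iff.mp (hcom b.2) a)) ⟨_, hres⟩
      simpa using h1
    push Not at hinv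
    obtain ⟨A, hAn, hAN, hAc, hAcen⟩ := hinv
    haveI := hAn
    letI : Fintype A := Fintype.ofFinite _
    letI : Fintype N := Fintype.ofFinite _
    obtain ⟨θ, hθne⟩ := H13.exists_constituent A (H12.isCharacter_of_isIrrCharacter hχ) (H16.irr_ne_zero hχ)
    set T := H13.inertia A (θ : A → ℂ) with hT
    have hAT : A ≤ T := H13.le_inertia A (H12.irr_isClassFunction θ)
    have hθ1 : (θ : A → ℂ) 1 = 1 :=
      H13.degree_one_of_commutative (fun a b : A => Subtype.ext (hAc a a.2 b b.2)) θ
    have hTtop : T ≠ ⊤ := by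
      intro htop
      refine hAcen fun a ha => ?_
      have hres1 := H13.clifford_res A hχ θ.2 hθne {θ} (fun ψ => by
        rw [Finset.mem_singleton]
        refine ⟨fun h => ⟨1, by rw [h, H13.twist_one]⟩, fun ⟨x, hx⟩ => Subtype.ext ?_⟩
        rw [← hx]
        exact (H13.mem_inertia A).mp (show x ∈ T from htop ▸ Subgroup.mem_top x))
      rw [Finset.sum_singleton] at hres1
      rw [Subgroup.mem_center_iff]
      intro g
      have hgag : g * a * g⁻¹ * a⁻¹ ∈ A := A.mul_mem (hAn.conj_mem a ha g) (A.inv_mem ha)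
      have hkey : χ (g * a * g⁻¹ * a⁻¹) = χ 1 := by
        have e1 : χ (g * a * g⁻¹ * a⁻¹) = _ := congrFun hres1 ⟨_, hgag⟩
        have e2 : χ 1 = _ := congrFun hres1 (1 : A)
        rw [e1, e2]
        simp only [Pi.smul_apply, smul_eq_mul]
        congr 1
        have htw : (θ : A → ℂ) ⟨g * a * g⁻¹, hAn.conj_mem a ha g⟩ = (θ : A → ℂ) ⟨a, ha⟩ :=
          congrFun ((H13.mem_inertia A).mp (show g ∈ T from htop ▸ Subgroup.mem_top g)) ⟨a, ha⟩
        have hm := linear_char_mul (H12.isCharacter_irr θ) hθ1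
        have : (θ : A → ℂ) ⟨g * a * g⁻¹ * a⁻¹, hgag⟩ =
            (θ : A → ℂ) (⟨g * a * g⁻¹, hAn.conj_mem a ha g⟩ * (⟨a, ha⟩ : A)⁻¹) := rfl
        rw [this, hm, htw, ← hm, mul_inv_cancel]
      have h0 := (hK _).mpr hkey
      rw [hKbot, Subgroup.mem_bot] at h0
      exact mul_inv_eq_iff_eq_mul.mp (mul_inv_eq_one.mp h0)
    letI : Fintype T := Fintype.ofFinite _
    obtain ⟨ψ, hψ, hψne, hψχ⟩ := H13.clifford_correspondence_exists A θ.2 hT hAT hχ hθne
    have hlt : Nat.card T < n := by
      rw [← hn]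
      exact lt_of_le_of_ne (Subgroup.card_le_card_group T) fun h => hTtop (T.eq_top_of_card_eq h)
    -- restriction of `ψ` to `N ⊓ T`
    let A' := A.subgroupOf N
    let eA : A' ≃* A := Subgroup.subgroupOfEquivOfLe hAN
    letI : Fintype A' := Fintype.ofFinite _
    let T' := T.subgroupOf N
    letI : Fintype T' := Fintype.ofFinite _
    letI : Fintype (N.subgroupOf T) := Fintype.ofFinite _
    have hT' : T' = H13.inertia A' ((θ : A → ℂ) ∘ eA) := by
      ext x
      rw [Subgroup.mem_subgroupOf, hT, H13.mem_inertia, H13.mem_inertia]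
      constructor
      · intro h
        funext a
        exact congrFun h (eA a)
      · intro h
        funext a
        obtain ⟨a', rfl⟩ := eA.surjective a
        exact congrFun h a'
    have hA'T' : A' ≤ T' := fun x hx => Subgroup.mem_subgroupOf.mpr (hAT (Subgroup.mem_subgroupOf.mp hx))
    let j : T' →* T := (N.subtype.comp T'.subtype).codRestrict T fun x => x.2
    have hψj : IsCharacter T' (ψ ∘ j) := H12.IsCharacter.comp (H12.isCharacter_of_isIrrCharacter hψ) j
    have hψ1 : ψ 1 ≠ 0 := H12.irr_apply_one_ne_zero ⟨ψ, hψ⟩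
    obtain ⟨φ, hφne⟩ : ∃ φ : IrrCharacter T', classInner (ψ ∘ j) (φ : T' → ℂ) ≠ 0 := by
      by_contra hcon
      push Not at hcon
      have hz := H12.eq_zero_of_classInner_irr_eq_zero (H12.IsCharacter.isClassFunction hψj) hcon
      have h := congrFun hz 1
      rw [Function.comp_apply, map_one] at h
      exact hψ1 h
    have hψA : H13.resTo hAT ψ = classInner (H13.resTo hAT ψ) (θ : A → ℂ) • (θ : A → ℂ) :=
      H13.resTo_eq_of_invariant A hAT θ.2 hT.le hψ hψne
    have hrest := H13.isCharacter_sub_irr hψj φ.2 hφne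
    have hφA : classInner (H13.resTo hA'T' (φ : T' → ℂ)) ((θ : A → ℂ) ∘ eA) ≠ 0 := by
      intro h0
      have hθ' : IsIrrCharacter A' ((θ : A → ℂ) ∘ eA) := H13.isIrrCharacter_comp_equiv eA θ.2
      have hcR : IsCharacter A' (H13.resTo hA'T' (φ : T' → ℂ)) :=
        H13.isCharacter_resTo hA'T' (H12.isCharacter_irr φ)
      have hsum : H13.resTo hA'T' ((φ : T' → ℂ)) + H13.resTo hA'T' (ψ ∘ j - (φ : T' → ℂ)) =
          classInner (H13.resTo hAT ψ) (θ : A → ℂ) • ((θ : A → ℂ) ∘ eA) := by
        funext a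
        have := congrFun hψA (eA a)
        simp only [Pi.add_apply, H13.resTo_apply, Pi.sub_apply, add_sub_cancel, Function.comp_apply]
        exact this
      obtain ⟨φ', hφ'⟩ : ∃ φ' : IrrCharacter A', classInner (H13.resTo hA'T' (φ : T' → ℂ)) (φ' : A' → ℂ) ≠ 0 := by
        by_contra hcon
        push Not at hcon
        have hz := H12.eq_zero_of_classInner_irr_eq_zero (H12.IsCharacter.isClassFunction hcR) hcon
        exact H12.irr_apply_one_ne_zero φ (congrFun hz 1)
      by_cases heq : (φ' : A' → ℂ) = (θ : A → ℂ) ∘ eA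
      · exact hφ' (heq ▸ h0)
      · have h1 := congrArg (fun F => classInner F (φ' : A' → ℂ)) hsum
        simp only [H16.ci_add_left, H12.classInner_smul_left] at h1
        rw [H16.ci_irr_ne hθ' φ'.2 (fun h => heq h.symm), mul_zero] at h1
        obtain ⟨a, ha⟩ := H12.IsCharacter.classInner_nat hcR (H12.isCharacter_irr φ')
        obtain ⟨b, hb⟩ := H12.IsCharacter.classInner_nat (H13.isCharacter_resTo hA'T' hrest) (H12.isCharacter_irr φ')
        rw [ha, hb] at h1
        have : a + b = 0 := by exact_mod_cast h1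
        refine hφ' ?_
        rw [ha]
        exact_mod_cast (by omega : a = 0)
    haveI : A'.Normal := inferInstance
    obtain ⟨hindirr, -⟩ := H13.clifford_correspondence A' (H13.isIrrCharacter_comp_equiv eA θ.2) hT' hA'T' φ.2 hφA
    have hχψ : classInner (fun t : T => χ t) ψ ≠ 0 := by
      rw [← hψχ, ← H13.classInner_indFun_right T ψ (H13.indFun_isClassFunction T ψ), hψχ, H16.ci_irr_self hχ]
      exact one_ne_zero
    have hr := H13.isCharacter_sub_irr (H12.IsCharacter.res (H12.isCharacter_of_isIrrCharacter hχ) T) hψ hχψ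
    have hNφ : classInner (fun t : T' => χ ((t : N) : G)) (φ : T' → ℂ) ≠ 0 := by
      have hfun : (fun t : T' => χ ((t : N) : G)) = (((fun t : T => χ t) - ψ) ∘ j) + ψ ∘ j := by
        funext t
        simp [j]
        rfl
      rw [hfun, H16.ci_add_left]
      obtain ⟨a, ha⟩ := H12.IsCharacter.classInner_nat (H12.IsCharacter.comp hr j) (H12.isCharacter_irr φ)
      obtain ⟨b, hb⟩ := H12.IsCharacter.classInner_nat hψj (H12.isCharacter_irr φ)
      rw [ha, hb]
      intro h
      have h' : a + b = 0 := by exact_mod_cast h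
      refine hφne ?_
      rw [hb]
      exact_mod_cast (by omega : b = 0)
    have hindeq : indFun T' (φ : T' → ℂ) = fun x : N => χ x := by
      by_contra hne
      have h0 := H16.ci_irr_ne hres hindirr (fun h => hne h.symm)
      rw [H13.classInner_indFun_right T' _ (H12.irr_isClassFunction ⟨_, hres⟩)] at h0
      exact hNφ h0
    -- the index of `T'` in `N` is the index of `T` in `G`
    have hTN : T'.index = T.index := by
      have h1 := H13.clifford_degree A hχ θ.2 hθne
      rw [← hT, hθ1, mul_one] at h1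
      have hθ' : IsIrrCharacter A' ((θ : A → ℂ) ∘ eA) := H13.isIrrCharacter_comp_equiv eA θ.2
      have hne' : classInner (fun a : A' => (fun x : N => χ x) a) ((θ : A → ℂ) ∘ eA) =
          classInner (fun a : A => χ a) (θ : A → ℂ) := by
        rw [← H13.classInner_comp_equiv eA (fun a : A => χ a) (θ : A → ℂ)]
        rfl
      have h2 := H13.clifford_degree A' hres hθ' (by rw [hne']; exact hθne)
      rw [← hT', hne', Function.comp_apply, map_one, hθ1, mul_one] at h2
      simp only [OneMemClass.coe_one] at h2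
      have h3 := mul_left_cancel₀ hθne (h2.symm.trans h1)
      exact_mod_cast h3
    have hφ1 : (φ : T' → ℂ) 1 = ψ 1 := by
      have e1 := congrFun hindeq 1
      have e2 := congrFun hψχ 1
      rw [H13.indFun_apply_one] at e1 e2
      simp only [OneMemClass.coe_one] at e1
      rw [hTN, ← e2] at e1
      exact mul_left_cancel₀ (Nat.cast_ne_zero.2 Subgroup.index_ne_zero_of_finite) e1
    have hψjeq : ψ ∘ j = (φ : T' → ℂ) := by
      rw [← sub_eq_zero]
      refine H13.eq_zero_of_apply_one hrest ?_
      rw [Pi.sub_apply, Function.comp_apply, map_one, hφ1, sub_self]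
    let es : (N.subgroupOf T) ≃* T' :=
      { toFun := fun x => ⟨⟨((x : T) : G), x.2⟩, (x : T).2⟩
        invFun := fun x => ⟨⟨((x : N) : G), x.2⟩, (x : N).2⟩
        left_inv := fun x => rfl
        right_inv := fun x => rfl
        map_mul' := fun x y => rfl }
    have hres2 : IsIrrCharacter (N.subgroupOf T) (fun x : N.subgroupOf T => ψ x) := by
      have h := H13.isIrrCharacter_comp_equiv es φ.2
      rwa [← hψjeq] at h
    obtain ⟨U, lam, hlam, hlam1, hind⟩ := IH _ hlt (G := T) rfl (N.subgroupOf T)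
      (abelianPParts_subgroupOf hA) ψ hψ hres2
    obtain ⟨eU, heU, hirrU, hindU⟩ := indFun_stages T U hlam
    exact ⟨U.map T.subtype, lam ∘ eU, hirrU, by rw [Function.comp_apply, map_one, hlam1],
      by rw [hindU, hind, hψχ]⟩

end H14
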