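import Cfsg.Agent.H13.Gallagher
import Cfsg.Agent.H12.Transport

set_option autoImplicit false

open scoped ComplexConjugate

namespace H14

/-- a class function constant on the cosets of `N` which is orthogonal to all irreducible characters of
`G ⧸ N` vanishes -/
theorem eq_zero_of_coset_orthogonal {G : Type*} [Group G] [Fintype G] (N : Subgroup G) [N.Normal]
    (F : G → ℂ) (hF : Cfsg.IsClassFunction G F) (hN : ∀ n ∈ N, ∀ g, F (n * g) = F g)
    (h : ∀ β : Cfsg.IrrCharacter (G ⧸ N),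
      Cfsg.classInner F ((H13.inflateIrr N β : G → ℂ)) = 0) : F = 0 := by
  classical
  letI : Fintype (G ⧸ N) := Fintype.ofFinite _
  let f : G ⧸ N → ℂ := Quotient.lift F fun a b hab => by
    have h1 : a⁻¹ * b ∈ N := QuotientGroup.leftRel_apply.mp hab
    have h2 := hN _ (Subgroup.Normal.conj_mem inferInstance _ h1 a) a
    simpa [mul_assoc] using h2.symm
  have hfmk : ∀ g : G, f (g : G ⧸ N) = F g := fun g => rfl
  have hf : Cfsg.IsClassFunction (G ⧸ N) f := by
    intro x y
    induction x using QuotientGroup.induction_on with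
    | H a =>
    induction y using QuotientGroup.induction_on with
    | H b => exact hF a b
  have hfib : ∀ (u : G ⧸ N → ℂ), ∑ g : G, u (g : G ⧸ N) = (Nat.card N : ℂ) * ∑ q : G ⧸ N, u q := by
    intro u
    rw [← Fintype.sum_fiberwise (fun g : G => (g : G ⧸ N)), Finset.mul_sum]
    refine Finset.sum_congr rfl fun q _ => ?_
    rw [Finset.sum_congr rfl (g := fun _ => u q) (fun g _ => by rw [g.2]), Finset.sum_const,
      nsmul_eq_mul, Finset.card_univ, ← Nat.card_eq_fintype_card]
    congr 2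
    obtain ⟨a, rfl⟩ := QuotientGroup.mk_surjective q
    refine Nat.card_congr
      { toFun := fun g => ⟨a⁻¹ * g.1, QuotientGroup.eq.mp g.2.symm⟩
        invFun := fun n => ⟨a * n.1, QuotientGroup.eq.mpr (by simp)⟩
        left_inv := fun g => Subtype.ext (mul_inv_cancel_left _ _)
        right_inv := fun n => Subtype.ext (inv_mul_cancel_left _ _) }
  have h0 : f = 0 := by
    refine H12.eq_zero_of_classInner_irr_eq_zero hf fun β => ?_
    have := h β
    rw [Cfsg.classInner] at this ⊢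
    simp only [H13.inflateIrr_apply, ← hfmk] at this
    rw [hfib (fun q => f q * conj ((β : G ⧸ N → ℂ) q)), ← N.card_mul_index, ← mul_assoc,
      Subgroup.index_eq_card] at this
    have hN0 : (Nat.card N : ℂ) ≠ 0 := Nat.cast_ne_zero.mpr Nat.card_pos.ne'
    push_cast at this
    rw [mul_inv, mul_comm (Nat.card N : ℂ)⁻¹, mul_assoc (Nat.card (G ⧸ N) : ℂ)⁻¹,
      inv_mul_cancel₀ hN0, mul_one] at this
    exact this
  funext g
  rw [← hfmk, h0]
  rfl

/-- coset averages `|N|⁻¹ ∑ ψ(ng) conj χ(ng)` -/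
noncomputable def cosetAvg {G : Type*} [Group G] (N : Subgroup G) [Fintype N] (ψ χ : G → ℂ) : G → ℂ :=
  fun g => (Nat.card N : ℂ)⁻¹ * ∑ n : N, ψ ((n : G) * g) * conj (χ ((n : G) * g))

theorem cosetAvg_coset {G : Type*} [Group G] (N : Subgroup G) [Fintype N] (ψ χ : G → ℂ) :
    ∀ m ∈ N, ∀ g, cosetAvg N ψ χ (m * g) = cosetAvg N ψ χ g := by
  intro m hm g
  unfold cosetAvg
  congr 1
  refine Fintype.sum_equiv (Equiv.mulRight (⟨m, hm⟩ : N)) _ _ fun n => ?_
  simp [mul_assoc]

theorem cosetAvg_class {G : Type*} [Group G] (N : Subgroup G) [N.Normal] [Fintype N] {ψ χ : G → ℂ}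
    (hψ : Cfsg.IsClassFunction G ψ) (hχ : Cfsg.IsClassFunction G χ) :
    Cfsg.IsClassFunction G (cosetAvg N ψ χ) := by
  intro g x
  unfold cosetAvg
  congr 1
  refine Fintype.sum_equiv (MulAut.conjNormal x⁻¹ : N ≃* N).toEquiv _ _ fun n => ?_
  have : ((n : G) * (x * g * x⁻¹)) = x * (((MulAut.conjNormal x⁻¹ n : N) : G) * g) * x⁻¹ := by
    simp [mul_assoc]
  rw [this, hψ, hχ]
  rfl

/-- inner product of a coset average with a function constant on cosets -/
theorem classInner_cosetAvg {G : Type*} [Group G] [Fintype G] (N : Subgroup G) [Fintype N] (ψ χ b : G → ℂ)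
    (hb : ∀ m ∈ N, ∀ g, b (m * g) = b g) :
    Cfsg.classInner (cosetAvg N ψ χ) b = Cfsg.classInner ψ (b * χ) := by
  simp only [Cfsg.classInner, cosetAvg]
  congr 1
  simp only [Finset.mul_sum, Finset.sum_mul]
  rw [Finset.sum_comm]
  have : ∀ n : N, ∑ g : G, (Nat.card N : ℂ)⁻¹ * (ψ ((n : G) * g) * conj (χ ((n : G) * g))) * conj (b g) =
      ∑ g : G, (Nat.card N : ℂ)⁻¹ * (ψ g * conj ((b * χ) g)) := by
    intro n
    refine Fintype.sum_equiv (Equiv.mulLeft (n : G)) _ _ fun g => ?_
    rw [Equiv.coe_mulLeft, Pi.mul_apply, map_mul, hb n n.2]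
    ring
  rw [Finset.sum_congr rfl fun n _ => this n, Finset.sum_const, Finset.card_univ, ← Nat.card_eq_fintype_card,
    ← Finset.mul_sum, nsmul_eq_mul, ← mul_assoc, mul_inv_cancel₀ (Nat.cast_ne_zero.mpr Nat.card_pos.ne'),
    one_mul]

theorem inflate_coset {G : Type*} [Group G] (N : Subgroup G) [N.Normal] (β : Cfsg.IrrCharacter (G ⧸ N)) :
    ∀ m ∈ N, ∀ g, (H13.inflateIrr N β : G → ℂ) (m * g) = (H13.inflateIrr N β : G → ℂ) g := by
  intro m hm g
  rw [H13.inflateIrr_apply, H13.inflateIrr_apply]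
  congr 1
  rw [QuotientGroup.mk_mul, (QuotientGroup.eq_one_iff m).2 hm, one_mul]

/-- averages of `|χ|²` over cosets, for `χ` irreducible on `N` -/
theorem cosetAvg_self {G : Type*} [Group G] [Fintype G] (N : Subgroup G) [N.Normal] [Fintype N]
    {χ : G → ℂ} (hχ : Cfsg.IsCharacter G χ) (hχN : Cfsg.IsIrrCharacter N (fun n : N => χ n)) :
    cosetAvg N χ χ = fun _ => 1 := by
  classical
  letI : Fintype (G ⧸ N) := Fintype.ofFinite _
  have h : cosetAvg N χ χ - (fun _ => 1) = 0 := by
    refine eq_zero_of_coset_orthogonal N _ (H12.IsClassFunction.sub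
      (cosetAvg_class N (H12.IsCharacter.isClassFunction hχ) (H12.IsCharacter.isClassFunction hχ))
      (fun _ _ => rfl)) (fun m hm g => by simp only [Pi.sub_apply, cosetAvg_coset N χ χ m hm g]) fun β => ?_
    rw [H12.classInner_sub_left, classInner_cosetAvg N χ χ _ (inflate_coset N β)]
    have h1 := H13.gallagher_orthonormal N hχ hχN (H12.oneIrr (G ⧸ N)) β
    have e : ((H13.inflateIrr N (H12.oneIrr (G ⧸ N)) : G → ℂ)) = fun _ => 1 := rfl
    rw [e] at h1
    rw [show ((fun _ => (1 : ℂ)) * χ : G → ℂ) = χ from one_mul χ] at h1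
    rw [h1, sub_self]
  exact sub_eq_zero.mp h

end H14
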