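import Cfsg.Prelude.Def_Transfer
import Cfsg.Agent.S0850
import Cfsg.Agent.H16.Extend
import Cfsg.Agent.H13.Kernel
import Cfsg.Agent.H13.Clifford
import Cfsg.Agent.H13.Linear
import Cfsg.Agent.H12.Transport
import Cfsg.Agent.H12.Integral

set_option autoImplicit false

open scoped ComplexConjugate

namespace H14

/-- the irreducible characters nontrivial on `M` -/
def nontrivOn {L : Type*} [Group L] (M : Subgroup L) : Set (L → ℂ) :=
  {χ | Cfsg.IsIrrCharacter L χ ∧ ∃ k : L, k ∈ M ∧ χ k ≠ χ 1}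

section frobenius

variable {L : Type*} [Group L] [Fintype L] (M : Subgroup L) [M.Normal]

theorem vanish_off (hfix : ∀ k ∈ M, k ≠ 1 → Subgroup.centralizer ({k} : Set L) ≤ M) {χ : L → ℂ}
    (hχ : χ ∈ nontrivOn M) (g : L) (hg : g ∉ M) : χ g = 0 :=
  H13.eq_zero_of_free M hχ.1 hχ.2 g fun n hn h => by
    by_contra hn1
    exact hg (hfix n hn hn1 (Subgroup.mem_centralizer_singleton_iff.mpr h.symm))

theorem sum_trivOn [DecidablePred fun χ : Cfsg.IrrCharacter L => (χ : L → ℂ) ∈ nontrivOn M] :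
    ∑ χ ∈ Finset.univ.filter (fun χ : Cfsg.IrrCharacter L => (χ : L → ℂ) ∉ nontrivOn M),
      (χ : L → ℂ) 1 * (χ : L → ℂ) 1 = (M.index : ℂ) := by
  classical
  letI : Fintype (L ⧸ M) := Fintype.ofFinite _
  have hp : ∀ χ : Cfsg.IrrCharacter L, χ ∈ Finset.univ.filter
      (fun χ : Cfsg.IrrCharacter L => (χ : L → ℂ) ∉ nontrivOn M) ↔
      ∀ n ∈ M, (χ : L → ℂ) n = (χ : L → ℂ) 1 := by
    intro χ
    simp [nontrivOn, χ.2]
  rw [Finset.sum_subtype _ hp, ← Fintype.sum_equiv (H12.inflateEquiv M)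
    (fun β : Cfsg.IrrCharacter (L ⧸ M) => (β : L ⧸ M → ℂ) 1 * (β : L ⧸ M → ℂ) 1) _ (fun β => rfl),
    Subgroup.index_eq_card, ← H12.sum_degree_sq (G := L ⧸ M)]
  exact Finset.sum_congr rfl fun β _ => (sq _).symm

theorem sum_nontrivOn [DecidableEq L] [DecidablePred fun χ : Cfsg.IrrCharacter L => (χ : L → ℂ) ∈ nontrivOn M]
    (k : L) (hk : k ∈ M) :
    ∑ χ ∈ Finset.univ.filter (fun χ : Cfsg.IrrCharacter L => (χ : L → ℂ) ∈ nontrivOn M),
      (χ : L → ℂ) 1 * (χ : L → ℂ) k = (if k = 1 then (Nat.card L : ℂ) else 0) - (M.index : ℂ) := by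
  classical
  have h := H12.regular_eq_sum k
  rw [← Finset.sum_filter_add_sum_filter_not Finset.univ
    (fun χ : Cfsg.IrrCharacter L => (χ : L → ℂ) ∈ nontrivOn M)] at h
  rw [← sum_trivOn M]
  rw [eq_sub_iff_add_eq]
  refine Eq.trans ?_ (h.trans (by split_ifs <;> rfl))
  congr 1
  refine Finset.sum_congr rfl fun χ hχ => ?_
  congr 1
  by_contra hne
  exact (Finset.mem_filter.mp hχ).2 ⟨χ.2, k, hk, fun e => hne e.symm⟩

theorem sum_degree_sq_nontrivOn [DecidablePred fun χ : Cfsg.IrrCharacter L => (χ : L → ℂ) ∈ nontrivOn M] :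
    ∑ χ ∈ Finset.univ.filter (fun χ : Cfsg.IrrCharacter L => (χ : L → ℂ) ∈ nontrivOn M),
      (χ : L → ℂ) 1 * (χ : L → ℂ) 1 = (Nat.card L : ℂ) - (M.index : ℂ) := by
  classical
  rw [sum_nontrivOn M 1 M.one_mem, if_pos rfl]

theorem not_constant (hfix : ∀ k ∈ M, k ≠ 1 → Subgroup.centralizer ({k} : Set L) ≤ M) {χ ξ : L → ℂ}
    (hχ : χ ∈ nontrivOn M) (hξ : ξ ∈ nontrivOn M) (hne : χ ≠ ξ) :
    ∃ a ∈ M, ∃ b ∈ M, a ≠ 1 ∧ b ≠ 1 ∧ χ a ≠ χ b := by
  classical
  by_contra hcon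
  push Not at hcon
  obtain ⟨k0, hk0, hk0ne⟩ := hχ.2
  have hk01 : k0 ≠ 1 := fun e => hk0ne (by rw [e])
  have hconst : ∀ g : L, g ≠ 1 → χ g * conj (ξ g) = χ k0 * conj (ξ g) := by
    intro g hg
    by_cases hgM : g ∈ M
    · rw [hcon g hgM k0 hk0 hg hk01]
    · rw [vanish_off M hfix hξ g hgM]; simp
  have hξ0 : ∑ g : L, conj (ξ g) = 0 := by
    have h := H16.ci_irr_ne (G := L) H12.isIrrCharacter_one hξ.1 (fun e => by
      obtain ⟨k, hk, hkne⟩ := hξ.2
      exact hkne (by rw [← e]))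
    simp only [Cfsg.classInner, one_mul] at h
    exact (mul_eq_zero.mp h).resolve_left (inv_ne_zero (Nat.cast_ne_zero.mpr Nat.card_pos.ne'))
  have hξχ : ∑ g : L, χ g * conj (ξ g) = 0 := by
    have h := H16.ci_irr_ne (G := L) hχ.1 hξ.1 hne
    simp only [Cfsg.classInner] at h
    exact (mul_eq_zero.mp h).resolve_left (inv_ne_zero (Nat.cast_ne_zero.mpr Nat.card_pos.ne'))
  have h2 : ∑ g ∈ Finset.univ.erase (1 : L), χ g * conj (ξ g) =
      χ k0 * ∑ g ∈ Finset.univ.erase (1 : L), conj (ξ g) := by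
    rw [Finset.mul_sum]
    exact Finset.sum_congr rfl fun g hg => hconst g (Finset.ne_of_mem_erase hg)
  rw [Finset.sum_erase_eq_sub (Finset.mem_univ _), Finset.sum_erase_eq_sub (Finset.mem_univ _), hξ0,
    hξχ] at h2
  have h3 : (χ 1 - χ k0) * conj (ξ 1) = 0 := by linear_combination -h2
  rcases mul_eq_zero.mp h3 with h | h
  · exact hk0ne (sub_eq_zero.mp h).symm
  · exact H12.irr_apply_one_ne_zero ⟨ξ, hξ.1⟩ (by simpa using h)

/-- if the inner products with the members of `S` are proportional to degrees plus a multiple of `δ_{χ₀}` then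
the function is constant plus that multiple of `χ₀` on the nonidentity elements of `M` -/
theorem value_on_kernel {F : L → ℂ} (hF : Cfsg.IsGeneralizedCharacter L F) (c : ℚ) (δ : ℤ)
    (χ₀ : L → ℂ) (hχ₀ : χ₀ ∈ nontrivOn M)
    (hinner : ∀ ξ ∈ nontrivOn M, Cfsg.classInner F ξ = (c : ℂ) * ξ 1 + (δ : ℂ) * Cfsg.classInner χ₀ ξ) :
    ∃ w : ℚ, ∀ k ∈ M, k ≠ 1 → F k = (w : ℂ) + (δ : ℂ) * χ₀ k := by
  classical
  obtain ⟨hcl, hint⟩ := H12.isGeneralizedCharacter_iff.mp hF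
  choose z hz using hint
  refine ⟨-(c * M.index) + ∑ β ∈ Finset.univ.filter
    (fun χ : Cfsg.IrrCharacter L => (χ : L → ℂ) ∉ nontrivOn M), ((z β : ℚ) * H12.degree (β : L → ℂ)),
    fun k hk hk1 => ?_⟩
  rw [H12.classFunction_apply_eq_sum hcl k,
    ← Finset.sum_filter_add_sum_filter_not Finset.univ
      (fun χ : Cfsg.IrrCharacter L => (χ : L → ℂ) ∈ nontrivOn M)]
  have h1 : ∑ χ ∈ Finset.univ.filter (fun χ : Cfsg.IrrCharacter L => (χ : L → ℂ) ∈ nontrivOn M),
      Cfsg.classInner F χ * (χ : L → ℂ) k = -((c : ℂ) * M.index) + (δ : ℂ) * χ₀ k := by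
    rw [Finset.sum_congr rfl (fun χ hχ => by rw [hinner _ (Finset.mem_filter.mp hχ).2, add_mul, mul_assoc]),
      Finset.sum_add_distrib, ← Finset.mul_sum, sum_nontrivOn M k hk, if_neg hk1, zero_sub, mul_neg]
    congr 1
    rw [Finset.sum_eq_single (⟨χ₀, hχ₀.1⟩ : Cfsg.IrrCharacter L)]
    · rw [H16.ci_irr_self hχ₀.1, mul_one]
    · intro χ _ hχ
      rw [H16.ci_irr_ne hχ₀.1 χ.2 fun e => hχ (Subtype.ext e.symm)]
      ring
    · intro h
      exact (h (Finset.mem_filter.mpr ⟨Finset.mem_univ (⟨χ₀, hχ₀.1⟩ : Cfsg.IrrCharacter L), hχ₀⟩)).elim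
  have h2 : ∑ χ ∈ Finset.univ.filter (fun χ : Cfsg.IrrCharacter L => (χ : L → ℂ) ∉ nontrivOn M),
      Cfsg.classInner F χ * (χ : L → ℂ) k = ((∑ β ∈ Finset.univ.filter
    (fun χ : Cfsg.IrrCharacter L => (χ : L → ℂ) ∉ nontrivOn M),
      ((z β : ℚ) * H12.degree (β : L → ℂ)) : ℚ) : ℂ) := by
    push_cast
    refine Finset.sum_congr rfl fun χ hχ => ?_
    have hkv : (χ : L → ℂ) k = (χ : L → ℂ) 1 := by
      by_contra hne
      exact (Finset.mem_filter.mp hχ).2 ⟨χ.2, k, hk, hne⟩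
    rw [hz, hkv, H12.irr_apply_one]
  rw [h1, h2]
  push_cast
  ring

theorem degree_eq_index (hfix : ∀ k ∈ M, k ≠ 1 → Subgroup.centralizer ({k} : Set L) ≤ M)
    (hab : ∀ a ∈ M, ∀ b ∈ M, a * b = b * a) {χ : L → ℂ} (hχ : χ ∈ nontrivOn M) :
    χ 1 = (M.index : ℂ) := by
  classical
  obtain ⟨θ, hθ, hne⟩ : ∃ θ : Cfsg.IrrCharacter M,
      Cfsg.classInner (fun n : M => χ n) θ ≠ 0 ∧ ∃ n : M, (θ : M → ℂ) n ≠ (θ : M → ℂ) 1 := by
    by_contra hcon
    push Not at hcon
    obtain ⟨k, hk, hkne⟩ := hχ.2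
    have hcl := H12.IsCharacter.isClassFunction
      (H12.IsCharacter.res (H12.isCharacter_of_isIrrCharacter hχ.1) M)
    have h1 := H12.classFunction_apply_eq_sum hcl ⟨k, hk⟩
    have h2 := H12.classFunction_apply_eq_sum hcl (1 : M)
    refine hkne ?_
    change (fun n : M => χ n) ⟨k, hk⟩ = (fun n : M => χ n) 1
    refine h1.trans (Eq.trans ?_ h2.symm)
    refine Finset.sum_congr rfl fun θ _ => ?_
    by_cases h : Cfsg.classInner (fun n : M => χ n) θ = 0
    · rw [h, zero_mul, zero_mul]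
    · rw [hcon θ h ⟨k, hk⟩]
  have hθ1 : (θ : M → ℂ) 1 = 1 :=
    H13.degree_one_of_commutative (fun a b => Subtype.ext (hab a a.2 b b.2)) θ
  have hIn : H13.inertia M (θ : M → ℂ) ≤ M := by
    intro x hx
    by_contra hxM
    obtain ⟨n0, hn0⟩ := hne
    let f : M → M := fun n => ⟨x * n * x⁻¹ * (n : L)⁻¹,
      M.mul_mem (Subgroup.Normal.conj_mem inferInstance _ n.2 x) (M.inv_mem n.2)⟩
    have hinj : Function.Injective f := by
      intro a b hab'
      have h : x * (a : L) * x⁻¹ * (a : L)⁻¹ = x * (b : L) * x⁻¹ * (b : L)⁻¹ := congrArg Subtype.val hab'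
      by_contra hne'
      set d := (b : L)⁻¹ * (a : L) with hd
      have hdM : d ∈ M := M.mul_mem (M.inv_mem b.2) a.2
      have hd1 : d ≠ 1 := fun e => hne' (Subtype.ext (inv_mul_eq_one.mp e).symm)
      refine hxM (hfix d hdM hd1 (Subgroup.mem_centralizer_singleton_iff.mpr ?_))
      have hxd : x * d * x⁻¹ = d := by
        rw [hd, show x * ((b : L)⁻¹ * (a : L)) * x⁻¹ =
          (x * (b : L) * x⁻¹)⁻¹ * (x * (a : L) * x⁻¹) by group]
        have e1 : x * (a : L) * x⁻¹ = x * (b : L) * x⁻¹ * (b : L)⁻¹ * (a : L) := by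
          rw [← h]; group
        rw [e1]
        group
      calc x * d = x * d * x⁻¹ * x := by group
        _ = d * x := by rw [hxd]
    obtain ⟨n, hn⟩ := (Finite.injective_iff_surjective.mp hinj) n0
    apply hn0
    have hf : (fun y : M => ((H13.linHom (H12.isCharacter_irr θ) hθ1 y : ℂˣ) : ℂ)) = (θ : M → ℂ) := rfl
    rw [← hn, ← hf]
    have he : f n = ⟨x * n * x⁻¹, Subgroup.Normal.conj_mem inferInstance _ n.2 x⟩ * n⁻¹ := rfl
    simp only [he, map_mul, map_inv, Units.val_mul, map_one]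
    have htw := congrFun ((H13.mem_inertia M).mp hx) n
    rw [H13.twist_apply, ← hf] at htw
    simp only at htw
    rw [htw]
    simp
  have hirr := H13.isIrrCharacter_indFun_of_inertia M θ.2 hIn
  have heq : (⟨χ, hχ.1⟩ : Cfsg.IrrCharacter L) = ⟨_, hirr⟩ := by
    by_contra hne'
    refine hθ ?_
    rw [← H13.classInner_indFun_right M _ (H12.irr_isClassFunction ⟨χ, hχ.1⟩)]
    exact H12.classInner_irr_ne hne'
  have hv := congrFun (congrArg Subtype.val heq) 1
  refine hv.trans ?_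
  change Cfsg.indFun M (θ : M → ℂ) 1 = _
  rw [H13.indFun_apply_one, hθ1, mul_one]

/-- one exceptional character only: the kernel is elementary abelian of order `index + 1` -/
theorem elementary_of_unique (hfix : ∀ k ∈ M, k ≠ 1 → Subgroup.centralizer ({k} : Set L) ≤ M)
    (hab : ∀ a ∈ M, ∀ b ∈ M, a * b = b * a) (hcard : Nat.card M = M.index + 1) :
    ∃ p : ℕ, p.Prime ∧ ∀ a ∈ M, a ^ p = 1 := by
  classical
  have hM : M ≠ ⊥ := fun h => by
    subst h
    rw [Subgroup.card_bot] at hcard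
    exact (Subgroup.index_ne_zero_of_finite (H := (⊥ : Subgroup L))) (by omega)
  obtain ⟨k, hk, hk1⟩ := (Subgroup.bot_or_exists_ne_one M).resolve_left hM
  obtain ⟨p, hp, hpd⟩ := Nat.exists_prime_and_dvd (n := orderOf k) (fun h => hk1 (orderOf_eq_one_iff.mp h))
  haveI := Fact.mk hp
  obtain ⟨y, hy⟩ := exists_prime_orderOf_dvd_card' (G := Subgroup.zpowers k) p (by rwa [Nat.card_zpowers])
  have hyM : (y : L) ∈ M := (Subgroup.zpowers_le.mpr hk) y.2
  have hy1 : (y : L) ≠ 1 := fun h => by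
    rw [← Subgroup.orderOf_coe, h, orderOf_one] at hy
    exact hp.one_lt.ne hy
  -- the conjugates of `y` exhaust `M`
  let f : L ⧸ M → {a : M // a ≠ 1} := fun q => ⟨⟨q.out * (y : L) * q.out⁻¹,
    Subgroup.Normal.conj_mem inferInstance _ hyM q.out⟩, fun h => hy1 (by
      simpa using congrArg Subtype.val h)⟩
  have hinj : Function.Injective f := by
    intro a b h
    have h' : a.out * (y : L) * a.out⁻¹ = b.out * (y : L) * b.out⁻¹ :=
      congrArg (fun z : {a : M // a ≠ 1} => ((z.1 : M) : L)) h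
    rw [← QuotientGroup.out_eq' a, ← QuotientGroup.out_eq' b, QuotientGroup.eq]
    refine hfix _ hyM hy1 (Subgroup.mem_centralizer_singleton_iff.mpr ?_)
    calc a.out⁻¹ * b.out * (y : L) = a.out⁻¹ * (b.out * (y : L) * b.out⁻¹) * b.out := by group
      _ = a.out⁻¹ * (a.out * (y : L) * a.out⁻¹) * b.out := by rw [h']
      _ = (y : L) * (a.out⁻¹ * b.out) := by group
  have hsurj : Function.Surjective f := by
    refine (Nat.bijective_iff_injective_and_card f).mpr ⟨hinj, ?_⟩ |>.2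
    have : Nat.card {a : M // a ≠ 1} + 1 = Nat.card M := by
      rw [← Nat.card_congr (Equiv.optionSubtypeNe (1 : M)), Finite.card_option]
    rw [← Subgroup.index_eq_card]
    omega
  refine ⟨p, hp, fun a ha => ?_⟩
  by_cases ha1 : a = 1
  · rw [ha1, one_pow]
  obtain ⟨q, hq⟩ := hsurj ⟨⟨a, ha⟩, fun h => ha1 (congrArg Subtype.val h)⟩
  have hq' : q.out * (y : L) * q.out⁻¹ = a := congrArg (fun z : {a : M // a ≠ 1} => ((z.1 : M) : L)) hq
  rw [← hq', conj_pow, ← hy, ← Subgroup.orderOf_coe, pow_orderOf_eq_one, mul_one, mul_inv_cancel]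

theorem zspan_gen {α : L → ℂ} (hα : α ∈ Cfsg.zspan (nontrivOn M)) : Cfsg.IsGeneralizedCharacter L α := by
  induction hα using Submodule.span_induction with
  | mem x hx => exact H16.gen_of_irr hx.1
  | zero => exact H16.gen_zero
  | add x y _ _ hx hy => exact H16.gen_add hx hy
  | smul a x _ hx => exact H16.gen_zsmul a hx

theorem zspan_vanish (hfix : ∀ k ∈ M, k ≠ 1 → Subgroup.centralizer ({k} : Set L) ≤ M) {α : L → ℂ}
    (hα : α ∈ Cfsg.zspan (nontrivOn M)) : ∀ g, g ∉ M → α g = 0 := by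
  induction hα using Submodule.span_induction with
  | mem x hx => exact vanish_off M hfix hx
  | zero => intro g _; rfl
  | add x y _ _ hx hy => intro g hg; simp [hx g hg, hy g hg]
  | smul a x _ hx => intro g hg; simp [hx g hg]

end frobenius

section ti

variable {G : Type*} [Group G] [Fintype G] (K : Subgroup G)

theorem fix_of_ti (hC : ∀ k ∈ K, k ≠ 1 → Subgroup.centralizer ({k} : Set G) ≤ K) :
    ∀ k ∈ K.subgroupOf (Subgroup.normalizer (K : Set G)), k ≠ 1 →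
      Subgroup.centralizer ({k} : Set (Subgroup.normalizer (K : Set G))) ≤
        K.subgroupOf (Subgroup.normalizer (K : Set G)) := by
  intro k hk hk1 x hx
  rw [Subgroup.mem_subgroupOf]
  refine hC (k : G) hk (fun h => hk1 (Subtype.ext h)) (Subgroup.mem_centralizer_singleton_iff.mpr ?_)
  exact congrArg Subtype.val (Subgroup.mem_centralizer_singleton_iff.mp hx)

theorem ind_restricts (hTI : ∀ g : G, g ∉ Subgroup.normalizer (K : Set G) → ∀ k ∈ K, g * k * g⁻¹ ∈ K → k = 1)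
    (hlt : K < Subgroup.normalizer (K : Set G))
    (hC : ∀ k ∈ K, k ≠ 1 → Subgroup.centralizer ({k} : Set G) ≤ K)
    [Fintype ↥(Subgroup.normalizer (K : Set G))]
    [(K.subgroupOf (Subgroup.normalizer (K : Set G))).Normal] {α : Subgroup.normalizer (K : Set G) → ℂ}
    (hα : α ∈ Cfsg.zspanOn (nontrivOn (K.subgroupOf (Subgroup.normalizer (K : Set G)))) {1}ᶜ)
    (x : Subgroup.normalizer (K : Set G)) :
    Cfsg.indFun (Subgroup.normalizer (K : Set G)) α (x : G) = α x := by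
  refine (Cfsg.Agent.S0850.result K hTI hlt hC).2 α
    (H12.isGeneralizedCharacter_iff.mp (zspan_gen _ hα.1)).1 (fun y hy => ?_) (hα.2 1 (by simp)) x
  exact zspan_vanish _ (fix_of_ti K hC) hα.1 y (fun h => hy h)

theorem ind_isometry (hTI : ∀ g : G, g ∉ Subgroup.normalizer (K : Set G) → ∀ k ∈ K, g * k * g⁻¹ ∈ K → k = 1)
    (hlt : K < Subgroup.normalizer (K : Set G))
    (hC : ∀ k ∈ K, k ≠ 1 → Subgroup.centralizer ({k} : Set G) ≤ K)
    [Fintype ↥(Subgroup.normalizer (K : Set G))]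
    [(K.subgroupOf (Subgroup.normalizer (K : Set G))).Normal] :
    Cfsg.IsLinearIsometryOn
      (Cfsg.zspanOn (nontrivOn (K.subgroupOf (Subgroup.normalizer (K : Set G)))) {1}ᶜ)
      (Cfsg.indFun (Subgroup.normalizer (K : Set G))) := by
  refine ⟨fun α _ β _ => H13.indFun_add _ α β, fun α _ n => ?_, fun α hα β hβ => ?_, fun α hα => ?_⟩
  · have h : (n • α : Subgroup.normalizer (K : Set G) → ℂ) = (n : ℂ) • α := by funext x; simp
    rw [h, H13.indFun_smul]
    funext x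
    simp
  · rw [H13.classInner_indFun_left _ _ (H13.indFun_isClassFunction _ _)]
    congr 1
    funext x
    exact ind_restricts K hTI hlt hC hβ x
  · exact H13.isGeneralizedCharacter_indFun _ (zspan_gen _ hα.1)

/-- values of a class function on the kernel, from its inner products with the coherent images -/
theorem value_of_star [Fintype ↥(Subgroup.normalizer (K : Set G))]
    [(K.subgroupOf (Subgroup.normalizer (K : Set G))).Normal]
    (star : (↥(Subgroup.normalizer (K : Set G)) → ℂ) → (G → ℂ))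
    (hstar : Cfsg.IsLinearIsometryOn
      (Cfsg.zspan (nontrivOn (K.subgroupOf (Subgroup.normalizer (K : Set G))))) star)
    (hext : ∀ α ∈ Cfsg.zspanOn (nontrivOn (K.subgroupOf (Subgroup.normalizer (K : Set G))))
      ({1}ᶜ : Set ↥(Subgroup.normalizer (K : Set G))), star α = Cfsg.indFun (Subgroup.normalizer (K : Set G)) α)
    (ψ : G → ℂ) (hψ : Cfsg.IsGeneralizedCharacter G ψ)
    (χ : ↥(Subgroup.normalizer (K : Set G)) → ℂ)
    (hχ : χ ∈ nontrivOn (K.subgroupOf (Subgroup.normalizer (K : Set G)))) (a : ℤ)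
    (hinner : ∀ ξ ∈ nontrivOn (K.subgroupOf (Subgroup.normalizer (K : Set G))),
      Cfsg.classInner ψ (star ξ) = (a : ℂ) * Cfsg.classInner χ ξ) :
    ∃ w : ℚ, ∀ k ∈ K.subgroupOf (Subgroup.normalizer (K : Set G)), k ≠ 1 →
      ψ k = (w : ℂ) + (a : ℂ) * χ k := by
  have hF : Cfsg.IsGeneralizedCharacter (Subgroup.normalizer (K : Set G))
      (fun x : Subgroup.normalizer (K : Set G) => ψ x) := by
    obtain ⟨p, q, hp, hq, rfl⟩ := hψ
    exact ⟨_, _, H12.IsCharacter.res hp _, H12.IsCharacter.res hq _, rfl⟩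
  obtain ⟨zχ, hzχ⟩ := H16.gen_inner_int hF (H16.gen_of_irr hχ.1)
  refine value_on_kernel _ hF (((zχ : ℚ) - a) / H12.degree χ) a χ hχ fun ξ hξ => ?_
  set dχ := H12.degree χ with hdχ
  set dξ := H12.degree ξ with hdξ
  have hχ1 : χ 1 = (dχ : ℂ) := H12.irr_apply_one ⟨χ, hχ.1⟩
  have hξ1 : ξ 1 = (dξ : ℂ) := H12.irr_apply_one ⟨ξ, hξ.1⟩
  have hαmem : ((dξ : ℤ) • χ - (dχ : ℤ) • ξ) ∈ Cfsg.zspanOn
      (nontrivOn (K.subgroupOf (Subgroup.normalizer (K : Set G))))
      ({1}ᶜ : Set ↥(Subgroup.normalizer (K : Set G))) :=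
    H16.mem_zspanOn_one.mpr ⟨H16.zspan_sub (H16.zspan_zsmul _ (H16.zspan_of_mem hχ))
      (H16.zspan_zsmul _ (H16.zspan_of_mem hξ)), by simp [hχ1, hξ1, mul_comm]⟩
  have h1 : Cfsg.classInner ψ (star ((dξ : ℤ) • χ - (dχ : ℤ) • ξ)) =
      Cfsg.classInner (fun x : Subgroup.normalizer (K : Set G) => ψ x) ((dξ : ℤ) • χ - (dχ : ℤ) • ξ) := by
    rw [hext _ hαmem, H13.classInner_indFun_right _ _ (H12.isGeneralizedCharacter_iff.mp hψ).1]
  rw [H16.iso_sub' hstar (H16.zspan_zsmul _ (H16.zspan_of_mem hχ))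
      (H16.zspan_zsmul _ (H16.zspan_of_mem hξ)), hstar.2.1 _ (H16.zspan_of_mem hχ),
    hstar.2.1 _ (H16.zspan_of_mem hξ), H16.ci_sub_right, H16.ci_sub_right, H16.ci_zsmul_right,
    H16.ci_zsmul_right, H16.ci_zsmul_right, H16.ci_zsmul_right, hinner χ hχ, hinner ξ hξ,
    H16.ci_irr_self hχ.1, hzχ] at h1
  have hd0 : (dχ : ℂ) ≠ 0 := by rw [← hχ1]; exact H12.irr_apply_one_ne_zero ⟨χ, hχ.1⟩
  rw [hξ1]
  push_cast at h1 ⊢
  field_simp
  linear_combination h1

end ti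

end H14
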