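import Cfsg.Agent.H24.Quot
import Cfsg.Agent.H30.Basic
import Cfsg.Agent.H13.Linear
import Cfsg.Agent.H12.Linear
import Cfsg.Agent.H18.Basic
import Cfsg.Agent.H9.NormalE2
import Cfsg.Agent.H17.CharTools

/-!
Groups of prime power order all of whose nonlinear irreducible characters of the same degree are
Galois conjugate.
-/

set_option autoImplicit false
set_option linter.unusedSectionVars false
set_option linter.style.haveILetI false

namespace H14.GaloisKernel

open Cfsg
open scoped ComplexConjugate commutatorElement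

universe u

variable {P : Type u} [Group P]

/-- Nonlinear irreducible characters of equal degree are Galois conjugate. -/
def OneOrbit (P : Type u) [Group P] : Prop :=
  ∀ χ ψ : IrrCharacter P, charDegree (χ : P → ℂ) ≠ 1 →
    charDegree (χ : P → ℂ) = charDegree (ψ : P → ℂ) →
    ∃ k : ℕ, Nat.Coprime k (Nat.card P) ∧ ∀ g : P, (ψ : P → ℂ) g = (χ : P → ℂ) (g ^ k)

section Basic

variable [Finite P]

theorem OneOrbit.quot (h : OneOrbit P) (N : Subgroup P) [N.Normal] : OneOrbit (P ⧸ N) := by
  intro χ ψ h1 h2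
  obtain ⟨k, hk, hval⟩ := h (H24.inflate N χ) (H24.inflate N ψ)
    (by rwa [H24.charDegree_inflate]) (by rwa [H24.charDegree_inflate, H24.charDegree_inflate])
  refine ⟨k, hk.coprime_dvd_right (Subgroup.card_quotient_dvd_card N), fun q => ?_⟩
  obtain ⟨g, rfl⟩ := QuotientGroup.mk_surjective q
  exact hval g

theorem OneOrbit.kerChar_eq (h : OneOrbit P) {χ ψ : IrrCharacter P}
    (h1 : charDegree (χ : P → ℂ) ≠ 1) (h2 : charDegree (χ : P → ℂ) = charDegree (ψ : P → ℂ)) :
    H24.kerChar χ = H24.kerChar ψ := by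
  obtain ⟨k, hk, hval⟩ := h χ ψ h1 h2
  ext g
  rw [H24.mem_kerChar (χ := ψ), hval, hval, one_pow, ← H24.mem_kerChar]
  refine ⟨fun hg => pow_mem hg k, fun hg => ?_⟩
  obtain ⟨j, hj⟩ := exists_pow_eq_self_of_coprime (x := g)
    (hk.coprime_dvd_right (orderOf_dvd_natCard g))
  rw [← hj]
  exact pow_mem hg j

theorem charDegree_eq_one_iff (χ : IrrCharacter P) :
    charDegree (χ : P → ℂ) = 1 ↔ commutator P ≤ H24.kerChar χ := by
  constructor
  · intro h1
    rw [commutator_eq_closure, Subgroup.closure_le]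
    rintro c ⟨a, b, rfl⟩
    have h := H24.irr_one χ
    rw [h1, Nat.cast_one] at h
    refine H24.mem_kerChar.2 ?_
    rw [commutatorElement_def, H13.linear_commutator (H12.isCharacter_irr χ) h a b, h]
  · intro hle
    obtain ⟨ψ, hψ⟩ := H24.exists_deflate (commutator P) χ hle
    have hone : (ψ : P ⧸ commutator P → ℂ) 1 = 1 := H12.irr_apply_one_of_comm
      (fun a b => (inferInstance : IsMulCommutative (Abelianization P)).is_comm.comm a b) ψ
    rw [H24.irr_one ψ, ← Nat.cast_one, Nat.cast_inj] at hone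
    rw [← hψ, H24.charDegree_inflate, hone]

theorem not_le_kerChar {χ : IrrCharacter P} (h : charDegree (χ : P → ℂ) ≠ 1) :
    ¬ commutator P ≤ H24.kerChar χ := fun hle => h ((charDegree_eq_one_iff χ).2 hle)

theorem exists_nonlinear (hna : commutator P ≠ ⊥) :
    ∃ χ : IrrCharacter P, charDegree (χ : P → ℂ) ≠ 1 := by
  by_contra hno
  push Not at hno
  refine hna ((Subgroup.eq_bot_iff_forall _).2 fun g hg => ?_)
  haveI := Fintype.ofFinite P
  by_contra hg1
  have h := H12.column_orthogonality g 1
  rw [if_neg (fun hc : IsConj g 1 => hg1 (isConj_one_right.1 (isConj_comm.1 hc)))] at h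
  have h' : ∀ χ : IrrCharacter P, (χ : P → ℂ) g * conj ((χ : P → ℂ) 1) = 1 := by
    intro χ
    have h1 := H24.irr_one χ
    rw [hno χ, Nat.cast_one] at h1
    rw [H24.mem_kerChar.1 ((charDegree_eq_one_iff χ).1 (hno χ) hg), h1, map_one, one_mul]
  simp only [h', Finset.sum_const, Finset.card_univ, nsmul_eq_mul, mul_one] at h
  exact Fintype.card_ne_zero (Nat.cast_eq_zero.1 h)

theorem sum_charDegree_sq [Fintype P] :
    ∑ χ : IrrCharacter P, charDegree (χ : P → ℂ) ^ 2 = Nat.card P := by
  have h := H12.column_orthogonality (1 : P) 1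
  rw [if_pos (IsConj.refl _)] at h
  simp only [H24.irr_one, Complex.conj_natCast, ← Nat.cast_mul, ← Nat.cast_sum, Nat.cast_inj] at h
  have hcard : Nat.card (Subgroup.centralizer ({(1 : P)} : Set P)) = Nat.card P := by
    rw [show Subgroup.centralizer ({(1 : P)} : Set P) = ⊤ from
      (Subgroup.eq_top_iff' _).2 fun x => Subgroup.mem_centralizer_singleton_iff.2 (by simp),
      Subgroup.card_top]
  simpa [pow_two, hcard] using h

/-- `|Z| χ(1)² ≤ |P|`, with equality when `χ` vanishes outside the center. -/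
theorem card_center_mul_sq_le (χ : IrrCharacter P) :
    Nat.card (Subgroup.center P) * charDegree (χ : P → ℂ) ^ 2 ≤ Nat.card P ∧
      ((∀ g, g ∉ Subgroup.center P → (χ : P → ℂ) g = 0) →
        Nat.card (Subgroup.center P) * charDegree (χ : P → ℂ) ^ 2 = Nat.card P) := by
  classical
  haveI := Fintype.ofFinite P
  have h := H12.sum_mul_conj_eq_card_mul (χ : P → ℂ) χ
  rw [H12.classInner_irr_self, mul_one] at h
  simp only [Complex.mul_conj, ← Complex.ofReal_sum] at h
  have h' : ∑ g : P, Complex.normSq ((χ : P → ℂ) g) = (Nat.card P : ℝ) := by exact_mod_cast h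
  obtain ⟨ω, hω⟩ := H17.exists_central_char χ.2 (Subgroup.center P) le_rfl
  set S := (Finset.univ : Finset P).filter fun g => g ∈ Subgroup.center P with hS
  have hSc : S.card = Nat.card (Subgroup.center P) := by
    rw [hS, ← Fintype.card_subtype, ← Nat.card_eq_fintype_card]
  have hval : ∀ g ∈ S, Complex.normSq ((χ : P → ℂ) g) =
      ((charDegree (χ : P → ℂ) : ℝ)) ^ 2 := by
    intro g hg
    have hz := (Finset.mem_filter.1 hg).2
    have h2 := hω ⟨g, hz⟩ 1
    rw [mul_one] at h2
    rw [h2, map_mul, H24.irr_one, Complex.normSq_natCast, Complex.normSq_eq_norm_sq,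
      H12.norm_eq_one_of_pow_eq_one (orderOf_pos (⟨g, hz⟩ : Subgroup.center P)).ne'
        (by rw [← Units.val_pow_eq_pow_val, ← map_pow, pow_orderOf_eq_one, map_one, Units.val_one]),
      one_pow, one_mul, pow_two]
  have hsum : ∑ g ∈ S, Complex.normSq ((χ : P → ℂ) g) =
      ((Nat.card (Subgroup.center P) * charDegree (χ : P → ℂ) ^ 2 : ℕ) : ℝ) := by
    rw [Finset.sum_congr rfl hval, Finset.sum_const, hSc, nsmul_eq_mul]
    push_cast
    rfl
  refine ⟨?_, fun hv => ?_⟩
  · have := Finset.sum_le_sum_of_subset_of_nonneg (Finset.subset_univ S)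
      (fun g _ _ => Complex.normSq_nonneg ((χ : P → ℂ) g))
    rw [hsum, h'] at this
    exact_mod_cast this
  · have := Finset.sum_subset (f := fun g => Complex.normSq ((χ : P → ℂ) g))
      (Finset.subset_univ S) (fun g _ hg => by
      rw [hv g (fun hz => hg (Finset.mem_filter.2 ⟨Finset.mem_univ _, hz⟩)), map_zero])
    rw [hsum, h'] at this
    exact_mod_cast this

end Basic

variable [Finite P] {p : ℕ} [Fact p.Prime]

section CommP

theorem commutator_le_center (hP : IsPGroup p P) (hc : Nat.card (commutator P) = p) :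
    commutator P ≤ Subgroup.center P :=
  H30.le_center_of_card_le hP (inferInstance : (commutator P).Normal) hc.le

theorem commutator_inf_eq_bot (hc : Nat.card (commutator P) = p) {K : Subgroup P}
    (hK : ¬ commutator P ≤ K) : commutator P ⊓ K = ⊥ := by
  have hd := Subgroup.card_dvd_of_le (inf_le_left : commutator P ⊓ K ≤ commutator P)
  rw [hc] at hd
  rcases (Fact.out : p.Prime).eq_one_or_self_of_dvd _ hd with h | h
  · exact Subgroup.card_eq_one.1 h
  · exact absurd (inf_eq_left.1 (Subgroup.eq_of_le_of_card_ge inf_le_left (by rw [h, hc]))) hK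

theorem vanish (hP : IsPGroup p P) (hc : Nat.card (commutator P) = p) {χ : IrrCharacter P}
    (hχ : charDegree (χ : P → ℂ) ≠ 1) {g : P} (hg : g ∉ Subgroup.center P) :
    (χ : P → ℂ) g = 0 := by
  rw [Subgroup.mem_center_iff] at hg
  push Not at hg
  obtain ⟨x, hx⟩ := hg
  obtain ⟨ω, hω⟩ := H17.exists_central_char χ.2 (Subgroup.center P) le_rfl
  set z := ⁅x, g⁆ with hz
  have hzC : z ∈ commutator P := Subgroup.commutator_mem_commutator
    (Subgroup.mem_top x) (Subgroup.mem_top g)
  have hzZ := commutator_le_center hP hc hzC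
  have hz1 : z ≠ 1 := fun h => hx (commutatorElement_eq_one_iff_mul_comm.1 h)
  have hconj : (χ : P → ℂ) (z * g) = (χ : P → ℂ) g := by
    rw [show z * g = x * g * x⁻¹ by rw [hz, commutatorElement_def]; group]
    exact H12.irr_isClassFunction χ g x
  rw [hω ⟨z, hzZ⟩ g] at hconj
  by_contra h0
  have hω1 : (ω ⟨z, hzZ⟩ : ℂ) = 1 := by
    have := mul_right_cancel₀ h0 (hconj.trans (one_mul _).symm)
    exact this
  have hker : z ∈ H24.kerChar χ := by
    rw [H24.mem_kerChar]
    have h3 := hω ⟨z, hzZ⟩ 1
    rw [mul_one, hω1, one_mul] at h3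
    exact h3
  have hb := commutator_inf_eq_bot hc (not_le_kerChar hχ)
  exact hz1 (Subgroup.mem_bot.1 (hb ▸ Subgroup.mem_inf.2 ⟨hzC, hker⟩))

theorem card_center_mul_sq (hP : IsPGroup p P) (hc : Nat.card (commutator P) = p)
    {χ : IrrCharacter P} (hχ : charDegree (χ : P → ℂ) ≠ 1) :
    Nat.card (Subgroup.center P) * charDegree (χ : P → ℂ) ^ 2 = Nat.card P :=
  (card_center_mul_sq_le χ).2 fun _ hg => vanish hP hc hχ hg

theorem charDegree_eq_of_commutator (hP : IsPGroup p P) (hc : Nat.card (commutator P) = p)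
    {χ ψ : IrrCharacter P} (hχ : charDegree (χ : P → ℂ) ≠ 1)
    (hψ : charDegree (ψ : P → ℂ) ≠ 1) :
    charDegree (χ : P → ℂ) = charDegree (ψ : P → ℂ) := by
  have h := (card_center_mul_sq hP hc hχ).trans (card_center_mul_sq hP hc hψ).symm
  exact Nat.pow_left_injective (by norm_num) (Nat.eq_of_mul_eq_mul_left Nat.card_pos h)

theorem oneOrbit_of (hP : IsPGroup p P) (hc : Nat.card (commutator P) = p)
    (hZ : IsCyclic (Subgroup.center P)) : OneOrbit P := by
  intro χ ψ hχ hdeg
  have hψ : charDegree (ψ : P → ℂ) ≠ 1 := hdeg ▸ hχ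
  obtain ⟨ω, hω⟩ := H17.exists_central_char χ.2 (Subgroup.center P) le_rfl
  obtain ⟨ω', hω'⟩ := H17.exists_central_char ψ.2 (Subgroup.center P) le_rfl
  obtain ⟨z, hz⟩ := hZ.exists_generator
  set N := Nat.card (Subgroup.center P) with hN
  have hNpos : 0 < N := Nat.card_pos
  have hord : orderOf z = N := orderOf_eq_card_of_forall_mem_zpowers hz
  -- a central character of a nonlinear character is faithful
  have hfaith : ∀ (φ : IrrCharacter P) (w : Subgroup.center P →* ℂˣ),
      charDegree (φ : P → ℂ) ≠ 1 →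
      (∀ (y : Subgroup.center P) (g : P), (φ : P → ℂ) ((y : P) * g) = (w y : ℂ) * (φ : P → ℂ) g) →
      IsPrimitiveRoot (w z : ℂ) N := by
    intro φ w hφ hw
    have hinj : Function.Injective w := by
      rw [injective_iff_map_eq_one]
      intro y hy
      by_contra hy1
      have hyk : (y : P) ∈ H24.kerChar φ := by
        rw [H24.mem_kerChar]
        have h3 := hw y 1
        rwa [mul_one, hy, Units.val_one, one_mul] at h3
      have hb := commutator_inf_eq_bot hc (not_le_kerChar hφ)
      -- the commutator subgroup is the only subgroup of order `p` of the center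
      set C' := (commutator P).subgroupOf (Subgroup.center P) with hC'
      have hC'c : Nat.card C' = p := by
        rw [Nat.card_congr (Subgroup.subgroupOfEquivOfLe (commutator_le_center hP hc)).toEquiv, hc]
      have hpy : p ∣ orderOf y := by
        obtain ⟨e, he⟩ := (IsPGroup.iff_orderOf.1 (hP.to_subgroup (Subgroup.center P))) y
        rcases e with _ | e
        · exact absurd (orderOf_eq_one_iff.1 (by simpa using he)) hy1
        · rw [he]; exact dvd_pow_self p (Nat.succ_ne_zero e)
      set y' := y ^ (orderOf y / p) with hy'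
      have hy'ord : orderOf y' = p := by
        rw [hy', orderOf_pow_orderOf_div (orderOf_pos y).ne' hpy]
      have heq : Subgroup.zpowers y' = C' := by
        haveI := hZ
        refine H18.cyclic_subgroup_eq_of_card_eq ?_
        rw [Nat.card_zpowers, hy'ord, hC'c]
      have hy'C : (y' : P) ∈ commutator P :=
        Subgroup.mem_subgroupOf.1 (show y' ∈ C' by rw [← heq]; exact Subgroup.mem_zpowers y')
      have hy'k : (y' : P) ∈ H24.kerChar φ := by
        rw [hy', SubmonoidClass.coe_pow]
        exact pow_mem hyk _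
      have : (y' : P) = 1 := Subgroup.mem_bot.1 (hb ▸ Subgroup.mem_inf.2 ⟨hy'C, hy'k⟩)
      have h1 : y' = 1 := Subtype.ext this
      rw [h1, orderOf_one] at hy'ord
      exact (Fact.out : p.Prime).ne_one hy'ord.symm
    have h1 := IsPrimitiveRoot.orderOf (w z : ℂ)
    rwa [orderOf_units, orderOf_injective w hinj, hord] at h1
  have h1 := hfaith χ ω hχ hω
  have h2 := hfaith ψ ω' hψ hω'
  haveI : NeZero N := ⟨hNpos.ne'⟩
  obtain ⟨k, -, hk, hkv⟩ := h1.isPrimitiveRoot_iff.1 h2
  obtain ⟨e, he⟩ := IsPGroup.iff_card.1 hP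
  have hkP : Nat.Coprime k (Nat.card P) := by
    have hpN : p ∣ N := hc ▸ Subgroup.card_dvd_of_le (commutator_le_center hP hc)
    rw [he]
    exact Nat.Coprime.pow_right e (hk.coprime_dvd_right hpN)
  refine ⟨k, hkP, fun g => ?_⟩
  by_cases hg : g ∈ Subgroup.center P
  · have e1 := hω' ⟨g, hg⟩ 1
    have e2 := hω (⟨g, hg⟩ ^ k) 1
    rw [mul_one] at e1 e2
    rw [SubmonoidClass.coe_pow] at e2
    rw [e1, e2, H24.irr_one, H24.irr_one, ← hdeg]
    congr 1
    obtain ⟨i, hi⟩ := Subgroup.mem_zpowers_iff.1 (hz ⟨g, hg⟩)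
    rw [← hi, map_pow, map_zpow, map_zpow, Units.val_pow_eq_pow_val, Units.val_zpow_eq_zpow_val,
      Units.val_zpow_eq_zpow_val, ← hkv, ← zpow_natCast, ← zpow_natCast, zpow_comm]
  · rw [vanish hP hc hψ hg, vanish hP hc hχ]
    intro hgk
    obtain ⟨j, hj⟩ := exists_pow_eq_self_of_coprime (x := g)
      (hkP.coprime_dvd_right (orderOf_dvd_natCard g))
    exact hg (hj ▸ pow_mem hgk j)

end CommP

theorem exists_trivial_nonlinear {U : Subgroup P} [U.Normal] (hU : ¬ commutator P ≤ U) :
    ∃ χ : IrrCharacter P, charDegree (χ : P → ℂ) ≠ 1 ∧ U ≤ H24.kerChar χ := by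
  have hne : commutator (P ⧸ U) ≠ ⊥ := by
    intro hb
    apply hU
    intro g hg
    have : (QuotientGroup.mk' U) g ∈ commutator (P ⧸ U) := by
      have h := Subgroup.mem_map_of_mem (QuotientGroup.mk' U) hg
      rw [_root_.commutator, Subgroup.map_commutator] at h
      exact Subgroup.commutator_mono le_top le_top h
    rw [hb, Subgroup.mem_bot] at this
    exact (QuotientGroup.eq_one_iff g).1 this
  obtain ⟨ψ, hψ⟩ := exists_nonlinear hne
  exact ⟨H24.inflate U ψ, by rwa [H24.charDegree_inflate], H24.le_kerChar_inflate U ψ⟩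

/-- A cyclic center when the commutator subgroup has order `p`. -/
theorem isCyclic_center (hP : IsPGroup p P) (h : OneOrbit P) (hc : Nat.card (commutator P) = p) :
    IsCyclic (Subgroup.center P) := by
  have hle := commutator_le_center hP hc
  have hall : ∀ U : Subgroup P, U ≤ Subgroup.center P → ¬ commutator P ≤ U → U = ⊥ := by
    intro U hUZ hU
    haveI : U.Normal := ⟨fun u hu g => by
      rwa [Subgroup.mem_center_iff.1 (hUZ hu) g, mul_inv_cancel_right]⟩
    obtain ⟨χ, hχ, hUk⟩ := exists_trivial_nonlinear hU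
    refine (Subgroup.eq_bot_iff_forall U).2 fun u hu => ?_
    by_contra hu1
    have huC : u ∉ commutator P := fun hc' =>
      hu1 (Subgroup.mem_bot.1 (commutator_inf_eq_bot hc hU ▸ Subgroup.mem_inf.2 ⟨hc', hu⟩))
    -- a linear character not trivial at `u`
    haveI := Fintype.ofFinite P
    obtain ⟨lam, hl1, hlu⟩ : ∃ lam : IrrCharacter P, charDegree (lam : P → ℂ) = 1 ∧
        (lam : P → ℂ) u ≠ 1 := by
      obtain ⟨f, hf⟩ := CommGroup.exists_apply_ne_one_of_hasEnoughRootsOfUnity
        (Abelianization P) ℂ (a := Abelianization.of u)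
        (fun he => huC ((QuotientGroup.eq_one_iff u).1 he))
      refine ⟨H12.linIrr (f.comp Abelianization.of), ?_, ?_⟩
      · have := H24.irr_one (H12.linIrr (f.comp Abelianization.of))
        rw [H12.linIrr_apply, map_one, Units.val_one] at this
        exact_mod_cast this.symm
      · rw [H12.linIrr_apply]
        exact fun he => hf (Units.val_eq_one.1 he)
    have hprod : IsIrrCharacter P (fun g => (lam : P → ℂ) g * (χ : P → ℂ) g) := by
      apply H12.isIrrCharacter_of_classInner_self_eq_one
        (H12.IsCharacter.mul (H12.isCharacter_irr lam) (H12.isCharacter_irr χ))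
      have hn : ∀ g, (lam : P → ℂ) g * conj ((lam : P → ℂ) g) = 1 := by
        intro g
        obtain ⟨f, hf⟩ := H12.exists_monoidHom_of_apply_one_eq_one (H12.isCharacter_irr lam)
          (by rw [H24.irr_one, hl1, Nat.cast_one])
        have hfn : ‖(f g : ℂ)‖ = 1 := H12.norm_eq_one_of_pow_eq_one (orderOf_pos g).ne'
          (by rw [← Units.val_pow_eq_pow_val, ← map_pow, pow_orderOf_eq_one, map_one, Units.val_one])
        rw [← congrFun hf g, Complex.mul_conj, Complex.normSq_eq_norm_sq, hfn, one_pow, Complex.ofReal_one]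
      rw [← H12.classInner_irr_self χ, H12.classInner_def, H12.classInner_def]
      congr 1
      refine Finset.sum_congr rfl fun g _ => ?_
      rw [Pi.mul_apply, map_mul, mul_mul_mul_comm, hn, one_mul]
    let χ' : IrrCharacter P := ⟨_, hprod⟩
    have hd : charDegree (χ' : P → ℂ) = charDegree (χ : P → ℂ) := by
      have h1 := H24.irr_one χ'
      change (lam : P → ℂ) 1 * (χ : P → ℂ) 1 = _ at h1
      rw [H24.irr_one lam, hl1, H24.irr_one χ, Nat.cast_one, one_mul] at h1
      exact_mod_cast h1.symm
    have hk := h.kerChar_eq hχ hd.symm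
    have hu' := H24.mem_kerChar.1 (hk ▸ hUk hu : u ∈ H24.kerChar χ')
    change (lam : P → ℂ) u * (χ : P → ℂ) u = (lam : P → ℂ) 1 * (χ : P → ℂ) 1 at hu'
    rw [H24.mem_kerChar.1 (hUk hu), H24.irr_one lam, hl1, Nat.cast_one] at hu'
    exact hlu (mul_right_cancel₀ (H12.irr_apply_one_ne_zero χ) hu')
  -- hence every element of order `p` of the center lies in the commutator subgroup
  obtain ⟨c, hcZ, hgen⟩ := Cfsg.Agent.H9.isCyclic_of_omega_small hP (Subgroup.center P)
    inferInstance (fun A hA hE => by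
      have hAle : A ≤ commutator P := by
        intro a ha
        by_contra haC
        have hU : ¬ commutator P ≤ Subgroup.zpowers a := fun hle' => by
          have hop : orderOf a ∣ p := orderOf_dvd_of_pow_eq_one (hE.2 a ha)
          have := Subgroup.eq_of_le_of_card_ge hle'
            (by rw [Nat.card_zpowers, hc]; exact Nat.le_of_dvd (Fact.out : p.Prime).pos hop)
          exact haC (this ▸ Subgroup.mem_zpowers a)
        have hb := hall _ (Subgroup.zpowers_le.2 (hA ha)) hU
        rw [Subgroup.zpowers_eq_bot] at hb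
        exact haC (hb ▸ one_mem _)
      exact (Subgroup.card_le_of_le hAle).trans hc.le)
  rw [hgen]
  infer_instance

end H14.GaloisKernel
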