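import Cfsg.Agent.H14.GaloisKernel

/-!
In a group of prime power order whose nonlinear irreducible characters of equal degree are Galois
conjugate, the commutator subgroup has prime order.
-/

set_option autoImplicit false
set_option linter.unusedSectionVars false
set_option linter.style.haveILetI false

namespace H14.GaloisKernel

open Cfsg
open scoped ComplexConjugate commutatorElement

universe u

variable {P : Type u} [Group P] [Finite P] {p : ℕ} [Fact p.Prime]

theorem commutator_pow_right {x g : P} (h : ⁅x, g⁆ ∈ Subgroup.center P) (n : ℕ) :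
    ⁅x, g ^ n⁆ = ⁅x, g⁆ ^ n := by
  induction n with
  | zero => simp
  | succ n ih =>
    have hc := Subgroup.mem_center_iff.1 h
    calc ⁅x, g ^ (n + 1)⁆ = ⁅x, g ^ n⁆ * (g ^ n * ⁅x, g⁆ * (g ^ n)⁻¹) := by
          simp only [commutatorElement_def]; group
      _ = ⁅x, g⁆ ^ n * ⁅x, g⁆ := by rw [ih, hc, mul_inv_cancel_right]
      _ = ⁅x, g⁆ ^ (n + 1) := (pow_succ _ n).symm

theorem map_commutator_mk (N : Subgroup P) [N.Normal] :
    (commutator P).map (QuotientGroup.mk' N) = commutator (P ⧸ N) := by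
  rw [commutator_def, Subgroup.map_commutator,
    Subgroup.map_top_of_surjective _ (QuotientGroup.mk'_surjective N), commutator_def]

theorem card_map_mk (N : Subgroup P) [N.Normal] {A : Subgroup P} (h : N ≤ A) :
    Nat.card (A.map (QuotientGroup.mk' N)) * Nat.card N = Nat.card A := by
  have h1 : (A.map (QuotientGroup.mk' N)).index = A.index :=
    Subgroup.index_map_eq A (QuotientGroup.mk'_surjective N) (by rwa [QuotientGroup.ker_mk'])
  refine Nat.eq_of_mul_eq_mul_right (Nat.pos_of_ne_zero A.index_ne_zero_of_finite) ?_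
  rw [Subgroup.card_mul_index A, mul_right_comm, ← h1,
    Subgroup.card_mul_index (A.map (QuotientGroup.mk' N)),
    ← Subgroup.card_eq_card_quotient_mul_card_subgroup]

theorem zpowers_normal_of_center {u : P} (hu : u ∈ Subgroup.center P) :
    (Subgroup.zpowers u).Normal :=
  ⟨fun x hx g => by
    rwa [Subgroup.mem_center_iff.1 (Subgroup.zpowers_le.2 hu hx) g, mul_inv_cancel_right]⟩

theorem card_zpowers_prime {u : P} (h1 : u ≠ 1) (h : u ^ p = 1) :
    Nat.card (Subgroup.zpowers u) = p := by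
  rw [Nat.card_zpowers, orderOf_eq_prime h h1]

/-- The degree of the nonlinear characters of a quotient by a central subgroup of order `p`. -/
theorem quot_data (hP : IsPGroup p P) (h : OneOrbit P)
    (IH : ∀ N : Subgroup P, ∀ [N.Normal], N ≠ ⊥ → commutator (P ⧸ N) ≠ ⊥ →
      Nat.card (commutator (P ⧸ N)) = p)
    (u : P) [(Subgroup.zpowers u).Normal] (hu1 : u ≠ 1) (hup : u ^ p = 1)
    (huD : u ∈ commutator P) (hD : Nat.card (commutator P) = p ^ 2) :
    IsCyclic (Subgroup.center (P ⧸ Subgroup.zpowers u)) ∧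
      Nat.card (commutator (P ⧸ Subgroup.zpowers u)) = p ∧
      ∃ χ : IrrCharacter P, charDegree (χ : P → ℂ) ≠ 1 ∧
        Subgroup.zpowers u ≤ H24.kerChar χ ∧
        Nat.card (Subgroup.center (P ⧸ Subgroup.zpowers u)) * charDegree (χ : P → ℂ) ^ 2 * p =
          Nat.card P := by
  set N := Subgroup.zpowers u with hN
  have hNc : Nat.card N = p := card_zpowers_prime hu1 hup
  have hne : commutator (P ⧸ N) ≠ ⊥ := by
    intro hb
    have hle : N ≤ commutator P := Subgroup.zpowers_le.2 huD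
    have hcm := card_map_mk N hle
    rw [map_commutator_mk, hb, Subgroup.card_bot, one_mul, hNc, hD] at hcm
    have := (Fact.out : p.Prime).one_lt
    nlinarith
  have hQ := hP.to_quotient N
  have hQc : Nat.card (commutator (P ⧸ N)) = p :=
    IH N (fun hb => hu1 (Subgroup.mem_bot.1 (hb ▸ Subgroup.mem_zpowers u))) hne
  refine ⟨isCyclic_center hQ (h.quot N) hQc, hQc, ?_⟩
  obtain ⟨ψ, hψ⟩ := exists_nonlinear hne
  refine ⟨H24.inflate N ψ, by rwa [H24.charDegree_inflate], H24.le_kerChar_inflate N ψ, ?_⟩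
  rw [H24.charDegree_inflate, card_center_mul_sq hQ hQc hψ]
  conv_lhs => rw [← hNc]
  exact (Subgroup.card_eq_card_quotient_mul_card_subgroup N).symm

theorem mem_center_quot {N : Subgroup P} [N.Normal] {g : P} (h : ∀ x : P, ⁅x, g⁆ ∈ N) :
    (g : P ⧸ N) ∈ Subgroup.center (P ⧸ N) := by
  refine Subgroup.mem_center_iff.2 fun q => ?_
  obtain ⟨x, rfl⟩ := QuotientGroup.mk_surjective q
  apply commutatorElement_eq_one_iff_mul_comm.1
  have := (QuotientGroup.eq_one_iff (N := N) ⁅x, g⁆).2 (h x)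
  rwa [commutatorElement_def, QuotientGroup.mk_mul, QuotientGroup.mk_mul, QuotientGroup.mk_mul,
    QuotientGroup.mk_inv, QuotientGroup.mk_inv, ← commutatorElement_def] at this

/-- The case of a central commutator subgroup with an element of order `p²`. -/
theorem false_of_cyclic (hP : IsPGroup p P) (h : OneOrbit P)
    (IH : ∀ N : Subgroup P, ∀ [N.Normal], N ≠ ⊥ → commutator (P ⧸ N) ≠ ⊥ →
      Nat.card (commutator (P ⧸ N)) = p)
    (hD : Nat.card (commutator P) = p ^ 2) (hle : commutator P ≤ Subgroup.center P)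
    {x g : P} (hne : ⁅x, g⁆ ^ p ≠ 1) : False := by
  have hcD : ∀ a b : P, ⁅a, b⁆ ∈ commutator P := fun a b =>
    Subgroup.commutator_mem_commutator (Subgroup.mem_top a) (Subgroup.mem_top b)
  set c := ⁅x, g⁆ with hc
  have hcp2 : c ^ p ^ 2 = 1 := by
    have h1 := pow_card_eq_one' (x := (⟨c, hcD x g⟩ : commutator P))
    rw [hD] at h1
    exact congrArg Subtype.val h1
  have hord : orderOf c = p ^ 2 :=
    orderOf_eq_prime_pow (by rwa [pow_one]) hcp2
  have hgen : Subgroup.zpowers c = commutator P :=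
    Subgroup.eq_of_le_of_card_ge (Subgroup.zpowers_le.2 (hcD x g))
      (by rw [Nat.card_zpowers, hord, hD])
  set u := c ^ p with hu
  have hup : u ^ p = 1 := by rw [hu, ← pow_mul, ← pow_two, hcp2]
  haveI := zpowers_normal_of_center (hle (pow_mem (hcD x g) p) : u ∈ Subgroup.center P)
  obtain ⟨hcyc, -, -⟩ := quot_data hP h IH u hne hup (pow_mem (hcD x g) p) hD
  have hpow : ∀ y : P, (y ^ p : P) ∈
      Subgroup.comap (QuotientGroup.mk' (Subgroup.zpowers u))
        (Subgroup.center (P ⧸ Subgroup.zpowers u)) := by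
    intro y
    refine mem_center_quot fun z => ?_
    rw [commutator_pow_right (hle (hcD z y))]
    obtain ⟨i, hi⟩ := Subgroup.mem_zpowers_iff.1 (hgen ▸ hcD z y : ⁅z, y⁆ ∈ Subgroup.zpowers c)
    rw [← hi, ← zpow_natCast, ← zpow_mul, mul_comm, zpow_mul, zpow_natCast]
    exact Subgroup.zpow_mem _ (Subgroup.mem_zpowers u) i
  -- the center of the quotient is a cyclic group of prime power order
  have key : ∀ a b : P, (((b ^ p : P)) : P ⧸ Subgroup.zpowers u) ∈
      Subgroup.zpowers (((a ^ p : P)) : P ⧸ Subgroup.zpowers u) → ⁅a, b⁆ ^ p = 1 := by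
    intro a b hab
    obtain ⟨i, hi⟩ := Subgroup.mem_zpowers_iff.1 hab
    rw [← QuotientGroup.mk_zpow, eq_comm, QuotientGroup.eq] at hi
    rw [← commutator_pow_right (hle (hcD a b)), commutatorElement_eq_one_iff_mul_comm]
    obtain ⟨j, hj⟩ := Subgroup.mem_zpowers_iff.1 hi
    have hb : b ^ p = ((a ^ p) ^ i) * (u ^ j)⁻¹ := by
      rw [hj]; group
    have h1 : Commute a ((a ^ p) ^ i) := ((Commute.refl a).pow_right p).zpow_right i
    have h2 : Commute a (u ^ j)⁻¹ := by
      have hu' : u ∈ Subgroup.center P := hle (pow_mem (hcD x g) p)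
      exact Subgroup.mem_center_iff.1 (inv_mem (zpow_mem hu' j)) a
    rw [hb]
    exact h1.mul_right h2
  set A : Subgroup.center (P ⧸ Subgroup.zpowers u) := ⟨_, hpow x⟩
  set B : Subgroup.center (P ⧸ Subgroup.zpowers u) := ⟨_, hpow g⟩
  have hQ := (hP.to_quotient (Subgroup.zpowers u)).to_subgroup
    (Subgroup.center (P ⧸ Subgroup.zpowers u))
  haveI := hcyc
  -- subgroups of a cyclic group of prime power order are linearly ordered
  have htot : ∀ a b : Subgroup.center (P ⧸ Subgroup.zpowers u), orderOf a ≤ orderOf b →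
      a ∈ Subgroup.zpowers b := by
    intro a b hab
    obtain ⟨i, hi⟩ := IsPGroup.iff_orderOf.1 hQ a
    obtain ⟨j, hj⟩ := IsPGroup.iff_orderOf.1 hQ b
    have hd : orderOf a ∣ orderOf b := by
      rw [hi, hj] at hab ⊢
      exact pow_dvd_pow p ((Nat.pow_le_pow_iff_right (Fact.out : p.Prime).one_lt).1 hab)
    have heq : Subgroup.zpowers a = Subgroup.zpowers (b ^ (orderOf b / orderOf a)) := by
      refine H18.cyclic_subgroup_eq_of_card_eq ?_
      rw [Nat.card_zpowers, Nat.card_zpowers,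
        orderOf_pow_orderOf_div (orderOf_pos b).ne' hd]
    have : a ∈ Subgroup.zpowers (b ^ (orderOf b / orderOf a)) := heq ▸ Subgroup.mem_zpowers a
    exact Subgroup.zpowers_le.2 (pow_mem (Subgroup.mem_zpowers b) _) this
  rcases le_total (orderOf B) (orderOf A) with hAB | hAB
  · obtain ⟨i, hi⟩ := Subgroup.mem_zpowers_iff.1 (htot B A hAB)
    exact hne (key x g (Subgroup.mem_zpowers_iff.2 ⟨i, congrArg Subtype.val hi⟩))
  · obtain ⟨i, hi⟩ := Subgroup.mem_zpowers_iff.1 (htot A B hAB)
    have h1 := key g x (Subgroup.mem_zpowers_iff.2 ⟨i, congrArg Subtype.val hi⟩)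
    rw [← commutatorElement_inv x g, inv_pow, inv_eq_one] at h1
    exact hne h1

/-- The case of a central commutator subgroup of exponent `p`. -/
theorem false_of_elementary (hP : IsPGroup p P) (h : OneOrbit P)
    (IH : ∀ N : Subgroup P, ∀ [N.Normal], N ≠ ⊥ → commutator (P ⧸ N) ≠ ⊥ →
      Nat.card (commutator (P ⧸ N)) = p)
    (hD : Nat.card (commutator P) = p ^ 2) (hle : commutator P ≤ Subgroup.center P)
    (hexp : ∀ x g : P, ⁅x, g⁆ ^ p = 1) : False := by
  classical
  haveI := Fintype.ofFinite P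
  have hp : p.Prime := Fact.out
  have hDexp : ∀ d ∈ commutator P, d ^ p = 1 := by
    intro d hd
    rw [commutator_eq_closure] at hd
    have hmem : d ∈ commutator P := by rw [commutator_eq_closure]; exact hd
    induction hd using Subgroup.closure_induction with
    | mem d hd => obtain ⟨a, b, rfl⟩ := hd; exact hexp a b
    | one => exact one_pow p
    | mul a b ha hb iha ihb =>
      have haD : a ∈ commutator P := by rw [commutator_eq_closure]; exact ha
      have hbD : b ∈ commutator P := by rw [commutator_eq_closure]; exact hb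
      rw [Commute.mul_pow (Subgroup.mem_center_iff.1 (hle hbD) a), iha haD, ihb hbD, one_mul]
    | inv a ha iha =>
      have haD : a ∈ commutator P := by rw [commutator_eq_closure]; exact ha
      rw [inv_pow, iha haD, inv_one]
  have hne : commutator P ≠ ⊥ := fun hb => by
    rw [hb, Subgroup.card_bot] at hD
    exact absurd hD.symm (Nat.one_lt_pow two_ne_zero hp.one_lt).ne'
  obtain ⟨u, huD, hu1⟩ := (Subgroup.ne_bot_iff_exists_ne_one.1 hne).imp
    (p := fun d : commutator P => d ≠ 1) (q := fun d => (d : P) ≠ 1)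
    (fun d hd hd' => hd (Subtype.ext hd')) |> fun ⟨d, hd⟩ =>
      (⟨(d : P), d.2, hd⟩ : ∃ u : P, u ∈ commutator P ∧ u ≠ 1)
  obtain ⟨v, hvD, hvu⟩ : ∃ v ∈ commutator P, v ∉ Subgroup.zpowers u := by
    by_contra hno
    push Not at hno
    have := Subgroup.card_le_of_le (show commutator P ≤ Subgroup.zpowers u from hno)
    rw [hD, card_zpowers_prime hu1 (hDexp u huD)] at this
    nlinarith [hp.one_lt]
  have hv1 : v ≠ 1 := fun h1 => hvu (h1 ▸ one_mem _)
  have hpowZ : ∀ y : P, y ^ p ∈ Subgroup.center P := by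
    intro y
    refine Subgroup.mem_center_iff.2 fun x => commutatorElement_eq_one_iff_mul_comm.1 ?_
    rw [commutator_pow_right (hle (Subgroup.commutator_mem_commutator
      (Subgroup.mem_top x) (Subgroup.mem_top y))), hexp]
  have main : ∀ w : P, w ∈ commutator P → w ≠ 1 → ∃ χ : IrrCharacter P,
      charDegree (χ : P → ℂ) ≠ 1 ∧ w ∈ H24.kerChar χ ∧
      ∃ ε e : ℕ, ε ≤ 1 ∧ charDegree (χ : P → ℂ) = p ^ e ∧
        Nat.card (Subgroup.center P) * p ^ ε * (p ^ e) ^ 2 = Nat.card P := by
    intro w hwD hw1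
    haveI := zpowers_normal_of_center (hle hwD)
    obtain ⟨hcyc, -, χ, hχ, hker, hval⟩ := quot_data hP h IH w hw1 (hDexp w hwD) hwD hD
    refine ⟨χ, hχ, hker (Subgroup.mem_zpowers w), ?_⟩
    set N := Subgroup.zpowers w with hN
    set f := QuotientGroup.mk' N with hf
    set C := (Subgroup.center (P ⧸ N)).comap f with hC
    have hNC : N ≤ C := fun n hn => by
      show f n ∈ Subgroup.center _
      rw [hf, QuotientGroup.mk'_apply, (QuotientGroup.eq_one_iff n).2 hn]
      exact one_mem _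
    have hZC : Subgroup.center P ≤ C := fun z hz => mem_center_quot fun x => by
      rw [commutatorElement_eq_one_iff_mul_comm.2 (Subgroup.mem_center_iff.1 hz x)]
      exact one_mem _
    have hCc : Nat.card (Subgroup.center (P ⧸ N)) * p = Nat.card C := by
      have := card_map_mk N hNC
      rw [hC, hf, Subgroup.map_comap_eq_self_of_surjective (QuotientGroup.mk'_surjective N),
        card_zpowers_prime hw1 (hDexp w hwD)] at this
      exact this
    -- `C` is generated by one element over the center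
    obtain ⟨⟨c, hcc⟩, hgen⟩ := hcyc.exists_generator
    obtain ⟨y, rfl⟩ := QuotientGroup.mk_surjective c
    set π := QuotientGroup.mk' (Subgroup.center P) with hπ
    have hCle : C.map π ≤ Subgroup.zpowers (π y) := by
      rintro _ ⟨a, ha, rfl⟩
      obtain ⟨i, hi⟩ := Subgroup.mem_zpowers_iff.1 (hgen ⟨f a, ha⟩)
      have hi' : ((y ^ i : P) : P ⧸ N) = (a : P ⧸ N) := congrArg Subtype.val hi
      rw [QuotientGroup.eq] at hi'
      refine Subgroup.mem_zpowers_iff.2 ⟨i, ?_⟩
      rw [← map_zpow, hπ, QuotientGroup.mk'_apply, QuotientGroup.mk'_apply, QuotientGroup.eq]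
      exact Subgroup.zpowers_le.2 (hle hwD) hi'
    have hle' : Nat.card (C.map π) ∣ p := by
      refine (Subgroup.card_dvd_of_le hCle).trans ?_
      rw [Nat.card_zpowers]
      refine orderOf_dvd_of_pow_eq_one ?_
      rw [← map_pow, hπ, QuotientGroup.mk'_apply, QuotientGroup.eq_one_iff]
      exact hpowZ y
    have hCz := card_map_mk (Subgroup.center P) hZC
    obtain ⟨ε, hε, hεv⟩ := (Nat.dvd_prime_pow hp).1 ((pow_one p).symm ▸ hle')
    obtain ⟨n, hn⟩ := IsPGroup.iff_card.1 hP
    obtain ⟨e, -, he⟩ := (Nat.dvd_prime_pow hp).1 (hn ▸ H24.charDegree_dvd_card χ)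
    refine ⟨ε, e, hε, he, ?_⟩
    rw [← hval, ← he, ← hεv, mul_right_comm (Nat.card (Subgroup.center (P ⧸ N))), hCc,
      mul_comm (Nat.card (Subgroup.center P))]
    exact congrArg (· * _) hCz
  obtain ⟨χ, hχ, huk, ε, e, hε, he, hval⟩ := main u huD hu1
  obtain ⟨ψ, hψ, hvk, ε', e', hε', he', hval'⟩ := main v hvD hv1
  have hdeg : charDegree (χ : P → ℂ) = charDegree (ψ : P → ℂ) := by
    have h1 := hval.trans hval'.symm
    rw [mul_assoc, mul_assoc, Nat.mul_left_cancel_iff Nat.card_pos, ← pow_mul, ← pow_mul,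
      ← pow_add, ← pow_add] at h1
    have h2 := Nat.pow_right_injective hp.two_le h1
    rw [he, he', show e = e' by omega]
  have hk := h.kerChar_eq hχ hdeg
  have huv : Subgroup.zpowers u ⊔ Subgroup.zpowers v = commutator P := by
    refine Subgroup.eq_of_le_of_card_ge
      (sup_le (Subgroup.zpowers_le.2 huD) (Subgroup.zpowers_le.2 hvD)) ?_
    have hlt : Subgroup.zpowers u < Subgroup.zpowers u ⊔ Subgroup.zpowers v :=
      lt_of_le_of_ne le_sup_left fun he'' => hvu (he'' ▸ Subgroup.mem_sup_right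
        (Subgroup.mem_zpowers v))
    have := H30.card_mul_le_of_lt hP hlt
    rw [card_zpowers_prime hu1 (hDexp u huD)] at this
    rw [hD, pow_two]
    exact this
  exact not_le_kerChar hψ (huv ▸ sup_le (Subgroup.zpowers_le.2 (hk ▸ huk))
    (Subgroup.zpowers_le.2 hvk))

open scoped Classical in
/-- Galois orbits on characters of a group of exponent dividing `n`. -/
theorem card_orbit_le [Fintype (IrrCharacter P)] (h : OneOrbit P) (n : ℕ) (hn : ∀ g : P, g ^ n = 1)
    (hn0 : 0 < n) (hcop : ∀ k, Nat.Coprime k (Nat.card P) → Nat.Coprime k n)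
    {d : ℕ} (hd : d ≠ 1) :
    (Finset.filter (fun ψ : IrrCharacter P => charDegree (ψ : P → ℂ) = d) Finset.univ).card ≤
      Nat.totient n := by
  rcases (Finset.filter (fun ψ : IrrCharacter P => charDegree (ψ : P → ℂ) = d)
    Finset.univ).eq_empty_or_nonempty with he | ⟨χ, hχ⟩
  · rw [he, Finset.card_empty]
    exact Nat.zero_le _
  have hχd := (Finset.mem_filter.1 hχ).2
  have hex : ∀ ψ : IrrCharacter P, charDegree (ψ : P → ℂ) = d → ∃ k : ℕ,
      Nat.Coprime k (Nat.card P) ∧ ∀ g : P, (ψ : P → ℂ) g = (χ : P → ℂ) (g ^ k) := fun ψ hψ =>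
    h χ ψ (hχd ▸ hd) (hχd.trans hψ.symm)
  let f : IrrCharacter P → ℕ := fun ψ =>
    if hψ : charDegree (ψ : P → ℂ) = d then (hex ψ hψ).choose % n else 0
  rw [Nat.totient_eq_card_coprime]
  refine Finset.card_le_card_of_injOn f ?_ ?_
  · intro ψ hψ
    have hψd := (Finset.mem_filter.1 hψ).2
    simp only [f, dif_pos hψd, Finset.coe_filter, Finset.mem_range, Set.mem_ofPred_eq]
    refine ⟨Nat.mod_lt _ hn0, ?_⟩
    have := hcop _ (hex ψ hψd).choose_spec.1
    rw [Nat.coprime_comm, Nat.Coprime, ← Nat.gcd_rec, Nat.gcd_comm] at *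
    exact this
  · intro a ha b hb hab
    have had := (Finset.mem_filter.1 ha).2
    have hbd := (Finset.mem_filter.1 hb).2
    simp only [f, dif_pos had, dif_pos hbd] at hab
    refine Subtype.ext (funext fun g => ?_)
    rw [(hex a had).choose_spec.2 g, (hex b hbd).choose_spec.2 g,
      pow_eq_pow_mod _ (hn g), hab, ← pow_eq_pow_mod _ (hn g)]

theorem arith_orbit {p m S : ℕ} (hp : 2 ≤ p) (hS : S * (p ^ 2 - 1) + 1 = p ^ (2 * m)) :
    (p - 1) * p ^ 2 * S < (p - 1) * p ^ (2 * m + 1) := by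
  rw [mul_assoc]
  refine Nat.mul_lt_mul_of_pos_left ?_ (by omega)
  have h4 : 4 ≤ p ^ 2 := by nlinarith
  obtain ⟨a, ha⟩ : ∃ a, p ^ 2 = a + 1 := ⟨p ^ 2 - 1, by omega⟩
  rw [ha, Nat.add_sub_cancel] at hS
  have h1 : p * p ≤ p * a := by
    rw [pow_two] at ha
    nlinarith
  rw [pow_succ p (2 * m), ← hS]
  nlinarith [Nat.mul_le_mul_left S h1]

/-- The case of a commutator subgroup which is not central. -/
theorem false_of_noncentral (hP : IsPGroup p P) (h : OneOrbit P)
    (IH : ∀ N : Subgroup P, ∀ [N.Normal], N ≠ ⊥ → commutator (P ⧸ N) ≠ ⊥ →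
      Nat.card (commutator (P ⧸ N)) = p)
    (hD : Nat.card (commutator P) = p ^ 2) (hnle : ¬ commutator P ≤ Subgroup.center P) :
    False := by
  classical
  haveI := Fintype.ofFinite P
  have hp : p.Prime := Fact.out
  have hne : commutator P ≠ ⊥ := fun hb => hnle (hb ▸ bot_le)
  have hI := H30.inf_center_ne_bot hP (inferInstance : (commutator P).Normal) hne
  have hlt : commutator P ⊓ Subgroup.center P < commutator P :=
    lt_of_le_of_ne inf_le_left fun he => hnle (he ▸ inf_le_right)
  have hIc : Nat.card ↥(commutator P ⊓ Subgroup.center P) ≤ p := by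
    have := H30.card_mul_le_of_lt hP hlt
    rw [hD, pow_two] at this
    exact Nat.le_of_mul_le_mul_left this hp.pos
  obtain ⟨⟨u, hu⟩, hu1'⟩ := Subgroup.ne_bot_iff_exists_ne_one.1 hI
  have hu1 : u ≠ 1 := fun h1 => hu1' (Subtype.ext h1)
  have hIc' : Nat.card ↥(commutator P ⊓ Subgroup.center P) = p := by
    have := H30.card_mul_le_of_lt hP (bot_lt_iff_ne_bot.2 hI)
    rw [Subgroup.card_bot, mul_one] at this
    exact le_antisymm hIc this
  have hup : u ^ p = 1 := by
    have h1 := pow_card_eq_one' (x := (⟨u, hu⟩ : ↥(commutator P ⊓ Subgroup.center P)))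
    rw [hIc'] at h1
    exact congrArg Subtype.val h1
  have hNeq : Subgroup.zpowers u = commutator P ⊓ Subgroup.center P :=
    Subgroup.eq_of_le_of_card_ge (Subgroup.zpowers_le.2 hu)
      (by rw [card_zpowers_prime hu1 hup, hIc'])
  haveI := zpowers_normal_of_center hu.2
  obtain ⟨hcyc, hQc, χ, hχ, hker, hval⟩ := quot_data hP h IH u hu1 hup hu.1 hD
  set N := Subgroup.zpowers u with hN
  have hQ := hP.to_quotient N
  have hQle := commutator_le_center hQ hQc
  have hQexp : ∀ a b : P ⧸ N, ⁅a, b⁆ ^ p = 1 := by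
    intro a b
    have h1 := pow_card_eq_one' (x := (⟨⁅a, b⁆, Subgroup.commutator_mem_commutator
      (Subgroup.mem_top a) (Subgroup.mem_top b)⟩ : commutator (P ⧸ N)))
    rw [hQc] at h1
    exact congrArg Subtype.val h1
  -- the center of the quotient has order `p`
  have hCc : Nat.card (Subgroup.center (P ⧸ N)) = p := by
    obtain ⟨z, hz⟩ := hcyc.exists_generator
    obtain ⟨⟨d, hd⟩, hd1'⟩ := Subgroup.ne_bot_iff_exists_ne_one.1
      (show commutator (P ⧸ N) ≠ ⊥ from fun hb => by
        rw [hb, Subgroup.card_bot] at hQc; exact hp.ne_one hQc.symm)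
    have hd1 : d ≠ 1 := fun h1 => hd1' (Subtype.ext h1)
    obtain ⟨i, hi⟩ := Subgroup.mem_zpowers_iff.1 (hz ⟨d, hQle hd⟩)
    have hdp : d ^ p = 1 := by
      have h1 := pow_card_eq_one' (x := (⟨d, hd⟩ : commutator (P ⧸ N)))
      rw [hQc] at h1
      exact congrArg Subtype.val h1
    by_cases hpi : (p : ℤ) ∣ i
    · exfalso
      obtain ⟨j, rfl⟩ := hpi
      obtain ⟨y, hy⟩ := QuotientGroup.mk_surjective ((z : P ⧸ N) ^ j)
      rw [← map_commutator_mk] at hd
      obtain ⟨w, hw, hwd⟩ := hd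
      have hyC : (y : P ⧸ N) ∈ Subgroup.center (P ⧸ N) := hy ▸ zpow_mem z.2 j
      have hyp : y ^ p ∈ Subgroup.center P := by
        refine Subgroup.mem_center_iff.2 fun x => commutatorElement_eq_one_iff_mul_comm.1 ?_
        have hxy : ⁅x, y⁆ ∈ N := by
          refine (QuotientGroup.eq_one_iff _).1 ?_
          show QuotientGroup.mk' N ⁅x, y⁆ = 1
          rw [map_commutatorElement]
          exact commutatorElement_eq_one_iff_mul_comm.2 (Subgroup.mem_center_iff.1 hyC _)
        have hxy' : ⁅x, y⁆ ∈ Subgroup.center P := (hNeq ▸ hxy :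
          ⁅x, y⁆ ∈ commutator P ⊓ Subgroup.center P).2
        rw [commutator_pow_right hxy']
        obtain ⟨k, hk⟩ := Subgroup.mem_zpowers_iff.1 hxy
        rw [← hk, ← zpow_natCast, ← zpow_mul, mul_comm, zpow_mul, zpow_natCast, hup, one_zpow]
      have hwy : w⁻¹ * y ^ p ∈ N := by
        refine QuotientGroup.eq.1 ?_
        rw [QuotientGroup.mk_pow, hy, ← zpow_natCast, ← zpow_mul, mul_comm]
        refine hwd.trans ?_
        exact (congrArg Subtype.val hi).symm
      have hwZ : w ∈ Subgroup.center P := by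
        have h1 : w = y ^ p * (w⁻¹ * y ^ p)⁻¹ := by group
        rw [h1]
        exact mul_mem hyp (inv_mem (hNeq ▸ hwy :
          w⁻¹ * y ^ p ∈ commutator P ⊓ Subgroup.center P).2)
      have : w ∈ N := by rw [hNeq]; exact ⟨hw, hwZ⟩
      exact hd1 (hwd ▸ (QuotientGroup.eq_one_iff w).2 this)
    · have hord : orderOf d = p := orderOf_eq_prime hdp hd1
      obtain ⟨t, ht⟩ := IsPGroup.iff_orderOf.1 (hQ.to_subgroup _) z
      have hcop : (Nat.Coprime i.natAbs (orderOf z)) := by
        rw [ht]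
        exact Nat.Coprime.pow_right t (((Nat.Prime.coprime_iff_not_dvd hp).2
          fun hdiv => hpi (Int.natCast_dvd.2 hdiv)).symm)
      rw [← orderOf_eq_card_of_forall_mem_zpowers hz]
      have h2 : orderOf (z ^ i) = orderOf z := by
        rcases Int.natAbs_eq i with hi' | hi' <;> rw [hi']
        · rw [zpow_natCast, hcop.symm.orderOf_pow]
        · rw [zpow_neg, orderOf_inv, zpow_natCast, hcop.symm.orderOf_pow]
      rw [← h2, hi, ← hord]
      exact (Subgroup.orderOf_coe _).symm
  rw [hCc] at hval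
  obtain ⟨n, hn⟩ := IsPGroup.iff_card.1 hP
  obtain ⟨m, -, hm⟩ := (Nat.dvd_prime_pow hp).1 (hn ▸ H24.charDegree_dvd_card χ)
  have hcardP : Nat.card P = p ^ (2 * m + 2) := by
    rw [← hval, hm, ← pow_mul, pow_add, mul_comm m 2]; ring
  -- the exponent
  have hexp : ∀ g : P, g ^ p ^ 3 = 1 := by
    intro g
    have hgC : ((g ^ p : P) : P ⧸ N) ∈ Subgroup.center (P ⧸ N) := by
      refine Subgroup.mem_center_iff.2 fun q => commutatorElement_eq_one_iff_mul_comm.1 ?_
      rw [QuotientGroup.mk_pow, commutator_pow_right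
        (hQle (Subgroup.commutator_mem_commutator (Subgroup.mem_top q) (Subgroup.mem_top _))),
        hQexp]
    have h1 := pow_card_eq_one' (x := (⟨_, hgC⟩ : Subgroup.center (P ⧸ N)))
    rw [hCc] at h1
    have h2 : ((g ^ p : P) : P ⧸ N) ^ p = 1 := congrArg Subtype.val h1
    rw [← QuotientGroup.mk_pow, QuotientGroup.eq_one_iff] at h2
    obtain ⟨i, hi⟩ := Subgroup.mem_zpowers_iff.1 h2
    rw [show p ^ 3 = p * p * p by ring, pow_mul, pow_mul, ← hi, ← zpow_natCast, ← zpow_mul,
      mul_comm, zpow_mul, zpow_natCast, hup, one_zpow]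
  set S := (Finset.univ : Finset (IrrCharacter P)).filter fun ψ => ¬ N ≤ H24.kerChar ψ with hS
  have hSnl : ∀ ψ ∈ S, charDegree (ψ : P → ℂ) ≠ 1 := fun ψ hψ h1 =>
    (Finset.mem_filter.1 hψ).2 ((Subgroup.zpowers_le.2 hu.1).trans ((charDegree_eq_one_iff ψ).1 h1))
  -- the degrees
  have hSdeg : ∀ ψ ∈ S, ∃ e, e < m ∧ charDegree (ψ : P → ℂ) = p ^ e := by
    intro ψ hψ
    obtain ⟨e, -, he⟩ := (Nat.dvd_prime_pow hp).1 (hn ▸ H24.charDegree_dvd_card ψ)
    refine ⟨e, ?_, he⟩
    have hem : e ≤ m := by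
      have h1 := (card_center_mul_sq_le ψ).1
      rw [he, hcardP, ← pow_mul] at h1
      have h2 : p ^ 1 * p ^ (e * 2) ≤ p ^ (2 * m + 2) := by
        refine le_trans (Nat.mul_le_mul_right _ ?_) h1
        rw [pow_one, ← hIc']
        exact Subgroup.card_le_of_le inf_le_right
      rw [← pow_add] at h2
      have := (Nat.pow_le_pow_iff_right hp.one_lt).1 h2
      omega
    rcases lt_or_eq_of_le hem with hlt | rfl
    · exact hlt
    · exact absurd ((h.kerChar_eq hχ (hm.trans he.symm)) ▸ hker) (Finset.mem_filter.1 hψ).2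
  -- the sum of the squares of the degrees
  have hsum : ∑ ψ ∈ S, charDegree (ψ : P → ℂ) ^ 2 + Nat.card (P ⧸ N) = Nat.card P := by
    haveI := Fintype.ofFinite (P ⧸ N)
    have hsp := Finset.sum_filter_add_sum_filter_not (Finset.univ : Finset (IrrCharacter P))
      (fun ψ => N ≤ H24.kerChar ψ) (fun ψ => charDegree (ψ : P → ℂ) ^ 2)
    have e1 : Nat.card (P ⧸ N) = ∑ ψ ∈ (Finset.univ : Finset (IrrCharacter P)).filter
        (fun ψ => N ≤ H24.kerChar ψ), charDegree (ψ : P → ℂ) ^ 2 := by
      refine (sum_charDegree_sq (P := P ⧸ N)).symm.trans ?_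
      refine Finset.sum_bij (fun ψ _ => H24.inflate N ψ) (fun ψ _ => Finset.mem_filter.2
        ⟨Finset.mem_univ _, H24.le_kerChar_inflate N ψ⟩)
        (fun a _ b _ hab => H24.inflate_injective N hab)
        (fun b hb => ?_) (fun ψ _ => by rw [H24.charDegree_inflate])
      obtain ⟨a, ha⟩ := H24.exists_deflate N b (Finset.mem_filter.1 hb).2
      exact ⟨a, Finset.mem_univ _, ha⟩
    have e2 : ∑ ψ ∈ (Finset.univ : Finset (IrrCharacter P)), charDegree (ψ : P → ℂ) ^ 2 =
        Nat.card P := by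
      convert sum_charDegree_sq (P := P) using 2
    rw [hS]
    omega
  have hQcard : Nat.card (P ⧸ N) = p ^ (2 * m + 1) := by
    have h1 := Subgroup.card_eq_card_quotient_mul_card_subgroup N
    rw [hcardP, card_zpowers_prime hu1 hup, show p ^ (2 * m + 2) = p ^ (2 * m + 1) * p by ring] at h1
    exact (Nat.eq_of_mul_eq_mul_right hp.pos h1).symm
  have hsub : S ⊆ (Finset.range m).biUnion fun e =>
      Finset.filter (fun ψ : IrrCharacter P =>
        charDegree (ψ : P → ℂ) = p ^ e ∧ charDegree (ψ : P → ℂ) ≠ 1) Finset.univ := by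
    intro ψ hψ
    obtain ⟨e, he, hed⟩ := hSdeg ψ hψ
    exact Finset.mem_biUnion.2 ⟨e, Finset.mem_range.2 he,
      Finset.mem_filter.2 ⟨Finset.mem_univ _, hed, hSnl ψ hψ⟩⟩
  have hbound : ∑ ψ ∈ S, charDegree (ψ : P → ℂ) ^ 2 ≤
      (p - 1) * p ^ 2 * ∑ e ∈ Finset.range m, (p ^ 2) ^ e := by
    refine (Finset.sum_le_sum_of_subset hsub).trans ?_
    rw [Finset.sum_biUnion]
    · rw [Finset.mul_sum]
      refine Finset.sum_le_sum fun e _ => ?_
      rw [Finset.sum_congr rfl (g := fun _ => (p ^ 2) ^ e) fun ψ hψ => by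
        rw [(Finset.mem_filter.1 hψ).2.1, ← pow_mul, ← pow_mul, mul_comm],
        Finset.sum_const, smul_eq_mul]
      refine Nat.mul_le_mul_right _ ?_
      by_cases he1 : p ^ e = 1
      · simp [he1]
      refine (Finset.card_le_card fun ψ hψ => Finset.mem_filter.2
        ⟨Finset.mem_univ _, (Finset.mem_filter.1 hψ).2.1⟩).trans
        ((card_orbit_le h (p ^ 3) hexp (pow_pos hp.pos 3) (fun k hk => ?_) he1).trans ?_)
      · rw [hcardP, Nat.coprime_pow_right_iff (by omega)] at hk
        exact hk.pow_right 3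
      · rw [Nat.totient_prime_pow hp (by norm_num), mul_comm]
    · intro a _ b _ hab
      refine Finset.disjoint_filter.2 fun ψ _ ha hb => hab ?_
      exact Nat.pow_right_injective hp.two_le (ha.1.symm.trans hb.1)
  have hgeo : (∑ e ∈ Finset.range m, (p ^ 2) ^ e) * (p ^ 2 - 1) + 1 = p ^ (2 * m) := by
    rw [pow_mul]
    exact geom_sum_mul_add (p ^ 2 - 1) m |> fun h' => by
      rwa [Nat.sub_add_cancel (Nat.one_le_pow _ _ hp.pos)] at h'
  have h3 := arith_orbit hp.two_le hgeo
  rw [hQcard, hcardP] at hsum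
  have h4 : p ^ (2 * m + 2) = p ^ (2 * m + 1) * p := by ring
  have h5 : (p - 1) * p ^ (2 * m + 1) + p ^ (2 * m + 1) = p ^ (2 * m + 1) * p := by
    rw [← add_one_mul, Nat.sub_add_cancel hp.one_le, mul_comm]
  have h6 := hbound.trans_lt h3
  rw [h4] at hsum
  linarith

/-- The commutator subgroup has order `p`. -/
theorem card_commutator (n : ℕ) : ∀ (Q : Type u) [Group Q] [Finite Q], Nat.card Q = n →
    IsPGroup p Q → OneOrbit Q → commutator Q ≠ ⊥ → Nat.card (commutator Q) = p := by
  induction n using Nat.strong_induction_on with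
  | _ n ih =>
    intro Q _ _ hn hQ h hne
    have IH : ∀ N : Subgroup Q, ∀ [N.Normal], N ≠ ⊥ → commutator (Q ⧸ N) ≠ ⊥ →
        Nat.card (commutator (Q ⧸ N)) = p := by
      intro N _ hN hc
      refine ih (Nat.card (Q ⧸ N)) ?_ (Q ⧸ N) rfl (hQ.to_quotient N) (h.quot N) hc
      rw [← hn, Subgroup.card_eq_card_quotient_mul_card_subgroup N]
      refine lt_mul_of_one_lt_right Nat.card_pos ?_
      by_contra hlt
      exact hN (Subgroup.card_eq_one.1 (le_antisymm (not_lt.1 hlt) Nat.card_pos))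
    have hp : p.Prime := Fact.out
    obtain ⟨j, hj⟩ := IsPGroup.iff_card.1 (hQ.to_subgroup (commutator Q))
    rcases j with _ | _ | j
    · exact absurd (Subgroup.card_eq_one.1 (by simpa using hj)) hne
    · simpa using hj
    exfalso
    have hI := H30.inf_center_ne_bot hQ (inferInstance : (commutator Q).Normal) hne
    obtain ⟨u, hu⟩ := Cauchy_elem hQ hI
    haveI := zpowers_normal_of_center hu.2.2.2
    set N := Subgroup.zpowers u
    have hcm := card_map_mk N (Subgroup.zpowers_le.2 hu.2.2.1)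
    rw [map_commutator_mk, card_zpowers_prime hu.1 hu.2.1, hj] at hcm
    have hc : commutator (Q ⧸ N) ≠ ⊥ := by
      intro hb
      rw [hb, Subgroup.card_bot, one_mul] at hcm
      have := Nat.pow_right_injective hp.two_le ((pow_one p).trans hcm)
      omega
    rw [IH N (fun hb => hu.1 (Subgroup.mem_bot.1 (hb ▸ Subgroup.mem_zpowers u))) hc,
      ← pow_two] at hcm
    have hD : Nat.card (commutator Q) = p ^ 2 := hj.trans hcm.symm
    by_cases hle : commutator Q ≤ Subgroup.center Q
    · by_cases hexp : ∀ x g : Q, ⁅x, g⁆ ^ p = 1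
      · exact false_of_elementary hQ h IH hD hle hexp
      · push Not at hexp
        obtain ⟨x, g, hxg⟩ := hexp
        exact false_of_cyclic hQ h IH hD hle hxg
    · exact false_of_noncentral hQ h IH hD hle
where
  Cauchy_elem {Q : Type u} [Group Q] [Finite Q] (hQ : IsPGroup p Q)
      (hI : commutator Q ⊓ Subgroup.center Q ≠ ⊥) :
      ∃ u : Q, u ≠ 1 ∧ u ^ p = 1 ∧ u ∈ commutator Q ∧ u ∈ Subgroup.center Q := by
    obtain ⟨⟨g, hg⟩, hg1⟩ := Subgroup.ne_bot_iff_exists_ne_one.1 hI
    have hd : p ∣ Nat.card ↥(commutator Q ⊓ Subgroup.center Q) := by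
      rcases (hQ.to_subgroup (commutator Q ⊓ Subgroup.center Q)).card_eq_or_dvd with h1 | h1
      · exact absurd (Subgroup.card_eq_one.1 h1) hI
      · exact h1
    obtain ⟨⟨u, hu⟩, hord⟩ := exists_prime_orderOf_dvd_card' p hd
    rw [Subgroup.orderOf_mk] at hord
    refine ⟨u, fun h1 => ?_, hord ▸ pow_orderOf_eq_one u, hu.1, hu.2⟩
    rw [h1, orderOf_one] at hord
    exact (Fact.out : p.Prime).ne_one hord.symm

end H14.GaloisKernel
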