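import Cfsg.Agent.H85.D1.BlockMain
import Cfsg.Agent.H20.Knorr
import Cfsg.Agent.H24.Quot
import Cfsg.Agent.H17.CharTools

/-!
The characters of degree prime to `p` when a Sylow `p`-subgroup has order `p`.
-/

set_option autoImplicit false
set_option linter.style.haveILetI false
set_option linter.unusedSectionVars false

open Cfsg
open scoped ComplexConjugate

namespace H14.McKayPrime

universe u

variable {G : Type u} [Group G] [Fintype G] {p : ℕ} [hp : Fact p.Prime]

section Counting

variable {P : Sylow p G} {u a : G} {H : Subgroup G} [Fintype H]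

/-- The weight of a character of the `p'`-part of the centralizer. -/
def weight (p c n s : ℕ) : ℚ := ((s / c + (p - 1) / (s / c) : ℕ) : ℚ) * s / n

theorem vanish_of_dvd {M : Ideal AlgInt} [M.IsPrime] (hM : IsPModular p M)
    (hfac : (Nat.card G).factorization p = 1) (χ : IrrCharacter G)
    (hdeg : p ∣ charDegree (χ : G → ℂ)) {y : G} (hy : p ∣ orderOf y) : (χ : G → ℂ) y = 0 := by
  refine H20.vanish_of_singleton_block hM ((H20.blockOf_eq_singleton_iff hM χ).1 fun hd => ?_) hy
  have h1 : p ^ 2 ∣ Nat.card G := by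
    rw [pow_two]
    exact (mul_dvd_mul hdeg dvd_rfl).trans
      (Nat.mul_dvd_of_dvd_div (H24.charDegree_dvd_card χ) hd)
  rw [hp.out.pow_dvd_iff_le_factorization Nat.card_pos.ne', hfac] at h1
  omega

variable (D : H85.D1.Setting P u a H)
include D

theorem not_dvd_of_mem_supp {M : Ideal AlgInt} [M.IsPrime] (hM : IsPModular p M)
    {φ : IrrCharacter H} {χ : IrrCharacter G} (hχ : χ ∈ D.supp φ) :
    ¬ p ∣ charDegree (χ : G → ℂ) := by
  intro hdeg
  obtain ⟨x, hx, hne⟩ := hχ
  apply hne
  rw [H85.D1.Setting.col, Finset.sum_eq_zero fun h _ => ?_, mul_zero]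
  rw [vanish_of_dvd hM D.factorization_card χ hdeg
    (D.dvd_orderOf_mul x.2 (fun h1 => hx (Subtype.ext h1)) h.2), zero_mul]

theorem exists_supp_of_not_dvd {M : Ideal AlgInt} [M.IsPrime] (hM : IsPModular p M)
    {χ : IrrCharacter G} (hdeg : ¬ p ∣ charDegree (χ : G → ℂ)) : ∃ φ, χ ∈ D.supp φ := by
  refine D.exists_mem_supp hM ?_
  have h0 : sInf ((fun ψ : IrrCharacter G => (charDegree (ψ : G → ℂ)).factorization p) ''
      blockOf M (χ : G → ℂ)) ≤ 0 :=
    Nat.sInf_le ⟨χ, H20.mem_blockOf_self χ, Nat.factorization_eq_zero_of_not_dvd hdeg⟩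
  rw [blockDefect, D.factorization_card]
  omega

open scoped Classical in
/-- The count of characters of degree prime to `p`. -/
theorem card_eq : (Nat.card {χ : IrrCharacter G // ¬ p ∣ charDegree (χ : G → ℂ)} : ℚ) =
    ∑ φ : IrrCharacter H, weight p (Nat.card (Subgroup.centralizer ((P : Subgroup G) : Set G)))
      (Nat.card (Subgroup.normalizer ((P : Subgroup G) : Set G))) (Nat.card (D.stab φ)) := by
  obtain ⟨M, hM⟩ := H20.exists_isPModular hp.out
  haveI : M.IsPrime := H20.isPrime_of_modular hM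
  haveI : Fintype (P : Subgroup G) := Fintype.ofFinite _
  have horb : ∀ φ θ : IrrCharacter H, θ ∈ D.orbit φ → D.orbit θ = D.orbit φ := by
    rintro φ θ ⟨n, hn, rfl⟩
    ext ψ
    constructor
    · rintro ⟨m, hm, rfl⟩
      exact (D.orbit_congr φ hm _).2 ((D.orbit_congr φ hn φ).2 (D.mem_orbit_self φ))
    · rintro ⟨m, hm, rfl⟩
      rw [D.orbit_congr _ hm]
      exact (D.orbit_congr _ hn φ).1 (D.mem_orbit_self _)
  have hfib : ∀ χ : IrrCharacter G, ¬ p ∣ charDegree (χ : G → ℂ) →
      ∑ φ : IrrCharacter H, (if χ ∈ D.supp φ then (Nat.card (D.orbit φ) : ℚ)⁻¹ else 0) = 1 := by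
    intro χ hχ
    obtain ⟨θ, hθ⟩ := exists_supp_of_not_dvd D hM hχ
    have hiff : ∀ φ, χ ∈ D.supp φ ↔ φ ∈ D.orbit θ := fun φ => by
      refine ⟨fun h => D.orbit_of_mem_supp hM h hθ, ?_⟩
      rintro ⟨n, hn, rfl⟩
      rwa [D.supp_congr θ hn]
    rw [← Finset.sum_filter, Finset.sum_congr rfl (g := fun _ => (Nat.card (D.orbit θ) : ℚ)⁻¹)
      fun φ hφ => by rw [horb θ φ ((hiff φ).1 (Finset.mem_filter.1 hφ).2)],
      Finset.sum_const, nsmul_eq_mul]
    have hc : ((Finset.univ : Finset (IrrCharacter H)).filter fun φ => χ ∈ D.supp φ).card =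
        Nat.card (D.orbit θ) := by
      rw [Nat.card_eq_card_toFinset]
      congr 1
      ext φ
      simp [hiff φ]
    rw [hc, mul_inv_cancel₀]
    have hne : Nonempty (D.orbit θ) := ⟨⟨θ, D.mem_orbit_self θ⟩⟩
    exact Nat.cast_ne_zero.2 Nat.card_pos.ne'
  set T := (Finset.univ : Finset (IrrCharacter G)).filter
    fun χ : IrrCharacter G => ¬ p ∣ charDegree (χ : G → ℂ) with hT
  have hcardT : Nat.card {χ : IrrCharacter G // ¬ p ∣ charDegree (χ : G → ℂ)} = T.card := by
    rw [hT, ← Fintype.card_subtype, Nat.card_eq_fintype_card]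
  rw [hcardT, Finset.cast_card, ← Finset.sum_congr rfl fun χ hχ => hfib χ (Finset.mem_filter.1 hχ).2,
    Finset.sum_comm]
  refine Finset.sum_congr rfl fun φ _ => ?_
  haveI : Fintype (D.aut φ) := Fintype.ofFinite _
  obtain ⟨S⟩ := D.exists_shape hM φ
  have hsub : (T.filter fun χ => χ ∈ D.supp φ).card = Nat.card (D.supp φ) := by
    rw [Nat.card_eq_card_toFinset]
    congr 1
    ext χ
    simp only [hT, Finset.mem_filter, Finset.mem_univ, true_and, Set.mem_toFinset]
    exact ⟨fun h => h.2, fun h => ⟨not_dvd_of_mem_supp D hM h, h⟩⟩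
  rw [← Finset.sum_filter, Finset.sum_const, hsub, nsmul_eq_mul, ← D.union_eq_supp S,
    Nat.card_coe_set_eq, Set.ncard_union_eq S.disj, ← Nat.card_coe_set_eq, ← Nat.card_coe_set_eq,
    S.card_X, weight]
  have he0 : 0 < Nat.card (D.aut φ) := Nat.card_pos
  have hY : Nat.card S.Y = (p - 1) / Nat.card (D.aut φ) := by
    have hte := S.card_Y
    rw [show p - 1 = Nat.card S.Y * Nat.card (D.aut φ) by omega, Nat.mul_div_cancel _ he0]
  have he : Nat.card (D.stab φ) / Nat.card (Subgroup.centralizer ((P : Subgroup G) : Set G)) =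
      Nat.card (D.aut φ) := by
    rw [D.card_stab φ, Nat.mul_div_cancel_left _ Nat.card_pos]
  rw [hY, he, ← D.card_orbit φ]
  push_cast
  have hs : (Nat.card (D.stab φ) : ℚ) ≠ 0 := Nat.cast_ne_zero.2 Nat.card_pos.ne'
  field_simp

end Counting

/-- All irreducible characters of a group with a normal Sylow subgroup of order `p` have degree
prime to `p`. -/
theorem not_dvd_of_normal (P : Sylow p G) (hP : Nat.card P = p) (hn : (P : Subgroup G).Normal)
    (χ : IrrCharacter G) : ¬ p ∣ charDegree (χ : G → ℂ) := by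
  classical
  intro hdeg
  obtain ⟨M, hM⟩ := H20.exists_isPModular hp.out
  haveI : M.IsPrime := H20.isPrime_of_modular hM
  haveI := hn
  haveI : Fintype (P : Subgroup G) := Fintype.ofFinite _
  have hfac : (Nat.card G).factorization p = 1 := by
    have h := P.card_eq_multiplicity
    rw [hP] at h
    exact (Nat.pow_right_injective hp.out.two_le ((pow_one p).trans h)).symm
  have hvan : ∀ x : (P : Subgroup G), x ≠ 1 → (χ : G → ℂ) x = 0 := fun x hx => by
    refine vanish_of_dvd hM hfac χ hdeg ?_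
    rw [Subgroup.orderOf_coe, orderOf_eq_prime (p := p) (by
      have h2 := pow_card_eq_one' (x := x)
      rwa [hP] at h2) hx]
  have h1 : (χ : G → ℂ) 1 ≠ 0 := H12.irr_apply_one_ne_zero χ
  by_cases hker : (P : Subgroup G) ≤ H24.kerChar χ
  · haveI : Nontrivial (P : Subgroup G) :=
      Finite.one_lt_card_iff_nontrivial.1 (hP.symm ▸ hp.out.one_lt)
    obtain ⟨x, hx⟩ := exists_ne (1 : (P : Subgroup G))
    exact h1 ((H24.mem_kerChar.1 (hker x.2)).symm.trans (hvan x hx))
  · have h0 := H24.sum_normal_eq_zero χ (P : Subgroup G) hker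
    rw [Finset.sum_eq_single (1 : (P : Subgroup G)) (fun x _ hx => hvan x hx) (by simp)] at h0
    exact h1 (by simpa using h0)

/-- McKay's equality for a Sylow subgroup of order `p`. -/
theorem card_eq_classes (P : Sylow p G) (hP : Nat.card P = p) :
    Nat.card {χ : IrrCharacter G // ¬ p ∣ charDegree (χ : G → ℂ)} =
      Nat.card (ConjClasses (Subgroup.normalizer ((P : Subgroup G) : Set G))) := by
  classical
  set N := Subgroup.normalizer ((P : Subgroup G) : Set G) with hN
  haveI : Fintype N := Fintype.ofFinite _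
  have hPN : (P : Subgroup G) ≤ N := Subgroup.le_normalizer
  set Q := P.subtype hPN with hQ
  have hQe : (Q : Subgroup N) = (P : Subgroup G).subgroupOf N := Sylow.coe_subtype _ _
  have hQc : Nat.card Q = p := by
    show Nat.card (Q : Subgroup N) = p
    rw [hQe, Nat.card_congr (Subgroup.subgroupOfEquivOfLe hPN).toEquiv]
    exact hP
  have hQn : (Q : Subgroup N).Normal := by rw [hQe]; exact Subgroup.normal_in_normalizer
  obtain ⟨u, a, H, D⟩ := H85.D1.exists_setting hP
  obtain ⟨u', a', H', D'⟩ := H85.D1.exists_setting hQc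
  haveI : Fintype H := Fintype.ofFinite _
  haveI : Fintype H' := Fintype.ofFinite _
  -- the centralizers
  set C := Subgroup.centralizer ((P : Subgroup G) : Set G) with hC
  set C' := Subgroup.centralizer ((Q : Subgroup N) : Set N) with hC'
  have hCN : C ≤ N := Subgroup.centralizer_le_normalizer _
  have hC'eq : C' = C.subgroupOf N := by
    ext x
    rw [Subgroup.mem_subgroupOf, hC', hC, Subgroup.mem_centralizer_iff, Subgroup.mem_centralizer_iff]
    constructor
    · intro h w hw
      exact congrArg Subtype.val (h ⟨w, hPN hw⟩ (show (⟨w, hPN hw⟩ : N) ∈ (Q : Subgroup N) by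
        rw [hQe]; exact hw))
    · intro h w hw
      have hw' : (w : G) ∈ (P : Subgroup G) := by
        have h2 : w ∈ (Q : Subgroup N) := hw
        rwa [hQe] at h2
      exact Subtype.ext (h w hw')
  have hN'top : Subgroup.normalizer ((Q : Subgroup N) : Set N) = ⊤ :=
    Subgroup.normalizer_eq_top_iff.2 hQn
  -- the `p'`-parts
  have hHN : H ≤ N := fun h hh => hCN (D.frame.H_le hh)
  have hH'eq : H' = H.subgroupOf N := by
    ext x
    rw [Subgroup.mem_subgroupOf]
    constructor
    · intro hx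
      refine D.mem_H ?_ ?_
      · exact (SetLike.ext_iff.1 hC'eq x).1 (D'.frame.H_le hx)
      · rw [Subgroup.orderOf_coe]; exact D'.not_dvd_orderOf hx
    · intro hx
      refine D'.mem_H ((SetLike.ext_iff.1 hC'eq x).2 (D.frame.H_le hx)) ?_
      rw [← Subgroup.orderOf_coe]; exact D.not_dvd_orderOf hx
  subst hH'eq
  let e : H ≃* (H.subgroupOf N) := (Subgroup.subgroupOfEquivOfLe hHN).symm
  have hst : ∀ φ' : IrrCharacter (H.subgroupOf N),
      Nat.card (D'.stab φ') = Nat.card (D.stab (H12.irrCongr e φ')) := by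
    intro φ'
    refine (Nat.card_congr
      { toFun := fun t => ⟨((t : N) : G), (t : N).2, ?_⟩
        invFun := fun t => ⟨⟨(t : G), t.2.1⟩, ?_, ?_⟩
        left_inv := fun t => rfl
        right_inv := fun t => rfl })
    · intro h h' he
      rw [H12.irrCongr_apply, H12.irrCongr_apply]
      exact t.2.2 (e h) (e h') (Subtype.ext he)
    · rw [hN'top]; trivial
    · intro h h' he
      have h2 := t.2.2 (e.symm h) (e.symm h') (congrArg Subtype.val he)
      rw [H12.irrCongr_apply, H12.irrCongr_apply] at h2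
      simpa using h2
  have key : (Nat.card {χ : IrrCharacter G // ¬ p ∣ charDegree (χ : G → ℂ)} : ℚ) =
      Nat.card {χ : IrrCharacter N // ¬ p ∣ charDegree (χ : N → ℂ)} := by
    rw [card_eq D, card_eq D']
    refine (Fintype.sum_equiv (H12.irrCongr e) _ _ fun φ' => ?_).symm
    rw [hst φ', hN'top, Subgroup.card_top,
      ← Nat.card_congr (Subgroup.subgroupOfEquivOfLe hCN).toEquiv, ← hC'eq]
  rw [Nat.cast_inj.1 key]
  rw [Nat.card_congr (Equiv.subtypeUnivEquiv fun χ : IrrCharacter N =>
    not_dvd_of_normal Q hQc hQn χ)]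
  exact H12.card_irrCharacter

end H14.McKayPrime
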