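import Cfsg.Agent.H14.PF12Main

/-!
The statements of S1540, S1541 and S1542 in their frozen form, from the same hypotheses.
-/

set_option autoImplicit false

open Cfsg

namespace H14.PF12

universe u

variable {G : Type u} [Group G] [Fintype G]

/-- The frozen form of S1542. -/
theorem frozen1542 (hG : IsMinSimpleOddOrder G) (B : H16.FT.BG G) (L : Subgroup G) [Fintype L]
    (hL : IsCoatom L) (hI : Cfsg.IsOfTypeI L)
    (hfrob : ∀ x ∈ fittingHallOf L, x ≠ 1 →
      L ⊓ Subgroup.centralizer ({x} : Set G) ≤ fittingHallOf L) :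
    (∀ χ ∈ inducedIrrAbove (fittingHall L) ⊥, IsIrrCharacter L χ) ∧
      IsCoherent (inducedIrrAbove (fittingHall L) ⊥) {1}ᶜ
        (dadeIsometry (Cfsg.typeA L) L (supportR L)) := by
  have h := shape1542_of_bg hG B L hL (H81.isTypeIw_of_isOfTypeI hI) hfrob
  rwa [H81.typeAw_eq_typeA' hI] at h

/-- The frozen form of S1540. -/
theorem frozen1540 (hG : IsMinSimpleOddOrder G) (B : H16.FT.BG G) (hV : H16.FT.NoTypeFive G)
    (h34 : H16.FT.TypeThreeFour G) (hcyc : TypeThreeCyclic G) (M : Subgroup G) (hM : IsCoatom M)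
    (hI : Cfsg.IsOfTypeI M) : ∀ x ∈ fittingHallOf M, x ≠ 1 →
      M ⊓ Subgroup.centralizer ({x} : Set G) ≤ fittingHallOf M :=
  shape1540_of_bg hG B hV h34 hcyc M hM (H81.isTypeIw_of_isOfTypeI hI)

/-- The frozen form of S1541. -/
theorem frozen1541 (hG : IsMinSimpleOddOrder G) (B : H16.FT.BG G) (h40 : H16.FT.Shape1540 G) :
    ∃ M : Subgroup G, IsCoatom M ∧ ¬ Cfsg.IsOfTypeI M :=
  (shape1541_of_bg hG B h40).imp fun _ h => ⟨h.1, fun hI => h.2 (H81.isTypeIw_of_isOfTypeI hI)⟩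

end H14.PF12
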