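import Cfsg.Agent.H14.PF12Char
import Cfsg.Agent.H14.PF12Core
import Cfsg.Agent.H13.PermutationLemma
import Cfsg.Agent.H16.IndSet
import Cfsg.Agent.S1514
import Cfsg.Agent.S1517
import Cfsg.Agent.S1518

/-!
Peterfalvi (12.3) and (12.5): orthogonality between the characters of non-conjugate maximal
subgroups of Type I, and the functions constant on the cosets of `M_F`.
-/

set_option autoImplicit false
set_option linter.style.haveILetI false
set_option linter.unusedSectionVars false

open Cfsg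
open scoped ComplexConjugate

namespace H14.PF12

universe u

variable {G : Type u} [Group G] [Fintype G]

/-- An irreducible character of `M` not trivial on `M_F`. -/
def IsNontrivF (M : Subgroup G) (φ : M → ℂ) : Prop :=
  IsIrrCharacter M φ ∧ ∃ n ∈ fittingHall M, φ n ≠ φ 1

/-- `ψ` is orthogonal to the irreducible characters attached to `M` by the Dade map. -/
def OrthR (M : Subgroup G) (ψ : G → ℂ) : Prop :=
  ∀ (φ : M → ℂ) (μ : G → ℂ), IsNontrivF M φ → IsIrrCharacter G μ →
    dadeIsometry (H81.typeAw M) M (supportR M) (φ - conjFun φ) = μ - conjFun μ → classInner ψ μ = 0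

section onM

variable {M : Subgroup G} [Fintype M]

theorem IsNontrivF.conj {φ : M → ℂ} (h : IsNontrivF M φ) : IsNontrivF M (conjFun φ) := by
  obtain ⟨n, hn, hne⟩ := h.2
  exact ⟨H12.isIrrCharacter_conj h.1, n, hn, fun e => hne ((starRingEnd ℂ).injective e)⟩

theorem IsNontrivF.conj_ne (hG : IsMinSimpleOddOrder G) {φ : M → ℂ} (h : IsNontrivF M φ) :
    conjFun φ ≠ φ := by
  intro e
  obtain ⟨n, -, hne⟩ := h.2
  have := H13.eq_one_of_real_of_odd (H80.ms_odd_sub hG M) h.1 fun g => congrFun e g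
  exact hne (by rw [this])

theorem supported_outside (hI : H81.IsTypeIw M) {φ : M → ℂ} (h : IsNontrivF M φ) (x : M)
    (hx1 : x ≠ 1) (hx : (x : G) ∉ H81.typeAw M) : φ x = 0 := by
  refine H13.eq_zero_of_free (fittingHall M) h.1 h.2 x fun n hn hc => ?_
  by_contra hn1
  exact hx ((mem_typeA_iff hI).mpr ⟨x.2, fun e => hx1 (OneMemClass.coe_eq_one.mp e), n,
    (mem_fittingHall_iff n).mp hn, fun e => hn1 (OneMemClass.coe_eq_one.mp e),
    (congrArg Subtype.val hc).symm⟩)

theorem sub_supported (hI : H81.IsTypeIw M) {φ φ' : M → ℂ} (h : IsNontrivF M φ)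
    (h' : IsNontrivF M φ') (hd : φ 1 = φ' 1) (x : M) (hx : (x : G) ∉ H81.typeAw M) :
    (φ - φ') x = 0 := by
  by_cases hx1 : x = 1
  · subst hx1; simp [hd]
  · simp [supported_outside hI h x hx1 hx, supported_outside hI h' x hx1 hx]

theorem conj_degree {φ : M → ℂ} (h : IsNontrivF M φ) : φ 1 = conjFun φ 1 :=
  (H16.gen_one_conj (H16.gen_of_irr h.1)).symm

/-- Constituents of `Ind θ` and of `Ind θ̄` differ. -/
theorem conj_not_constituent (hG : IsMinSimpleOddOrder G) {φ : M → ℂ} (hφ : IsNontrivF M φ)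
    {θ : fittingHall M → ℂ} (hθ : IsIrrCharacter (fittingHall M) θ)
    (h : classInner (indFun (fittingHall M) θ) φ ≠ 0) :
    classInner (indFun (fittingHall M) θ) (conjFun φ) = 0 := by
  classical
  haveI : Fintype (fittingHall M) := Fintype.ofFinite _
  by_contra hc
  have hcl := H12.IsCharacter.isClassFunction (H12.isCharacter_of_isIrrCharacter hφ.1)
  have hclc := H12.IsCharacter.isClassFunction (H12.isCharacter_of_isIrrCharacter hφ.conj.1)
  rw [H13.classInner_indFun_left _ θ hcl, ← H12.conj_classInner, ne_eq, map_eq_zero] at h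
  rw [H13.classInner_indFun_left _ θ hclc, ← H12.conj_classInner, map_eq_zero] at hc
  have hθc : IsIrrCharacter (fittingHall M) (fun k => conj (θ k)) := H12.isIrrCharacter_conj hθ
  have hne : classInner (fun n : fittingHall M => φ n) (fun k => conj (θ k)) ≠ 0 := by
    intro e
    apply hc
    have := congrArg conj e
    rw [map_zero] at this
    rw [← this]
    simp only [classInner, map_mul, map_sum, map_inv₀, Complex.conj_natCast, Complex.conj_conj,
      conjFun]
  have hx : ∃ x : M, H13.twist (fittingHall M) x θ = fun k => conj (θ k) := by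
    by_contra hnx
    push Not at hnx
    exact hne (H13.classInner_res_eq_zero_of_not_conj _ hφ.1 hθ hθc h hnx)
  obtain ⟨x, hx⟩ := hx
  have hx2 : x * x ∈ H13.inertia (fittingHall M) θ := by
    rw [H13.mem_inertia, ← H13.twist_twist, hx]
    funext n
    have e := congrFun hx n
    rw [H13.twist_apply] at e ⊢
    rw [e, Complex.conj_conj]
  have hxT : x ∈ H13.inertia (fittingHall M) θ := by
    obtain ⟨k, hk⟩ := H80.ms_odd_sub hG M
    have hxe : x = (x * x) ^ (k + 1) := by
      rw [← sq, ← pow_mul, show 2 * (k + 1) = Nat.card M + 1 by omega, pow_succ, pow_card_eq_one',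
        one_mul]
    rw [hxe]
    exact pow_mem hx2 _
  rw [H13.mem_inertia, hx] at hxT
  have hodd : Odd (Nat.card (fittingHall M)) :=
    Odd.of_dvd_nat (H80.ms_odd_sub hG M) (Subgroup.card_subgroup_dvd_card _)
  have h1 : θ = fun _ => 1 := H13.eq_one_of_real_of_odd hodd hθ fun g => congrFun hxT g
  obtain ⟨n, hn, hne'⟩ := hφ.2
  exact h (by rw [h1]; exact res_one_eq_zero (fittingHall M) hφ.1 ⟨n, hn, hne'⟩)

end onM

variable (hG : IsMinSimpleOddOrder G) (hBG : H16.FT.BG G) (h37 : H16.FT.Shape1537 G)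
include hG h37

theorem exists_mu {M : Subgroup G} [Fintype M] (hM : IsCoatom M) (hI : H81.IsTypeIw M) {φ : M → ℂ}
    (hφ : IsNontrivF M φ) : ∃ μ : G → ℂ, IsIrrCharacter G μ ∧
      dadeIsometry (H81.typeAw M) M (supportR M) (φ - conjFun φ) = μ - conjFun μ :=
  Cfsg.Agent.S1518.result _ _ _ (h37 M hM _ (Or.inr (Or.inl rfl))).2 φ hφ.1
    (supported_outside hI hφ)

include hBG

theorem ortho_mu_aux {M N : Subgroup G} [Fintype M] [Fintype N] (hM : IsCoatom M)
    (hIM : H81.IsTypeIw M) (hN : IsCoatom N) (hIN : H81.IsTypeIw N)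
    (hdisj : tildeOf M (typeA1 M) ∩ tildeOf N (H81.typeAw N) = ∅)
    {φ : M → ℂ} {ξ : N → ℂ} {μ ν : G → ℂ} (hφ : IsNontrivF M φ) (hξ : IsNontrivF N ξ)
    (hμ : IsIrrCharacter G μ) (hν : IsIrrCharacter G ν)
    (eμ : dadeIsometry (H81.typeAw M) M (supportR M) (φ - conjFun φ) = μ - conjFun μ)
    (eν : dadeIsometry (H81.typeAw N) N (supportR N) (ξ - conjFun ξ) = ν - conjFun ν) :
    classInner μ ν = 0 := by
  classical
  by_contra hne
  obtain rfl : μ = ν := by
    by_contra h
    exact hne (H16.ci_irr_ne hμ hν h)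
  haveI : Fintype (fittingHall M) := Fintype.ofFinite _
  have hcl := H12.IsCharacter.isClassFunction (H12.isCharacter_of_isIrrCharacter hφ.1)
  obtain ⟨θ, hθ⟩ := H13.exists_constituent (fittingHall M)
    (H12.isCharacter_of_isIrrCharacter hφ.1) (H16.irr_ne_zero hφ.1)
  set χ : M → ℂ := indFun (fittingHall M) (θ : fittingHall M → ℂ) with hχ
  have hχφ : classInner χ φ ≠ 0 := by
    rw [hχ, H13.classInner_indFun_left _ _ hcl, ← H12.conj_classInner, ne_eq, map_eq_zero]
    exact hθ
  have hχφc : classInner χ (conjFun φ) = 0 := conj_not_constituent hG hφ θ.2 hχφ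
  have hχchar : IsCharacter M χ := H13.isCharacter_indFun _ (H12.isCharacter_irr θ)
  have hgen : IsGeneralizedCharacter M (χ - conjFun χ) := by
    refine H16.gen_sub (H16.gen_of_char hχchar) (H16.gen_of_char ?_)
    rw [hχ, H16.conj_indFun]
    exact H13.isCharacter_indFun _ (H12.isCharacter_of_isIrrCharacter
      (H12.isIrrCharacter_conj θ.2))
  have hsupp : ∀ x : M, x = 1 ∨ x ∉ fittingHall M → (χ - conjFun χ) x = 0 := by
    rintro x (rfl | hx)
    · have := H16.gen_one_conj (H16.gen_of_char hχchar)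
      simp [conjFun, this]
    · simp [conjFun, hχ, H13.indFun_normal_notMem _ _ hx]
  have hsuppA : ∀ x : M, (x : G) ∉ H81.typeAw M → (χ - conjFun χ) x = 0 := by
    intro x hx
    refine hsupp x ?_
    by_contra hc
    push Not at hc
    have hx1 : (x : G) ≠ 1 := fun e => hc.1 (OneMemClass.coe_eq_one.mp e)
    exact hx ((mem_typeA_iff hIM).mpr
      ⟨x.2, hx1, x, (mem_fittingHall_iff x).mp hc.2, hx1, rfl⟩)
  set τM := dadeIsometry (H81.typeAw M) M (supportR M)
  set τN := dadeIsometry (H81.typeAw N) N (supportR N)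
  have hD := (h37 M hM _ (Or.inr (Or.inl rfl))).2
  have h1 : classInner (τM (χ - conjFun χ)) (τN (ξ - conjFun ξ)) = 0 := by
    simp only [classInner]
    rw [Finset.sum_eq_zero, mul_zero]
    intro g _
    by_cases hg : τM (χ - conjFun χ) g = 0
    · rw [hg, zero_mul]
    suffices τN (ξ - conjFun ξ) g = 0 by rw [this, map_zero, mul_zero]
    by_contra hg'
    have hA1 : g ∈ tildeOf M (typeA1 M) := by
      by_contra hgM
      refine hg (H15.dade_apply_zero _ fun a _ r hr y he => ?_) |>.elim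
      by_cases ha : (χ - conjFun χ) a = 0
      · exact hg (by
          show dadeIsometry (H81.typeAw M) M (supportR M) (χ - conjFun χ) g = 0
          rw [he, H15.dade_apply hD (H12.isGeneralizedCharacter_iff.mp hgen).1 a ‹_› hr y, ha])
      · refine hgM ⟨a, ?_, r, hr, y, he⟩
        rw [typeA1_typeI hBG hM hIM]
        have := mt (hsupp a) ha
        push Not at this
        exact ⟨(mem_fittingHall_iff a).mp this.2,
          fun e => this.1 (OneMemClass.coe_eq_one.mp e)⟩
    have hAN : g ∈ tildeOf N (H81.typeAw N) := by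
      by_contra hgN
      exact hg' (H15.dade_apply_zero _ fun a ha r hr y he => hgN ⟨a, ha, r, hr, y, he⟩)
    exact (hdisj ▸ (⟨hA1, hAN⟩ : g ∈ tildeOf M (typeA1 M) ∩ tildeOf N (H81.typeAw N)) :
      g ∈ (∅ : Set G))
  have h2 : classInner (τM (χ - conjFun χ)) (τM (φ - conjFun φ)) =
      classInner (χ - conjFun χ) (φ - conjFun φ) :=
    H15.dade_isometry hD _ _ (H12.isGeneralizedCharacter_iff.mp hgen).1 hsuppA
      (H12.isGeneralizedCharacter_iff.mp
        (H16.gen_sub (H16.gen_of_irr hφ.1) (H16.gen_of_irr hφ.conj.1))).1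
  rw [eν] at h1
  rw [eμ, h1] at h2
  have hcc : ∀ a b : M → ℂ, classInner (conjFun a) (conjFun b) = conj (classInner a b) := by
    intro a b
    simp [classInner, conjFun, map_sum]
  have h3 : classInner (conjFun χ) φ = 0 := by
    have := hcc χ (conjFun φ)
    rwa [hχφc, map_zero, show conjFun (conjFun φ) = φ from funext fun x => Complex.conj_conj _] at this
  obtain ⟨k, hk⟩ := H12.IsCharacter.classInner_nat hχchar
    (H12.isCharacter_of_isIrrCharacter hφ.1)
  rw [H16.ci_sub_left, H16.ci_sub_right, H16.ci_sub_right, hcc, hχφc, h3, hk,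
    Complex.conj_natCast] at h2
  apply hχφ
  rw [hk]
  linear_combination (-(1 : ℂ) / 2) * h2

variable (h39 : H16.FT.Shape1539 G)
include h39

/-- Peterfalvi (12.3). -/
theorem ortho_mu {M N : Subgroup G} [Fintype M] [Fintype N] (hM : IsCoatom M)
    (hIM : H81.IsTypeIw M) (hN : IsCoatom N) (hIN : H81.IsTypeIw N)
    (hnc : ∀ g : G, N.map (MulAut.conj g).toMonoidHom ≠ M)
    {φ : M → ℂ} {ξ : N → ℂ} {μ ν : G → ℂ} (hφ : IsNontrivF M φ) (hξ : IsNontrivF N ξ)
    (hμ : IsIrrCharacter G μ) (hν : IsIrrCharacter G ν)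
    (eμ : dadeIsometry (H81.typeAw M) M (supportR M) (φ - conjFun φ) = μ - conjFun μ)
    (eν : dadeIsometry (H81.typeAw N) N (supportR N) (ξ - conjFun ξ) = ν - conjFun ν) :
    classInner μ ν = 0 := by
  obtain ⟨-, -, -, h | h⟩ := h39 M N hM hN hnc
  · exact ortho_mu_aux hG hBG h37 hM hIM hN hIN h hφ hξ hμ hν eμ eν
  · have h' : tildeOf N (typeA1 N) ∩ tildeOf M (H81.typeAw M) = ∅ := h
    rw [← H12.conj_classInner, ortho_mu_aux hG hBG h37 hN hIN hM hIM h' hξ hφ hν hμ eν eμ,
      map_zero]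

omit h39 in
/-- A class function orthogonal to the characters attached to `M` has equal inner products with
the characters of equal degree. -/
theorem ortho_equal_degree {M : Subgroup G} [Fintype M] (hM : IsCoatom M) (hIM : H81.IsTypeIw M)
    {ψ : G → ℂ} (hψ : OrthR M ψ) {φ φ' : M → ℂ} (hφ : IsNontrivF M φ) (hφ' : IsNontrivF M φ')
    (hd : φ 1 = φ' 1) :
    classInner (dadeIsometry (H81.typeAw M) M (supportR M) (φ - φ')) ψ = 0 := by
  classical
  have hD := (h37 M hM _ (Or.inr (Or.inl rfl))).2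
  set τ := dadeIsometry (H81.typeAw M) M (supportR M)
  let T : Set (M → ℂ) := {x | IsNontrivF M x ∧ x 1 = φ 1}
  have hsupp : ∀ α ∈ zspanOn T {1}ᶜ, IsGeneralizedCharacter M α ∧
      ∀ x : M, (x : G) ∉ H81.typeAw M → α x = 0 := by
    rintro α ⟨hα, hα1⟩
    have h : IsGeneralizedCharacter M α ∧ ∀ x : M, x ≠ 1 → (x : G) ∉ H81.typeAw M → α x = 0 := by
      refine Submodule.span_induction (p := fun y _ => IsGeneralizedCharacter M y ∧
        ∀ x : M, x ≠ 1 → (x : G) ∉ H81.typeAw M → y x = 0) ?_ ?_ ?_ ?_ hα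
      · rintro y ⟨hy, -⟩
        exact ⟨H16.gen_of_irr hy.1, supported_outside hIM hy⟩
      · exact ⟨H16.gen_zero, fun _ _ _ => rfl⟩
      · intro a b _ _ ha hb
        exact ⟨H16.gen_add ha.1 hb.1, fun x h1 h2 => by
          rw [Pi.add_apply, ha.2 x h1 h2, hb.2 x h1 h2, add_zero]⟩
      · intro n a _ ha
        exact ⟨H16.gen_zsmul n ha.1, fun x h1 h2 => by
          rw [Pi.smul_apply, ha.2 x h1 h2, smul_zero]⟩
    refine ⟨h.1, fun x hx => ?_⟩
    by_cases hx1 : x = 1
    · exact hα1 x (by simp [hx1])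
    · exact h.2 x hx1 hx
  have hTc : ∀ χ ∈ T, conjFun χ ∈ T ∧ conjFun χ ≠ χ := fun χ hχ =>
    ⟨⟨hχ.1.conj, by rw [← conj_degree hχ.1]; exact hχ.2⟩, hχ.1.conj_ne hG⟩
  obtain ⟨R, hsys⟩ := Cfsg.Agent.S1514.result T ⟨φ, hφ, rfl⟩ (fun χ hχ => hχ.1.1) hTc τ
    (dade_isometryOn hD hsupp) (fun α _ => dade_map_one hD α)
  obtain ⟨-, τ₁, hiso, hagree⟩ :=
    Cfsg.Agent.S1517.result T τ R hsys (fun a ha b hb => ha.2.trans hb.2.symm)
  have key : ∀ x ∈ T, classInner (τ₁ x) ψ = 0 := by
    intro x hx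
    have hxc := (hTc x hx).1
    have hne := (hTc x hx).2
    obtain ⟨μ, hμ, eμ⟩ := exists_mu hG h37 hM hIM hx.1
    have hzs : x - conjFun x ∈ zspanOn T {1}ᶜ := by
      refine ⟨H16.zspan_sub (H16.zspan_of_mem hx) (H16.zspan_of_mem hxc), fun y hy => ?_⟩
      simp only [Set.mem_compl_iff, Set.mem_singleton_iff, not_not] at hy
      subst hy
      rw [Pi.sub_apply, ← conj_degree hx.1, sub_self]
    have e1 : classInner (τ₁ x) (μ - conjFun μ) = 1 := by
      rw [← eμ, ← show τ₁ (x - conjFun x) = dadeIsometry (H81.typeAw M) M (supportR M) (x - conjFun x)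
        from hagree _ hzs, hiso.2.2.1 x (H16.zspan_of_mem hx) _
        (H16.zspan_sub (H16.zspan_of_mem hx) (H16.zspan_of_mem hxc)),
        H16.ci_sub_right, H16.ci_irr_self hx.1.1, H16.ci_irr_ne hx.1.1 hxc.1.1 (Ne.symm hne),
        sub_zero]
    have hμc : IsIrrCharacter G (conjFun μ) := H12.isIrrCharacter_conj hμ
    have h0 : classInner ψ μ = 0 := hψ x μ hx.1 hμ eμ
    have h0c : classInner ψ (conjFun μ) = 0 := by
      refine hψ (conjFun x) _ hx.1.conj hμc ?_
      rw [show conjFun (conjFun x) = x from funext fun y => Complex.conj_conj _,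
        show conjFun (conjFun μ) = μ from funext fun y => Complex.conj_conj _,
        ← neg_sub μ, ← eμ, ← neg_sub x]
      funext g
      simp only [dadeIsometry, Pi.neg_apply]
      split_ifs <;> simp
    have hsigned := H16.iso_signed hiso (H16.zspan_of_mem hx) hx.1.1
    rw [H16.ci_sub_right] at e1
    rcases H16.signed_cases hsigned (Or.inl hμ) with h | ⟨s, -, h, -⟩
    · rcases H16.signed_cases hsigned (Or.inl hμc) with h' | ⟨s, -, h', -⟩
      · rw [h, h'] at e1
        norm_num at e1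
      · rw [h', H16.ci_smul_left, H16.ci_symm ψ, h0c, map_zero, mul_zero]
    · rw [h, H16.ci_smul_left, H16.ci_symm ψ, h0, map_zero, mul_zero]
  have hzs : φ - φ' ∈ zspanOn T {1}ᶜ := by
    refine ⟨H16.zspan_sub (H16.zspan_of_mem ⟨hφ, rfl⟩) (H16.zspan_of_mem ⟨hφ', hd.symm⟩),
      fun y hy => ?_⟩
    simp only [Set.mem_compl_iff, Set.mem_singleton_iff, not_not] at hy
    subst hy
    rw [Pi.sub_apply, hd, sub_self]
  rw [← hagree _ hzs, H16.iso_sub' hiso (H16.zspan_of_mem ⟨hφ, rfl⟩)
    (H16.zspan_of_mem ⟨hφ', hd.symm⟩), H16.ci_sub_left, key φ ⟨hφ, rfl⟩,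
    key φ' ⟨hφ', hd.symm⟩, sub_zero]

omit h39 in
/-- Peterfalvi (12.5). -/
theorem coset_value {M : Subgroup G} [Fintype M] (hM : IsCoatom M) (hIM : H81.IsTypeIw M)
    {ψ : G → ℂ} (hψc : IsClassFunction G ψ) (hψ : OrthR M ψ) {y h : G} (hy : y ∈ M)
    (hyH : y ∉ fittingHallOf M) (hh : h ∈ fittingHallOf M) : ψ (y * h) = ψ y := by
  classical
  haveI : Fintype (fittingHall M) := Fintype.ofFinite _
  have hD := (h37 M hM _ (Or.inr (Or.inl rfl))).2
  -- a coset meeting the complement of `A(M)` is a single class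
  have hclass : ∀ z : G, z ∈ M → (∀ n ∈ fittingHallOf M, z * n = n * z → n = 1) →
      ∀ k ∈ fittingHallOf M, ∃ n ∈ fittingHallOf M, z * k = n * z * n⁻¹ := by
    intro z hz hfree k hk
    have hzN : ∀ n ∈ fittingHallOf M, z⁻¹ * n * z * n⁻¹ ∈ fittingHallOf M := fun n hn =>
      mul_mem (by simpa using conj_mem_fittingHallOf (inv_mem hz) hn) (inv_mem hn)
    let f : fittingHallOf M → fittingHallOf M := fun n => ⟨z⁻¹ * n * z * n⁻¹, hzN n n.2⟩
    have hinj : Function.Injective f := by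
      intro a b e
      have e' : z⁻¹ * (a : G) * z * (a : G)⁻¹ = z⁻¹ * b * z * (b : G)⁻¹ := congrArg Subtype.val e
      have e2 : (a : G) * z * (a : G)⁻¹ = b * z * (b : G)⁻¹ := by
        calc (a : G) * z * (a : G)⁻¹ = z * (z⁻¹ * (a : G) * z * (a : G)⁻¹) := by group
          _ = z * (z⁻¹ * b * z * (b : G)⁻¹) := by rw [e']
          _ = _ := by group
      have e3 : z * ((b : G)⁻¹ * a) = (b : G)⁻¹ * a * z := by
        calc z * ((b : G)⁻¹ * a) = (b : G)⁻¹ * (b * z * (b : G)⁻¹) * a := by group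
          _ = (b : G)⁻¹ * (a * z * (a : G)⁻¹) * a := by rw [e2]
          _ = _ := by group
      exact Subtype.ext (inv_mul_eq_one.mp (hfree _ (mul_mem (inv_mem b.2) a.2) e3)).symm
    obtain ⟨n, hn⟩ := Finite.surjective_of_injective hinj ⟨k, hk⟩
    have e : z⁻¹ * n * z * (n : G)⁻¹ = k := congrArg Subtype.val hn
    exact ⟨n, n.2, by rw [← e]; group⟩
  have htoclass : ∀ z : G, (∃ n ∈ fittingHallOf M, y * h = n * z * n⁻¹) → ψ (y * h) = ψ z := by
    rintro z ⟨n, -, e⟩
    rw [e, hψc z n]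
  by_cases hfree : ∀ n ∈ fittingHallOf M, y * n = n * y → n = 1
  · exact htoclass y (hclass y hy hfree h hh)
  have hyh : y * h ∉ fittingHallOf M := fun e => hyH ((Subgroup.mul_mem_cancel_right _ hh).mp e)
  have hfree' : ¬ ∀ n ∈ fittingHallOf M, (y * h) * n = n * (y * h) → n = 1 := by
    intro hf
    apply hfree
    obtain ⟨n, hn, e⟩ := hclass (y * h) (mul_mem hy (H81.fittingHallOf_le M hh)) hf h⁻¹ (inv_mem hh)
    rw [mul_inv_cancel_right] at e
    intro k hk hk'
    have hk2 : n⁻¹ * k * n ∈ fittingHallOf M := mul_mem (mul_mem (inv_mem hn) hk) hn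
    have := hf _ hk2 (by
      rw [e] at hk'
      calc y * h * (n⁻¹ * k * n) = n⁻¹ * (n * (y * h) * n⁻¹ * k) * n := by group
        _ = n⁻¹ * (k * (n * (y * h) * n⁻¹)) * n := by rw [hk']
        _ = _ := by group)
    calc k = n * (n⁻¹ * k * n) * n⁻¹ := by group
      _ = 1 := by rw [this]; group
  -- the averaged function
  let g : M → ℂ := fun x => if (x : G) ∈ H81.typeAw M then
    H15.avg (supportR M x) (fun u => ψ ((x : G) * u)) else 0
  have hgc : IsClassFunction M g := by
    intro x m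
    by_cases hx : (x : G) ∈ H81.typeAw M
    · have hx' : ((m * x * m⁻¹ : M) : G) ∈ H81.typeAw M := hD.conj_mem m m.2 x hx
      simp only [g, if_pos hx, if_pos hx']
      show H15.avg (supportR M ((m : G) * x * (m : G)⁻¹)) _ = _
      rw [H15.dade_H_conj hD x hx m m.2, H15.avg_map]
      refine H15.avg_congr _ fun u _ => ?_
      show ψ ((m : G) * x * (m : G)⁻¹ * ((m : G) * u * (m : G)⁻¹)) = ψ ((x : G) * u)
      rw [show (m : G) * x * (m : G)⁻¹ * ((m : G) * u * (m : G)⁻¹) = m * (x * u) * (m : G)⁻¹ by group,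
        hψc]
    · have hx' : ((m * x * m⁻¹ : M) : G) ∉ H81.typeAw M := fun e => hx (by
        have := hD.conj_mem (m : G)⁻¹ (inv_mem m.2) _ e
        simpa [mul_assoc] using this)
      simp only [g, if_neg hx, if_neg hx']
  have hconst := coset_constant (fittingHall M) hgc (fun θ hθ hne φ φ' hφ hφ' h1 h2 => by
    have hd := typeF_constituents (typeF_of_typeI hIM) hθ hne hφ hφ' h1 h2
    have hnt : ∀ x : M → ℂ, IsIrrCharacter M x → classInner (indFun (fittingHall M) θ) x ≠ 0 →
        IsNontrivF M x := by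
      intro x hx hxne
      refine ⟨hx, ?_⟩
      by_contra hc
      push Not at hc
      apply hxne
      rw [H13.classInner_indFun_left _ θ (H12.IsCharacter.isClassFunction
        (H12.isCharacter_of_isIrrCharacter hx)),
        show (fun n : fittingHall M => x n) = x 1 • (fun _ => (1 : ℂ)) from
          funext fun n => by simp [hc n n.2],
        H16.ci_smul_right, H16.ci_irr_ne hθ H12.isIrrCharacter_one hne, mul_zero]
    refine ⟨hd, ?_⟩
    have hα := ortho_equal_degree hG hBG h37 hM hIM hψ (hnt φ hφ h1) (hnt φ' hφ' h2) hd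
    rw [H15.dade_adjoint hD (φ - φ')
      (H12.isGeneralizedCharacter_iff.mp (H16.gen_sub (H16.gen_of_irr hφ) (H16.gen_of_irr hφ'))).1
      (sub_supported hIM (hnt φ hφ h1) (hnt φ' hφ' h2) hd) ψ g hψc
      (fun a ha => by simp only [g, if_pos ha]), H16.ci_sub_left] at hα
    rw [← H12.conj_classInner φ g, ← H12.conj_classInner φ' g, sub_eq_zero.mp hα])
    (y := ⟨y, hy⟩) (fun e => hyH ((mem_fittingHall_iff _).mp e))
    (h := ⟨h, H81.fittingHallOf_le M hh⟩) ((mem_fittingHall_iff _).mpr hh)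
  have hval : ∀ z : G, ∀ hz : z ∈ M, z ∉ fittingHallOf M →
      (¬ ∀ n ∈ fittingHallOf M, z * n = n * z → n = 1) → g ⟨z, hz⟩ = ψ z := by
    intro z hz hzF hnf
    push Not at hnf
    obtain ⟨n, hn, hzn, hn1⟩ := hnf
    have hzA : z ∈ H81.typeAw M :=
      (mem_typeA_iff hIM).mpr ⟨hz, fun e => hzF (e ▸ one_mem _), n, hn, hn1, hzn⟩
    have hle : Subgroup.centralizer ({z} : Set G) ≤ M := by
      by_contra hc
      have := ((hBG.s1391 M hM (H81.typeAw M) (Or.inl rfl)).2.1 z hzA hc).1
      rw [typeA1_typeI hBG hM hIM] at this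
      exact hzF this.1
    have hbot : supportR M z = ⊥ := by
      unfold supportR
      rw [dif_neg fun hh => hh.1 hle]
    simp only [g, if_pos hzA, hbot]
    rw [H15.avg_congr (⊥ : Subgroup G) (f' := fun _ => ψ z)
      (fun u hu => by rw [Subgroup.mem_bot.mp hu, mul_one]), H15.avg_const]
  have e1 : g (⟨y, hy⟩ * ⟨h, H81.fittingHallOf_le M hh⟩) = ψ (y * h) := hval _ _ hyh hfree'
  rw [← e1, hconst, hval y hy hyH hfree]

end H14.PF12
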