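import Cfsg.Agent.H13.Gallagher

set_option autoImplicit false

open scoped ComplexConjugate

namespace H14

/-- Isaacs 6.16: `β ↦ β * χ` is a bijection between the characters over `φ` and over `φ * ϑ`. -/
theorem product_bijection {G : Type*} [Group G] [Fintype G] (N : Subgroup G) [hN : N.Normal]
    (φ ϑ : N → ℂ) (hφ : Cfsg.IsIrrCharacter N φ)
    (hφinv : ∀ x : G, H13.twist N x φ = φ) (hϑinv : ∀ x : G, H13.twist N x ϑ = ϑ)
    (hprod : Cfsg.IsIrrCharacter N (φ * ϑ)) (χ : G → ℂ) (hχ : Cfsg.IsIrrCharacter G χ)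
    (hext : ∀ n : N, χ n = ϑ n) :
    Set.BijOn (fun β : G → ℂ => β * χ)
      {β : G → ℂ | Cfsg.IsIrrCharacter G β ∧ Cfsg.classInner (Cfsg.indFun N φ) β ≠ 0}
      {ψ : G → ℂ | Cfsg.IsIrrCharacter G ψ ∧ Cfsg.classInner (Cfsg.indFun N (φ * ϑ)) ψ ≠ 0} := by
  classical
  have hind : Cfsg.indFun N (φ * ϑ) = Cfsg.indFun N φ * χ := by
    rw [← H12.indFun_mul_res N φ (H12.IsCharacter.isClassFunction (H12.isCharacter_of_isIrrCharacter hχ))]
    congr 1
    funext n
    rw [Pi.mul_apply, hext]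
  have hnorm : ∀ α : N → ℂ, Cfsg.IsIrrCharacter N α → (∀ x : G, H13.twist N x α = α) →
      Cfsg.classInner (Cfsg.indFun N α) (Cfsg.indFun N α) = (N.index : ℂ) := by
    intro α hα hinv
    rw [H13.classInner_indFun_indFun N hα hα, Nat.card_congr (Equiv.subtypeUnivEquiv hinv),
      ← N.card_mul_index, Nat.cast_mul, ← mul_assoc,
      inv_mul_cancel₀ (Nat.cast_ne_zero.2 Nat.card_pos.ne'), one_mul]
  have hφc : Cfsg.IsCharacter G (Cfsg.indFun N φ) :=
    H13.isCharacter_indFun N (H12.isCharacter_of_isIrrCharacter hφ)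
  choose e he using fun β : Cfsg.IrrCharacter G =>
    H12.IsCharacter.classInner_nat hφc (H12.isCharacter_irr β)
  have hsum : Cfsg.indFun N φ = ∑ β : Cfsg.IrrCharacter G, (e β : ℂ) • (β : G → ℂ) := by
    conv_lhs => rw [H12.classFunction_eq_sum (H12.IsCharacter.isClassFunction hφc)]
    simp only [he]
  have hchar : ∀ β : Cfsg.IrrCharacter G, Cfsg.IsCharacter G ((β : G → ℂ) * χ) := fun β =>
    H12.IsCharacter.mul (H12.isCharacter_irr β) (H12.isCharacter_of_isIrrCharacter hχ)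
  choose m hm using fun p : Cfsg.IrrCharacter G × Cfsg.IrrCharacter G =>
    H12.IsCharacter.classInner_nat (hchar p.1) (hchar p.2)
  have h1 : ∑ p : Cfsg.IrrCharacter G × Cfsg.IrrCharacter G, (e p.1 * e p.2 * m p) = N.index := by
    have h : Cfsg.classInner (Cfsg.indFun N (φ * ϑ)) (Cfsg.indFun N (φ * ϑ)) = (N.index : ℂ) := by
      refine hnorm _ hprod fun x => funext fun n => ?_
      change H13.twist N x φ n * H13.twist N x ϑ n = φ n * ϑ n
      rw [hφinv, hϑinv]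
    rw [hind, hsum, Finset.sum_mul, H12.classInner_sum_left] at h
    have h' : ((∑ p : Cfsg.IrrCharacter G × Cfsg.IrrCharacter G, (e p.1 * e p.2 * m p) : ℕ) : ℂ) =
        ((N.index : ℕ) : ℂ) := by
      rw [← h, Nat.cast_sum, Fintype.sum_prod_type]
      refine Finset.sum_congr rfl fun β _ => ?_
      rw [H12.classInner_sum_right]
      refine Finset.sum_congr rfl fun γ _ => ?_
      rw [smul_mul_assoc, smul_mul_assoc, H12.classInner_smul_left, H12.classInner_smul_right,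
        hm (β, γ), Complex.conj_natCast]
      push_cast
      ring
    exact_mod_cast h'
  have h2 : ∑ β : Cfsg.IrrCharacter G, e β * e β = N.index := by
    have h := hnorm φ hφ hφinv
    rw [H12.classInner_eq_sum_mul (H12.IsCharacter.isClassFunction hφc)
      (H12.IsCharacter.isClassFunction hφc)] at h
    simp only [he, Complex.conj_natCast] at h
    exact_mod_cast h
  have hϑ1 : χ 1 ≠ 0 := H12.irr_apply_one_ne_zero ⟨χ, hχ⟩
  have hpos : ∀ β : Cfsg.IrrCharacter G, 1 ≤ m (β, β) := by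
    intro β
    by_contra h
    have h0 : m (β, β) = 0 := by omega
    have hz := hm (β, β)
    rw [h0, Nat.cast_zero, H12.classInner_self_eq_zero_iff] at hz
    have h1 := congrFun hz 1
    rw [Pi.mul_apply, Pi.zero_apply, mul_eq_zero] at h1
    exact h1.elim (H12.irr_apply_one_ne_zero β) hϑ1
  have hge : ∀ p : Cfsg.IrrCharacter G × Cfsg.IrrCharacter G,
      e p.1 * e p.2 * (if p.1 = p.2 then 1 else 0) ≤ e p.1 * e p.2 * m p := by
    intro p
    refine Nat.mul_le_mul_left _ ?_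
    split_ifs with h
    · obtain ⟨a, b⟩ := p
      simp only at h
      subst h
      exact hpos a
    · exact Nat.zero_le _
  have heq : ∑ p : Cfsg.IrrCharacter G × Cfsg.IrrCharacter G,
      e p.1 * e p.2 * (if p.1 = p.2 then 1 else 0) =
      ∑ p : Cfsg.IrrCharacter G × Cfsg.IrrCharacter G, e p.1 * e p.2 * m p := by
    rw [h1, ← h2, Fintype.sum_prod_type]
    refine Finset.sum_congr rfl fun β _ => ?_
    simp
  have horth : ∀ β γ : Cfsg.IrrCharacter G, e β ≠ 0 → e γ ≠ 0 →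
      Cfsg.classInner ((β : G → ℂ) * χ) ((γ : G → ℂ) * χ) = if β = γ then 1 else 0 := by
    intro β γ hβ hγ
    have h := (Finset.sum_eq_sum_iff_of_le fun p _ => hge p).1 heq (β, γ) (Finset.mem_univ _)
    rw [hm (β, γ), ← Nat.eq_of_mul_eq_mul_left (Nat.pos_of_ne_zero (mul_ne_zero hβ hγ)) h]
    split_ifs <;> simp
  have hirr : ∀ β : Cfsg.IrrCharacter G, e β ≠ 0 → Cfsg.IsIrrCharacter G ((β : G → ℂ) * χ) := fun β hβ =>
    H12.isIrrCharacter_of_classInner_self_eq_one (hchar β) (by rw [horth β β hβ hβ, if_pos rfl])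
  have hne : ∀ β : Cfsg.IrrCharacter G, Cfsg.classInner (Cfsg.indFun N φ) β ≠ 0 ↔ e β ≠ 0 := by
    intro β
    rw [he, Ne, Nat.cast_eq_zero]
  have hind' : ∀ ψ : G → ℂ, Cfsg.classInner (Cfsg.indFun N (φ * ϑ)) ψ =
      ∑ β : Cfsg.IrrCharacter G, (e β : ℂ) * Cfsg.classInner ((β : G → ℂ) * χ) ψ := by
    intro ψ
    rw [hind, hsum, Finset.sum_mul, H12.classInner_sum_left]
    refine Finset.sum_congr rfl fun β _ => ?_
    rw [smul_mul_assoc, H12.classInner_smul_left]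
  refine ⟨?_, ?_, ?_⟩
  · rintro β ⟨hβ, hβne⟩
    have he0 := (hne ⟨β, hβ⟩).mp hβne
    refine ⟨hirr ⟨β, hβ⟩ he0, ?_⟩
    rw [hind', Finset.sum_eq_single (⟨β, hβ⟩ : Cfsg.IrrCharacter G)]
    · rw [horth ⟨β, hβ⟩ ⟨β, hβ⟩ he0 he0, if_pos rfl, mul_one]
      exact Nat.cast_ne_zero.mpr he0
    · intro γ _ hγ
      by_cases h : e γ = 0
      · simp [h]
      · rw [horth γ ⟨β, hβ⟩ h he0, if_neg hγ, mul_zero]
    · simp
  · rintro β ⟨hβ, hβne⟩ γ ⟨hγ, hγne⟩ h
    by_contra hd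
    have h1 := horth ⟨β, hβ⟩ ⟨γ, hγ⟩ ((hne _).mp hβne) ((hne _).mp hγne)
    rw [if_neg (fun e' => hd (congrArg Subtype.val e'))] at h1
    have h2 := horth ⟨β, hβ⟩ ⟨β, hβ⟩ ((hne _).mp hβne) ((hne _).mp hβne)
    rw [if_pos rfl] at h2
    have h3 : (β * χ : G → ℂ) = γ * χ := h
    simp only at h1 h2
    rw [← h3, h2] at h1
    exact one_ne_zero h1
  · rintro ψ ⟨hψ, hψne⟩
    rw [hind'] at hψne
    obtain ⟨β, -, hβ⟩ := Finset.exists_ne_zero_of_sum_ne_zero hψne
    have he0 : e β ≠ 0 := fun h => hβ (by simp [h])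
    refine ⟨β, ⟨β.2, (hne β).mpr he0⟩, ?_⟩
    by_contra hd
    refine hβ ?_
    have h2 := H12.classInner_irr_ne (χ := (⟨_, hirr β he0⟩ : Cfsg.IrrCharacter G))
      (ψ := (⟨ψ, hψ⟩ : Cfsg.IrrCharacter G)) (fun e' => hd (congrArg Subtype.val e'))
    simp only at h2
    rw [h2, mul_zero]

end H14
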