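import Cfsg.Agent.H14.GoingDown
import Cfsg.Agent.H14.BrauerLocal
import Cfsg.Agent.H14.Basic

/-!
# Relative M-groups
-/

set_option autoImplicit false
set_option linter.unusedSectionVars false
open Cfsg

namespace H14

universe u

/-- induction in stages from a subgroup of a subgroup -/
theorem indFun_stages {G : Type u} [Group G] [Fintype G] (T : Subgroup G) [Fintype T] (U : Subgroup T)
    {ψ : U → ℂ} (hψ : IsIrrCharacter U ψ) :
    ∃ (e : (U.map T.subtype) ≃* U), (∀ k, (((e k : U) : T) : G) = (k : G)) ∧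
      IsIrrCharacter (U.map T.subtype) (ψ ∘ e) ∧
      indFun (U.map T.subtype) (ψ ∘ e) = indFun T (indFun U ψ) := by
  classical
  let e := (U.equivMapOfInjective T.subtype T.subtype_injective).symm
  have he : ∀ k, (((e k : U) : T) : G) = (k : G) := by
    intro k
    obtain ⟨v, rfl⟩ := (U.equivMapOfInjective T.subtype T.subtype_injective).surjective k
    simp [e]
  refine ⟨e, he, H13.isIrrCharacter_comp_equiv e hψ, ?_⟩
  have h := indFun_mul_indFun T U ψ (fun _ => 1) (fun _ _ => rfl)
  rw [show ((fun _ => 1) * indFun U ψ : T → ℂ) = indFun U ψ from funext fun x => one_mul _] at h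
  rw [h]
  congr 1
  funext k
  rw [one_mul, Function.comp_apply]
  have hk : (⟨k.1, Subgroup.map_subtype_le U k.2⟩ : T) = ((e k : U) : T) := Subtype.ext (he k).symm
  rw [hk, H13.extendByZero_coe]

/-- chief-factor condition of a relative M-group -/
def SquareFreeChief {G : Type u} [Group G] (N : Subgroup G) : Prop :=
  ∀ (H K L : Subgroup G), N ≤ L → L < K → K ≤ H → (∀ h ∈ H, ∀ k ∈ K, h * k * h⁻¹ ∈ K) →
    (∀ h ∈ H, ∀ l ∈ L, h * l * h⁻¹ ∈ L) →
    (∀ M : Subgroup G, L ≤ M → M ≤ K → (∀ h ∈ H, ∀ m ∈ M, h * m * h⁻¹ ∈ M) → M = L ∨ M = K) →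
    ¬ IsSquare (L.relIndex K)

theorem squareFreeChief_subgroupOf {G : Type u} [Group G] {N T : Subgroup G} (hNT : N ≤ T)
    (h : SquareFreeChief N) : SquareFreeChief (N.subgroupOf T) := by
  intro H K L hNL hLK hKH hK hL hchief
  have hmap : ∀ A : Subgroup T, (∀ x ∈ H, ∀ a ∈ A, x * a * x⁻¹ ∈ A) →
      ∀ x ∈ H.map T.subtype, ∀ a ∈ A.map T.subtype, x * a * x⁻¹ ∈ A.map T.subtype := by
    rintro A hA _ ⟨x, hx, rfl⟩ _ ⟨a, ha, rfl⟩
    exact ⟨x * a * x⁻¹, hA x hx a ha, rfl⟩
  have h' := h (H.map T.subtype) (K.map T.subtype) (L.map T.subtype) ?_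
    (Subgroup.map_lt_map_iff_of_injective T.subtype_injective |>.mpr hLK) (Subgroup.map_mono hKH)
    (hmap K hK) (hmap L hL) ?_
  · rwa [Subgroup.relIndex_map_map_of_injective L K T.subtype_injective] at h'
  · intro n hn
    exact ⟨⟨n, hNT hn⟩, hNL (Subgroup.mem_subgroupOf.mpr hn), rfl⟩
  · intro M hLM hMK hM
    have hMT : M ≤ T := hMK.trans (Subgroup.map_subtype_le K)
    have hM' : M = (M.subgroupOf T).map T.subtype := (Subgroup.map_subgroupOf_eq_of_le hMT).symm
    have h1 : L ≤ M.subgroupOf T := fun l hl => Subgroup.mem_subgroupOf.mpr (hLM ⟨l, hl, rfl⟩)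
    have h2 : M.subgroupOf T ≤ K := fun m hm => by
      obtain ⟨k, hk, hkm⟩ := hMK (Subgroup.mem_subgroupOf.mp hm)
      rwa [← Subtype.ext hkm]
    have h3 : ∀ x ∈ H, ∀ m ∈ M.subgroupOf T, x * m * x⁻¹ ∈ M.subgroupOf T := fun x hx m hm =>
      Subgroup.mem_subgroupOf.mpr (hM _ ⟨x, hx, rfl⟩ _ (Subgroup.mem_subgroupOf.mp hm))
    rcases hchief (M.subgroupOf T) h1 h2 h3 with h | h
    · left; rw [hM', h]
    · right; rw [hM', h]

theorem relative_mgroup_aux (n : ℕ) : ∀ {G : Type u} [Group G] [Fintype G], Nat.card G = n →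
    ∀ (N : Subgroup G) [N.Normal], Group.IsSolvable (G ⧸ N) → SquareFreeChief N →
    ∀ χ : G → ℂ, IsIrrCharacter G χ →
    ∃ (H : Subgroup G) (hNH : N ≤ H) (ψ : H → ℂ), IsIrrCharacter H ψ ∧ indFun H ψ = χ ∧
      IsIrrCharacter N (fun x : N => ψ ⟨(x : G), hNH x.2⟩) := by
  classical
  induction n using Nat.strong_induction_on with
  | _ n IH =>
    intro G _ _ hn N _ hsolv hchief χ hχ
    by_cases hirr : IsIrrCharacter N (fun x : N => χ x)
    · letI : Fintype (⊤ : Subgroup G) := Fintype.ofFinite _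
      refine ⟨⊤, le_top, fun x => χ x, ?_, ?_, hirr⟩
      · exact H13.isIrrCharacter_comp_equiv (Subgroup.topEquiv : (⊤ : Subgroup G) ≃* G) hχ
      · funext g
        unfold Cfsg.indFun
        have hx : ∀ x : G, extendByZero (⊤ : Subgroup G) (fun y => χ y) (x⁻¹ * g * x) = χ g := by
          intro x
          rw [show x⁻¹ * g * x = ((⟨_, Subgroup.mem_top _⟩ : (⊤ : Subgroup G)) : G) from rfl, H13.extendByZero_coe]
          show χ (x⁻¹ * g * x) = χ g
          simpa using H12.irr_isClassFunction ⟨χ, hχ⟩ g x⁻¹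
        rw [Finset.sum_congr rfl (fun x _ => hx x), Finset.sum_const, Finset.card_univ, nsmul_eq_mul,
          Subgroup.card_top, ← Nat.card_eq_fintype_card, ← mul_assoc,
          inv_mul_cancel₀ (Nat.cast_ne_zero.2 Nat.card_pos.ne'), one_mul]
    -- `L` maximal with reducible restriction
    obtain ⟨L, ⟨hLn, hNL, hLred⟩, hLmax⟩ := ((Set.toFinite {L : Subgroup G | L.Normal ∧ N ≤ L ∧
      ¬ IsIrrCharacter L (fun x : L => χ x)}).exists_maximal ⟨N, inferInstance, le_rfl, hirr⟩)
    haveI := hLn
    have hLtop : L ≠ ⊤ := by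
      rintro rfl
      exact hLred (H13.isIrrCharacter_comp_equiv (Subgroup.topEquiv : (⊤ : Subgroup G) ≃* G) hχ)
    obtain ⟨K, ⟨hKn, hLK⟩, hKmin⟩ := (Set.toFinite {K : Subgroup G | K.Normal ∧ L < K}).exists_minimal
      ⟨⊤, inferInstance, lt_top_iff_ne_top.mpr hLtop⟩
    haveI := hKn
    have hKchief : ∀ M : Subgroup G, M.Normal → L ≤ M → M ≤ K → M = L ∨ M = K := by
      intro M hM hLM hMK
      rcases eq_or_lt_of_le hLM with h | h
      · exact Or.inl h.symm
      · exact Or.inr (le_antisymm hMK (hKmin ⟨hM, h⟩ hMK))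
    have hKirr : IsIrrCharacter K (fun x : K => χ x) := by
      by_contra h
      exact hLK.not_ge (hLmax ⟨hKn, hNL.trans hLK.le, h⟩ hLK.le)
    have hab : ⁅K, K⁆ ≤ L := by
      haveI : Group.IsSolvable (G ⧸ L) := by
        haveI := hsolv
        exact Group.isSolvable_of_surjective (f := QuotientGroup.map N L (MonoidHom.id G) hNL)
          (fun q => by
            obtain ⟨g, rfl⟩ := QuotientGroup.mk'_surjective L q
            exact ⟨g, rfl⟩)
      rcases hKchief (⁅K, K⁆ ⊔ L) inferInstance le_sup_right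
        (sup_le (Subgroup.commutator_le_self K) hLK.le) with h | h
      · exact le_sup_left.trans_eq h
      · exfalso
        set Kb := K.map (QuotientGroup.mk' L) with hKb
        have hperf : ⁅Kb, Kb⁆ = Kb := by
          rw [hKb, ← Subgroup.map_commutator]
          conv_rhs => rw [← h, Subgroup.map_sup]
          rw [(Subgroup.map_eq_bot_iff L).mpr (by rw [QuotientGroup.ker_mk']), sup_bot_eq]
        have hb : Kb = ⊥ := by
          by_contra hne
          exact (Group.IsSolvable.commutator_lt_of_ne_bot hne).ne hperf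
        rw [hKb, Subgroup.map_eq_bot_iff, QuotientGroup.ker_mk'] at hb
        exact hLK.not_ge hb
    letI : Fintype K := Fintype.ofFinite _
    letI : Fintype L := Fintype.ofFinite _
    letI : Fintype (L.subgroupOf K) := Fintype.ofFinite _
    haveI : (L.subgroupOf K).Normal := inferInstance
    have hcomm : commutator K ≤ L.subgroupOf K := by
      refine Subgroup.map_le_iff_le_comap.mp ?_
      rw [commutator_def, Subgroup.map_commutator, ← MonoidHom.range_eq_map, Subgroup.range_subtype]
      exact hab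
    have hgd := going_down (L.subgroupOf K) hcomm (fun h => hLK.not_ge (Subgroup.subgroupOf_eq_top.mp h))
      (Set.range (MulAut.conjNormal : G →* MulAut K))
      (by
        rintro _ ⟨g, rfl⟩ x hx
        rw [Subgroup.mem_subgroupOf, MulAut.conjNormal_apply]
        exact Subgroup.Normal.conj_mem (H := L) inferInstance _ hx g)
      (by
        intro U hU hinvU
        have hn : (U.map K.subtype).Normal := ⟨by
          rintro _ ⟨u, hu, rfl⟩ g
          exact ⟨MulAut.conjNormal g u, hinvU _ ⟨g, rfl⟩ u hu, MulAut.conjNormal_apply g u⟩⟩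
        have h1 : L ≤ U.map K.subtype := fun l hl =>
          ⟨⟨l, hLK.le hl⟩, hU (Subgroup.mem_subgroupOf.mpr hl), rfl⟩
        rcases hKchief _ hn h1 (Subgroup.map_subtype_le U) with h | h
        · refine Or.inl (Subgroup.map_injective K.subtype_injective ?_)
          rw [h, Subgroup.map_subgroupOf_eq_of_le hLK.le]
        · refine Or.inr (Subgroup.map_injective K.subtype_injective ?_)
          rw [h, ← MonoidHom.range_eq_map, Subgroup.range_subtype])
      hKirr (by
        rintro _ ⟨g, rfl⟩ x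
        show χ ((MulAut.conjNormal g x : K) : G) = χ x
        rw [MulAut.conjNormal_apply]
        exact H12.irr_isClassFunction ⟨χ, hχ⟩ x g)
    let em : L ≃* L.subgroupOf K := (Subgroup.subgroupOfEquivOfLe hLK.le).symm
    have hnsq := hchief ⊤ K L hNL hLK le_top (fun x _ k hk => hKn.conj_mem k hk x)
      (fun x _ l hl => hLn.conj_mem l hl x)
      (fun M hLM hMK hM => hKchief M ⟨fun m hm g => hM g (Subgroup.mem_top g) m hm⟩ hLM hMK)
    rcases hgd with hcase | ⟨φ, e, hφ, hres, he⟩ | ⟨F, hF, hFcard, hres⟩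
    · exact absurd (H13.isIrrCharacter_comp_equiv em hcase) hLred
    · exact absurd ⟨e, by rw [← pow_two, he]; rfl⟩ hnsq
    -- a non-invariant constituent
    have hFres : (fun x : L => χ x) = ∑ φ ∈ F, φ ∘ em := by
      funext x
      have h := congrFun hres (em x)
      simp only [Finset.sum_apply, Function.comp_apply] at h ⊢
      rw [← h]
      rfl
    have hF1 : 1 < F.card := by
      rw [hFcard]
      have h0 : (L.subgroupOf K).index ≠ 0 := Subgroup.index_ne_zero_of_finite
      have h1 : (L.subgroupOf K).index ≠ 1 := fun h => hLK.not_ge (Subgroup.subgroupOf_eq_top.mp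
        (Subgroup.index_eq_one.mp h))
      omega
    obtain ⟨φ, hφ, φ', hφ', hne⟩ := Finset.one_lt_card.mp hF1
    have hmult : ∀ ψ ∈ F, classInner (fun x : L => χ x) (ψ ∘ em) = 1 := by
      intro ψ hψ
      rw [hFres, H12.classInner_sum_left, Finset.sum_eq_single ψ]
      · exact H16.ci_irr_self (H13.isIrrCharacter_comp_equiv em (hF ψ hψ))
      · intro b hb hbne
        exact H16.ci_irr_ne (H13.isIrrCharacter_comp_equiv em (hF b hb))
          (H13.isIrrCharacter_comp_equiv em (hF ψ hψ)) (fun h => hbne (em.surjective.injective_comp_right h))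
      · exact fun h => absurd hψ h
    have hθ : IsIrrCharacter L (φ ∘ em) := H13.isIrrCharacter_comp_equiv em (hF φ hφ)
    have hne1 : classInner (fun x : L => χ x) (φ ∘ em) ≠ 0 := by rw [hmult φ hφ]; exact one_ne_zero
    set T := H13.inertia L (φ ∘ em) with hT
    have hLT : L ≤ T := H13.le_inertia L (H12.irr_isClassFunction ⟨_, hθ⟩)
    have hTtop : T ≠ ⊤ := by
      intro h
      have hzero := H13.classInner_res_eq_zero_of_not_conj L hχ hθ
        (H13.isIrrCharacter_comp_equiv em (hF φ' hφ')) hne1 (fun x hx => hne (by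
          refine em.surjective.injective_comp_right ?_
          show φ ∘ em = φ' ∘ em
          rw [← hx]
          exact ((H13.mem_inertia L).mp (show x ∈ T from h ▸ Subgroup.mem_top x)).symm))
      rw [hmult φ' hφ'] at hzero
      exact one_ne_zero hzero
    letI : Fintype T := Fintype.ofFinite _
    obtain ⟨ψ, hψ, -, hψχ⟩ := H13.clifford_correspondence_exists L hθ hT hLT hχ hne1
    have hlt : Nat.card T < n := by
      rw [← hn]
      refine lt_of_le_of_ne (Subgroup.card_le_card_group T) fun h => hTtop (T.eq_top_of_card_eq h)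
    have hNT : N ≤ T := hNL.trans hLT
    haveI hsolvT : Group.IsSolvable (T ⧸ N.subgroupOf T) := by
      haveI := hsolv
      refine Group.isSolvable_of_isSolvable_injective
        (f := QuotientGroup.map (N.subgroupOf T) N T.subtype (fun x hx => hx)) ?_
      intro a b h
      obtain ⟨a, rfl⟩ := QuotientGroup.mk_surjective a
      obtain ⟨b, rfl⟩ := QuotientGroup.mk_surjective b
      rw [QuotientGroup.eq]
      exact (QuotientGroup.eq.mp h :)
    obtain ⟨U, hNU, ψ', hψ', hindψ', hres'⟩ := IH _ hlt (G := T) rfl (N.subgroupOf T) hsolvT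
      (squareFreeChief_subgroupOf hNT hchief) ψ hψ
    obtain ⟨eU, heU, hirrU, hindU⟩ := indFun_stages T U hψ'
    refine ⟨U.map T.subtype, fun x hx => ⟨⟨x, hNT hx⟩, hNU (Subgroup.mem_subgroupOf.mpr hx), rfl⟩,
      ψ' ∘ eU, hirrU, by rw [hindU, hindψ', hψχ], ?_⟩
    have h := H13.isIrrCharacter_comp_equiv (Subgroup.subgroupOfEquivOfLe hNT).symm hres'
    convert h using 1
    funext x
    simp only [Function.comp_apply]
    refine congrArg ψ' (Subtype.ext (Subtype.ext ?_))
    rw [heU]
    rfl

end H14
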