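import Cfsg.Agent.H12.Linear
import Cfsg.Agent.H12.Transport
import Cfsg.Agent.H14.GaloisKernel

/-!
A `p`-group acting coprimely inside a group with a faithful character of degree less than `p - 1`.
-/

set_option autoImplicit false
set_option linter.unusedSectionVars false
set_option linter.style.haveILetI false

namespace H14.SmallDegree

open Cfsg
open scoped ComplexConjugate commutatorElement

universe u

variable {G : Type u} [Group G] [Finite G]

theorem iterate_fixed {α : Type*} {f : α → α} {p k : ℕ} (hp : p.Prime) (S : Finset α)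
    (hS : ∀ a ∈ S, f a ∈ S) (hcard : S.card < p) {a : α} (ha : a ∈ S)
    (hper : f^[p ^ k] a = a) : f a = a := by
  classical
  have h1 : Function.minimalPeriod f a ∣ p ^ k := Function.IsPeriodicPt.minimalPeriod_dvd hper
  have hmem : ∀ i, f^[i] a ∈ S := fun i => by
    induction i with
    | zero => simpa using ha
    | succ i ih => rw [Function.iterate_succ_apply']; exact hS _ ih
  have hinj : Set.InjOn (fun i => f^[i] a) (Finset.range (Function.minimalPeriod f a)) := by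
    intro i hi j hj hij
    exact (Function.iterate_eq_iterate_iff_of_lt_minimalPeriod
      (Finset.mem_range.1 hi) (Finset.mem_range.1 hj)).1 hij
  have h2 : Function.minimalPeriod f a ≤ S.card := by
    rw [← Finset.card_range (Function.minimalPeriod f a)]
    exact Finset.card_le_card_of_injOn _ (fun i _ => hmem i) hinj
  obtain ⟨j, -, hj⟩ := (Nat.dvd_prime_pow hp).1 h1
  rcases j with _ | j
  · rw [pow_zero] at hj
    exact Function.minimalPeriod_eq_one_iff_isFixedPt.1 hj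
  · have : p ≤ p ^ (j + 1) := Nat.le_self_pow (by omega) p
    omega

theorem commute_of_fixed_comm {x v w : G} {p q k m : ℕ} (hpq : p ≠ q) (hp : p.Prime) (hq : q.Prime)
    (hx : x ^ p ^ k = 1) (hw : w ^ q ^ m = 1) (hwdef : x * v * x⁻¹ = v * w)
    (hwx : x * w * x⁻¹ = w) : x * v = v * x := by
  have hiter : ∀ i : ℕ, x ^ i * v * (x ^ i)⁻¹ = v * w ^ i := by
    intro i
    induction i with
    | zero => simp
    | succ i ih =>
      calc x ^ (i + 1) * v * (x ^ (i + 1))⁻¹ = x * (x ^ i * v * (x ^ i)⁻¹) * x⁻¹ := by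
            rw [pow_succ']; group
        _ = (x * v * x⁻¹) * (x * w ^ i * x⁻¹) := by rw [ih]; group
        _ = v * w ^ (i + 1) := by rw [hwdef, ← conj_pow, hwx, mul_assoc, pow_succ']
  have h1 := hiter (p ^ k)
  rw [hx] at h1
  have h2 : w ^ p ^ k = 1 := by simpa using h1.symm
  have h3 := pow_gcd_eq_one (a := w) |>.2 ⟨h2, hw⟩
  rw [Nat.Coprime.pow k m ((Nat.coprime_primes hp hq).2 hpq), pow_one] at h3
  rw [h3, mul_one] at hwdef
  exact mul_inv_eq_iff_eq_mul.1 hwdef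

/-- Conjugation on a subgroup stable under `P`. -/
def conjOn (Q : Subgroup G) (x : G) (hx : x ∈ Subgroup.normalizer (Q : Set G)) : Q ≃* Q where
  toFun v := ⟨x * v * x⁻¹, (Subgroup.mem_normalizer_iff.1 hx v).1 v.2⟩
  invFun v := ⟨x⁻¹ * v * x, (Subgroup.mem_normalizer_iff''.1 hx v).1 v.2⟩
  left_inv v := Subtype.ext (by simp [mul_assoc])
  right_inv v := Subtype.ext (by simp [mul_assoc])
  map_mul' v w := Subtype.ext (by simp [mul_assoc])

theorem conjOn_apply (Q : Subgroup G) (x : G) (hx : x ∈ Subgroup.normalizer (Q : Set G)) (v : Q) :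
    (conjOn Q x hx v : G) = x * v * x⁻¹ := rfl

open scoped Classical in
/-- A `p`-element fixes every constituent of a character of degree less than `p`. -/
theorem constituent_fixed (Q : Subgroup G) {χ : G → ℂ} (hχ : IsCharacter G χ)
    {n : ℕ} (hn : χ 1 = n) {p : ℕ} (hp : p.Prime) (hnp : n < p)
    {x : G} (hxQ : x ∈ Subgroup.normalizer (Q : Set G)) {k : ℕ} (hx : x ^ p ^ k = 1)
    (m : IrrCharacter Q → ℕ) (hm : (fun v : Q => χ v) = ∑ ψ, (m ψ : ℂ) • (ψ : Q → ℂ))
    {ψ : IrrCharacter Q} (hψ : m ψ ≠ 0) (v : Q) :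
    (ψ : Q → ℂ) (conjOn Q x hxQ v) = (ψ : Q → ℂ) v := by
  haveI := Fintype.ofFinite Q
  set S := (Finset.univ : Finset (IrrCharacter Q)).filter fun φ => m φ ≠ 0 with hS
  have hcoef : ∀ φ, (m φ : ℂ) = classInner (fun v : Q => χ v) (φ : Q → ℂ) := fun φ => by
    rw [hm, H12.classInner_sum_smul_irr]
  set e := H12.irrCongr (conjOn Q x hxQ) with he
  have hinv : ∀ φ, m (e φ) = m φ := by
    intro φ
    have h1 := H12.classInner_comp_equiv (conjOn Q x hxQ) (fun v : Q => χ v) (φ : Q → ℂ)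
    have h2 : (fun v : Q => χ v) ∘ conjOn Q x hxQ = fun v : Q => χ v := by
      funext v
      show χ (conjOn Q x hxQ v : G) = χ v
      rw [conjOn_apply]
      exact H12.IsCharacter.isClassFunction hχ _ _
    rw [h2] at h1
    have h3 : (m (e φ) : ℂ) = m φ := by
      rw [hcoef, hcoef, ← h1]
      rfl
    exact_mod_cast h3
  have hcard : S.card < p := by
    refine lt_of_le_of_lt ?_ hnp
    have h1 := congrFun hm 1
    simp only [OneMemClass.coe_one, hn, Finset.sum_apply, Pi.smul_apply, smul_eq_mul,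
      H24.irr_one, ← Nat.cast_mul, ← Nat.cast_sum, Nat.cast_inj] at h1
    rw [h1, Finset.card_eq_sum_ones]
    refine le_trans ?_ (Finset.sum_le_sum_of_subset (Finset.subset_univ S))
    refine Finset.sum_le_sum fun φ hφ => ?_
    exact Nat.one_le_iff_ne_zero.2 (mul_ne_zero (Finset.mem_filter.1 hφ).2 (H24.irr_pos φ).ne')
  have hit : ∀ (i : ℕ) (φ : IrrCharacter Q) (w : Q),
      ((e^[i] φ : IrrCharacter Q) : Q → ℂ) w =
        (φ : Q → ℂ) ⟨x ^ i * w * (x ^ i)⁻¹,
          (Subgroup.mem_normalizer_iff.1 (pow_mem hxQ i) w).1 w.2⟩ := by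
    intro i
    induction i with
    | zero => intro φ w; simp
    | succ i ih =>
      intro φ w
      rw [Function.iterate_succ_apply, ih (e φ) w, he, H12.irrCongr_apply]
      refine congrArg _ (Subtype.ext ?_)
      simp only [conjOn_apply]
      rw [pow_succ']; group
  have hfix : e ψ = ψ := by
    refine iterate_fixed hp S (fun φ hφ => ?_) hcard
      (Finset.mem_filter.2 ⟨Finset.mem_univ _, hψ⟩) (k := k) ?_
    · rw [hS, Finset.mem_filter] at hφ ⊢
      exact ⟨Finset.mem_univ _, by rw [hinv]; exact hφ.2⟩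
    · refine Subtype.ext (funext fun w => ?_)
      rw [hit]
      exact congrArg _ (Subtype.ext (by simp [hx]))
  exact congrFun (congrArg Subtype.val hfix) v

/-- The minimal configuration: every proper `P`-invariant subgroup of the `q`-group `Q` is
centralized by `P`. -/
theorem centralize (P Q : Subgroup G) {p q : ℕ} (hp : p.Prime) (hq : q.Prime) (hpq : p ≠ q)
    (hP : IsPGroup p P) (hQ : IsPGroup q Q) (hPQ : P ≤ Subgroup.normalizer (Q : Set G))
    (hPab : ∀ a ∈ P, ∀ b ∈ P, a * b = b * a)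
    (hmin : ∀ R : Subgroup G, R < Q → P ≤ Subgroup.normalizer (R : Set G) →
      ∀ x ∈ P, ∀ r ∈ R, x * r = r * x)
    {χ : G → ℂ} (hχ : IsCharacter G χ) (hfaith : ∀ g : G, χ g = χ 1 → g = 1)
    {n : ℕ} (hn : χ 1 = n) (hnp : n + 1 < p) :
    ∀ x ∈ P, ∀ v ∈ Q, x * v = v * x := by
  classical
  haveI := Fintype.ofFinite Q
  haveI : Fact p.Prime := ⟨hp⟩
  haveI : Fact q.Prime := ⟨hq⟩
  by_contra hno
  push Not at hno
  obtain ⟨x, hxP, v₀, hv₀, hne⟩ := hno
  have hpow : ∀ {y : G}, y ∈ P → ∃ k, y ^ p ^ k = 1 := fun {y} hy => by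
    obtain ⟨k, hk⟩ := hP ⟨y, hy⟩
    exact ⟨k, congrArg Subtype.val hk⟩
  have hqpow : ∀ {w : G}, w ∈ Q → ∃ m, w ^ q ^ m = 1 := fun {w} hw => by
    obtain ⟨k, hk⟩ := hQ ⟨w, hw⟩
    exact ⟨k, congrArg Subtype.val hk⟩
  have hconjQ : ∀ {y : G}, y ∈ P → ∀ {w : G}, w ∈ Q → y * w * y⁻¹ ∈ Q := fun {y} hy {w} hw =>
    (Subgroup.mem_normalizer_iff.1 (hPQ hy) w).1 hw
  -- a stable subgroup containing all commutators with `x` is everything
  have hbig : ∀ R : Subgroup G, R ≤ Q → P ≤ Subgroup.normalizer (R : Set G) →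
      (∀ w ∈ Q, w⁻¹ * (x * w * x⁻¹) ∈ R) → R = Q := by
    intro R hRQ hRP hR
    rcases eq_or_lt_of_le hRQ with h | h
    · exact h
    exfalso
    obtain ⟨k, hk⟩ := hpow hxP
    obtain ⟨m, hm⟩ := hqpow (hRQ (hR v₀ hv₀))
    refine hne (commute_of_fixed_comm hpq hp hq hk hm (by group) ?_)
    rw [hmin R h hRP x hxP _ (hR v₀ hv₀), mul_inv_cancel_right]
  -- stability of centralizers and centres
  have hnormR : ∀ R : Subgroup G, (∀ y ∈ P, ∀ r ∈ R, y * r * y⁻¹ ∈ R) →
      P ≤ Subgroup.normalizer (R : Set G) := by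
    intro R hR y hy
    refine Subgroup.mem_normalizer_iff.2 fun r => ⟨hR y hy r, fun h => ?_⟩
    simpa [mul_assoc] using hR y⁻¹ (inv_mem hy) _ h
  obtain ⟨m, hm⟩ := H12.IsCharacter.exists_mult (H12.IsCharacter.res hχ Q)
  have hfix := fun {y : G} (hy : y ∈ P) {ψ : IrrCharacter Q} (hψ : m ψ ≠ 0) =>
    constituent_fixed Q hχ hn hp (by omega) (hPQ hy) (hpow hy).choose_spec m hm hψ
  have hfaithQ : ∀ w : Q, (∀ ψ, m ψ ≠ 0 → w ∈ H24.kerChar ψ) → w = 1 := by
    intro w hw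
    refine Subtype.ext (hfaith w ?_)
    have h1 := congrFun hm w
    have h2 := congrFun hm 1
    simp only [Finset.sum_apply, Pi.smul_apply, smul_eq_mul, OneMemClass.coe_one] at h1 h2
    rw [h1, h2]
    refine Finset.sum_congr rfl fun ψ _ => ?_
    by_cases hψ : m ψ = 0
    · simp [hψ]
    · rw [H24.mem_kerChar.1 (hw ψ hψ)]
  -- there is a nonlinear constituent
  obtain ⟨ψ, hψm, hψnl⟩ : ∃ ψ : IrrCharacter Q, m ψ ≠ 0 ∧ charDegree (ψ : Q → ℂ) ≠ 1 := by
    by_contra hall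
    push Not at hall
    apply hne
    set w : Q := ⟨v₀⁻¹ * (x * v₀ * x⁻¹), mul_mem (inv_mem hv₀) (hconjQ hxP hv₀)⟩ with hw
    have hw1 : w = 1 := by
      refine hfaithQ w fun ψ hψ => H24.mem_kerChar.2 ?_
      obtain ⟨f, hf⟩ := H12.exists_monoidHom_of_apply_one_eq_one (H12.isCharacter_irr ψ)
        (by rw [H24.irr_one, hall ψ hψ, Nat.cast_one])
      have h1 := hfix hxP hψ (⟨v₀, hv₀⟩ : Q)
      rw [← hf] at h1 ⊢
      simp only at h1 ⊢
      have hwe : w = (⟨v₀, hv₀⟩ : Q)⁻¹ * conjOn Q x (hPQ hxP) ⟨v₀, hv₀⟩ := Subtype.ext rfl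
      rw [hwe, map_mul, map_inv, Units.val_mul, h1, ← Units.val_mul, inv_mul_cancel, map_one]
    have h2 : v₀⁻¹ * (x * v₀ * x⁻¹) = 1 := congrArg Subtype.val hw1
    exact mul_inv_eq_iff_eq_mul.1 (inv_mul_eq_one.1 h2).symm
  have hQna : commutator Q ≠ ⊥ := fun hb =>
    hψnl ((H14.GaloisKernel.charDegree_eq_one_iff ψ).2 (hb ▸ bot_le))
  -- the centre is centralized
  set Z := (Subgroup.center Q).map Q.subtype with hZ
  have hZQ : Z ≤ Q := Subgroup.map_subtype_le _
  have hZmem : ∀ {z : G}, z ∈ Z ↔ z ∈ Q ∧ ∀ w ∈ Q, z * w = w * z := by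
    intro z
    constructor
    · rintro ⟨z, hz, rfl⟩
      exact ⟨z.2, fun w hw => (congrArg Subtype.val (Subgroup.mem_center_iff.1 hz ⟨w, hw⟩)).symm⟩
    · rintro ⟨hz, h⟩
      exact ⟨⟨z, hz⟩, Subgroup.mem_center_iff.2 fun w => Subtype.ext (h w w.2).symm, rfl⟩
  have hZlt : Z < Q := by
    refine lt_of_le_of_ne hZQ fun he => hQna ?_
    rw [commutator_eq_closure, Subgroup.closure_eq_bot_iff]
    rintro c ⟨a, b, rfl⟩
    exact commutatorElement_eq_one_iff_mul_comm.2
      (Subtype.ext ((hZmem.1 (show (a : G) ∈ Z by rw [he]; exact a.2)).2 b b.2))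
  have hZfix : ∀ y ∈ P, ∀ z ∈ Z, y * z = z * y :=
    hmin Z hZlt (hnormR Z fun y hy z hz => hZmem.2 ⟨hconjQ hy (hZmem.1 hz).1, fun w hw => by
      have h := (hZmem.1 hz).2 (y⁻¹ * w * y)
        ((Subgroup.mem_normalizer_iff''.1 (hPQ hy) w).1 hw)
      calc y * z * y⁻¹ * w = y * (z * (y⁻¹ * w * y)) * y⁻¹ := by group
        _ = y * (y⁻¹ * w * y * z) * y⁻¹ := by rw [h]
        _ = w * (y * z * y⁻¹) := by group⟩)
  -- the derived subgroup is central
  set D := (commutator Q).map Q.subtype with hD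
  have hDQ : D ≤ Q := Subgroup.map_subtype_le _
  have hDconj : ∀ y ∈ Subgroup.normalizer (Q : Set G), ∀ d ∈ D, y * d * y⁻¹ ∈ D := by
    rintro y hy _ ⟨d, hd, rfl⟩
    refine ⟨conjOn Q y hy d, ?_, rfl⟩
    have h1 : (commutator Q).map (conjOn Q y hy).toMonoidHom = commutator Q := by
      rw [commutator_def, Subgroup.map_commutator,
        Subgroup.map_top_of_surjective _ (conjOn Q y hy).surjective]
    rw [← h1]
    exact Subgroup.mem_map_of_mem _ hd
  have hDlt : D < Q := by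
    refine lt_of_le_of_ne hDQ fun he => ?_
    have htop : commutator Q = ⊤ := by
      rw [Subgroup.eq_top_iff']
      intro w
      obtain ⟨d, hd, hdw⟩ := (show (w : G) ∈ D by rw [he]; exact w.2)
      have : d = w := Subtype.ext hdw
      exact this ▸ hd
    haveI := hQ.isNilpotent
    haveI : Group.IsSolvable Q := inferInstance
    rcases subsingleton_or_nontrivial Q with h | h
    · exact hQna (Subgroup.eq_bot_iff_forall _ |>.2 fun w _ => Subsingleton.elim _ _)
    · exact (IsSolvable.commutator_lt_top_of_nontrivial Q).ne htop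
  have hDfix : ∀ y ∈ P, ∀ d ∈ D, y * d = d * y :=
    hmin D hDlt (hnormR D fun y hy d hd => hDconj y (hPQ hy) d hd)
  have hDZ : D ≤ Z := by
    set R := Q ⊓ Subgroup.centralizer (D : Set G) with hR
    have hRQ : R = Q := by
      refine hbig R inf_le_left (hnormR R fun y hy r hr => Subgroup.mem_inf.2
        ⟨hconjQ hy hr.1, fun d hd => ?_⟩) (fun w hw => Subgroup.mem_inf.2
        ⟨mul_mem (inv_mem hw) (hconjQ hxP hw), fun d hd => ?_⟩)
      · have h1 := hr.2 d hd
        have h2 := hDfix y hy d hd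
        calc d * (y * r * y⁻¹) = (d * y) * r * y⁻¹ := by group
          _ = y * (d * r) * y⁻¹ := by rw [← h2]; group
          _ = y * r * (d * y⁻¹) := by rw [h1]; group
          _ = y * r * y⁻¹ * d := by
            rw [show d * y⁻¹ = y⁻¹ * d by
              rw [eq_comm, inv_mul_eq_iff_eq_mul, ← mul_assoc, h2, mul_inv_cancel_right]]
            group
      · have hwd : w * d * w⁻¹ ∈ D := hDconj w (Subgroup.le_normalizer hw) d hd
        have h1 := hDfix x hxP _ hwd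
        have h2 := hDfix x hxP d hd
        have h3 : x * (w * d * w⁻¹) * x⁻¹ = w * d * w⁻¹ := by rw [h1, mul_inv_cancel_right]
        have h4 : x * d * x⁻¹ = d := by rw [h2, mul_inv_cancel_right]
        have h5 : (x * w * x⁻¹) * d * (x * w * x⁻¹)⁻¹ = w * d * w⁻¹ := by
          conv_lhs => arg 1; arg 2; rw [← h4]
          conv_rhs => rw [← h3]
          group
        calc d * (w⁻¹ * (x * w * x⁻¹)) = w⁻¹ * (w * d * w⁻¹) * (x * w * x⁻¹) := by group
          _ = w⁻¹ * ((x * w * x⁻¹) * d * (x * w * x⁻¹)⁻¹) * (x * w * x⁻¹) := by rw [h5]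
          _ = w⁻¹ * (x * w * x⁻¹) * d := by group
    intro d hd
    refine hZmem.2 ⟨hDQ hd, fun w hw => ?_⟩
    exact (hRQ ▸ hw : w ∈ R).2 d hd
  have hcommZ : ∀ a ∈ Q, ∀ b ∈ Q, ⁅a, b⁆ ∈ Z := fun a ha b hb => hDZ
    ⟨⁅(⟨a, ha⟩ : Q), ⟨b, hb⟩⁆, Subgroup.commutator_mem_commutator (Subgroup.mem_top _)
      (Subgroup.mem_top _), map_commutatorElement Q.subtype _ _⟩
  -- the fixed points are the centre
  have hcent : ∀ f ∈ Q, x * f = f * x → f ∈ Z := by
    intro f hf hfx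
    set F := Q ⊓ Subgroup.centralizer ({x} : Set G) with hF
    have hFfix : ∀ y ∈ P, ∀ r ∈ F, y * r = r * y := by
      refine hmin F (lt_of_le_of_ne inf_le_left fun he => hne ?_) (hnormR F fun y hy r hr =>
        Subgroup.mem_inf.2 ⟨hconjQ hy hr.1, ?_⟩)
      · exact (Subgroup.mem_centralizer_singleton_iff.1 (he ▸ hv₀ : v₀ ∈ F).2).symm
      · rw [Subgroup.mem_centralizer_singleton_iff]
        have h1 := Subgroup.mem_centralizer_singleton_iff.1 hr.2
        calc y * r * y⁻¹ * x = y * r * (y⁻¹ * x) := by group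
          _ = y * r * (x * y⁻¹) := by rw [hPab y⁻¹ (inv_mem hy) x hxP]
          _ = y * (r * x) * y⁻¹ := by group
          _ = (y * x) * r * y⁻¹ := by rw [h1]; group
          _ = x * (y * r * y⁻¹) := by rw [hPab y hy x hxP]; group
    have hfF : f ∈ F := ⟨hf, Subgroup.mem_centralizer_singleton_iff.2 hfx.symm⟩
    set R := Q ⊓ Subgroup.centralizer ({f} : Set G) with hR
    have hRQ : R = Q := by
      refine hbig R inf_le_left (hnormR R fun y hy r hr => Subgroup.mem_inf.2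
        ⟨hconjQ hy hr.1, ?_⟩) (fun w hw => Subgroup.mem_inf.2
        ⟨mul_mem (inv_mem hw) (hconjQ hxP hw), ?_⟩)
      · rw [Subgroup.mem_centralizer_singleton_iff]
        have h1 := Subgroup.mem_centralizer_singleton_iff.1 hr.2
        have h2 := hFfix y hy f hfF
        have h2' : y * f * y⁻¹ = f := by rw [h2, mul_inv_cancel_right]
        calc y * r * y⁻¹ * f = y * r * y⁻¹ * (y * f * y⁻¹) := by rw [h2']
          _ = y * (r * f) * y⁻¹ := by group
          _ = y * f * y⁻¹ * (y * r * y⁻¹) := by rw [h1]; group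
          _ = f * (y * r * y⁻¹) := by rw [h2']
      · rw [Subgroup.mem_centralizer_singleton_iff]
        have hc := hcommZ w hw f hf
        have h1 := hZfix x hxP _ hc
        have h1' : x * ⁅w, f⁆ * x⁻¹ = ⁅w, f⁆ := by rw [h1, mul_inv_cancel_right]
        have h2' : x * f * x⁻¹ = f := by rw [hfx, mul_inv_cancel_right]
        have h3 : ⁅x * w * x⁻¹, f⁆ = ⁅w, f⁆ := by
          conv_lhs => rw [← h2']
          rw [← conjugate_commutatorElement, h1']
        simp only [commutatorElement_def] at h3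
        have h3' : (x * w * x⁻¹) * f * (x * w * x⁻¹)⁻¹ = w * f * w⁻¹ := mul_right_cancel h3
        calc w⁻¹ * (x * w * x⁻¹) * f
            = w⁻¹ * ((x * w * x⁻¹) * f * (x * w * x⁻¹)⁻¹) * (x * w * x⁻¹) := by group
          _ = w⁻¹ * (w * f * w⁻¹) * (x * w * x⁻¹) := by rw [h3']
          _ = f * (w⁻¹ * (x * w * x⁻¹)) := by group
    exact hZmem.2 ⟨hf, fun w hw =>
      (Subgroup.mem_centralizer_singleton_iff.1 (hRQ ▸ hw : w ∈ R).2).symm⟩
  -- the constituent vanishes outside the centre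
  obtain ⟨ω, hω⟩ := H17.exists_central_char ψ.2 (Subgroup.center Q) le_rfl
  have hCmem : ∀ {w : Q}, w ∈ Subgroup.center Q ↔ (w : G) ∈ Z := fun {w} =>
    ⟨fun h => ⟨w, h, rfl⟩, fun ⟨w', hw', he⟩ => (Subtype.ext he : w' = w) ▸ hw'⟩
  have hcc : ∀ a b : Q, ⁅a, b⁆ ∈ Subgroup.center Q := fun a b => hCmem.2 (by
    rw [show ((⁅a, b⁆ : Q) : G) = ⁅(a : G), (b : G)⁆ from map_commutatorElement Q.subtype a b]
    exact hcommZ a a.2 b b.2)
  have hvan : ∀ w : Q, w ∉ Subgroup.center Q → (ψ : Q → ℂ) w = 0 := by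
    intro w hw
    by_contra h0
    have hω1 : ∀ b : Q, (ω ⟨⁅b, w⁆, hcc b w⟩ : ℂ) = 1 := by
      intro b
      have h1 := hω ⟨⁅b, w⁆, hcc b w⟩ w
      rw [show (⁅b, w⁆ : Q) * w = b * w * b⁻¹ by rw [commutatorElement_def]; group,
        H12.irr_isClassFunction ψ w b] at h1
      exact mul_right_cancel₀ h0 (h1.symm.trans (one_mul _).symm)
    -- the elements whose commutators lie in the kernel
    let Y : Subgroup G :=
      { carrier := {g | ∃ hg : g ∈ Q, ∀ b : Q, (ω ⟨⁅b, ⟨g, hg⟩⁆, hcc b _⟩ : ℂ) = 1}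
        one_mem' := ⟨one_mem _, fun b => by
          rw [show (⟨⁅b, (⟨1, one_mem Q⟩ : Q)⁆, hcc b _⟩ : Subgroup.center Q) = 1 from
            Subtype.ext (commutatorElement_one_right b), map_one, Units.val_one]⟩
        mul_mem' := by
          rintro g g' ⟨hg, h⟩ ⟨hg', h'⟩
          refine ⟨mul_mem hg hg', fun b => ?_⟩
          have hc := Subgroup.mem_center_iff.1 (hcc b ⟨g', hg'⟩)
          have he : ⁅b, (⟨g * g', mul_mem hg hg'⟩ : Q)⁆ = ⁅b, ⟨g, hg⟩⁆ * ⁅b, ⟨g', hg'⟩⁆ := by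
            calc ⁅b, (⟨g * g', mul_mem hg hg'⟩ : Q)⁆
                = ⁅b, (⟨g, hg⟩ : Q)⁆ * ((⟨g, hg⟩ : Q) * ⁅b, ⟨g', hg'⟩⁆ * (⟨g, hg⟩ : Q)⁻¹) := by
                  rw [show (⟨g * g', mul_mem hg hg'⟩ : Q) = ⟨g, hg⟩ * ⟨g', hg'⟩ from rfl]
                  simp only [commutatorElement_def]; group
              _ = _ := by rw [hc, mul_inv_cancel_right]
          rw [show (⟨⁅b, (⟨g * g', mul_mem hg hg'⟩ : Q)⁆, hcc b _⟩ : Subgroup.center Q) =
            ⟨⁅b, ⟨g, hg⟩⁆, hcc b _⟩ * ⟨⁅b, ⟨g', hg'⟩⁆, hcc b _⟩ from Subtype.ext he,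
            map_mul, Units.val_mul, h b, h' b, one_mul]
        inv_mem' := by
          rintro g ⟨hg, h⟩
          refine ⟨inv_mem hg, fun b => ?_⟩
          have hc := Subgroup.mem_center_iff.1 (hcc b ⟨g, hg⟩)
          have he : ⁅b, (⟨g⁻¹, inv_mem hg⟩ : Q)⁆ = ⁅b, ⟨g, hg⟩⁆⁻¹ := by
            rw [show (⟨g⁻¹, inv_mem hg⟩ : Q) = (⟨g, hg⟩ : Q)⁻¹ from rfl]
            rw [eq_inv_iff_mul_eq_one]
            calc ⁅b, (⟨g, hg⟩ : Q)⁻¹⁆ * ⁅b, ⟨g, hg⟩⁆
                = ⁅b, (⟨g, hg⟩ : Q)⁻¹⁆ * ((⟨g, hg⟩ : Q)⁻¹ * ⁅b, ⟨g, hg⟩⁆ *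
                    ((⟨g, hg⟩ : Q)⁻¹)⁻¹) := by rw [hc ((⟨g, hg⟩ : Q)⁻¹), mul_inv_cancel_right]
              _ = 1 := by simp only [commutatorElement_def]; group
          rw [show (⟨⁅b, (⟨g⁻¹, inv_mem hg⟩ : Q)⁆, hcc b _⟩ : Subgroup.center Q) =
            ⟨⁅b, ⟨g, hg⟩⁆, hcc b _⟩⁻¹ from Subtype.ext he, map_inv, Units.val_inv_eq_inv_val,
            h b, inv_one] }
    have hYQ : Y ≤ Q := fun g hg => hg.choose
    rcases eq_or_lt_of_le hYQ with hY | hY
    · apply hψnl
      rw [H14.GaloisKernel.charDegree_eq_one_iff, commutator_eq_closure, Subgroup.closure_le]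
      rintro c ⟨a, b, rfl⟩
      obtain ⟨hb, h⟩ := (show (b : G) ∈ Y by rw [hY]; exact b.2)
      refine H24.mem_kerChar.2 ?_
      have h1 := hω ⟨⁅a, b⁆, hcc a b⟩ 1
      rw [mul_one] at h1
      rw [h1, h a, one_mul]
    · have hYfix := hmin Y hY (hnormR Y fun y hy g hg => by
        obtain ⟨hgQ, h⟩ := hg
        refine ⟨hconjQ hy hgQ, fun b => ?_⟩
        set σ := conjOn Q y (hPQ hy)
        have h1 := h (σ.symm b)
        have he : ⁅b, (⟨y * g * y⁻¹, hconjQ hy hgQ⟩ : Q)⁆ = ⁅σ.symm b, ⟨g, hgQ⟩⁆ := by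
          have h2 : σ ⁅σ.symm b, ⟨g, hgQ⟩⁆ = ⁅b, (⟨y * g * y⁻¹, hconjQ hy hgQ⟩ : Q)⁆ := by
            rw [map_commutatorElement, MulEquiv.apply_symm_apply]; rfl
          rw [← h2]
          refine Subtype.ext ?_
          rw [conjOn_apply, hZfix y hy _ (hCmem.1 (hcc _ _)), mul_inv_cancel_right]
        rw [show (⟨⁅b, (⟨y * g * y⁻¹, hconjQ hy hgQ⟩ : Q)⁆, hcc b _⟩ : Subgroup.center Q) =
          ⟨⁅σ.symm b, ⟨g, hgQ⟩⁆, hcc _ _⟩ from Subtype.ext he]
        exact h1)
      exact hw (hCmem.2 (hcent w w.2 (hYfix x hxP w ⟨w.2, hω1⟩)))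
  -- counting the fixed points
  have hsq := (H14.GaloisKernel.card_center_mul_sq_le ψ).2 hvan
  obtain ⟨k, hk⟩ := hpow hxP
  set σ := conjOn Q x (hPQ hxP) with hσ
  have hσk : σ ^ p ^ k = 1 := by
    have hit : ∀ (i : ℕ) (w : Q), ((σ ^ i) w : G) = x ^ i * w * (x ^ i)⁻¹ := by
      intro i
      induction i with
      | zero => intro w; rw [pow_zero, MulAut.one_apply]; simp
      | succ i ih =>
        intro w
        rw [pow_succ' σ, MulAut.mul_apply, hσ, conjOn_apply, ← hσ, ih, pow_succ']; group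
    ext w
    rw [hit, hk]; simp
  have hT : IsPGroup p (Subgroup.zpowers σ) := by
    obtain ⟨j, -, hj⟩ := (Nat.dvd_prime_pow hp).1 (orderOf_dvd_of_pow_eq_one hσk)
    exact IsPGroup.of_card (n := j) (by rw [Nat.card_zpowers, hj])
  have hmod := hT.card_modEq_card_fixedPoints Q
  have hfixeq : MulAction.fixedPoints (Subgroup.zpowers σ) Q =
      (Subgroup.center Q : Set Q) := by
    ext w
    constructor
    · intro hw
      refine hCmem.2 (hcent w w.2 ?_)
      have h1 : (σ w : G) = w := congrArg Subtype.val (hw ⟨σ, Subgroup.mem_zpowers σ⟩)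
      rw [hσ, conjOn_apply] at h1
      exact mul_inv_eq_iff_eq_mul.1 h1
    · intro hw
      rintro ⟨t, ht⟩
      have hst : σ ∈ MulAction.stabilizer (MulAut Q) w := by
        show σ w = w
        refine Subtype.ext ?_
        rw [hσ, conjOn_apply, hZfix x hxP _ (hCmem.1 hw), mul_inv_cancel_right]
      exact Subgroup.zpowers_le.2 hst ht
  rw [hfixeq, ← hsq] at hmod
  have hd : Nat.ModEq p (charDegree (ψ : Q → ℂ) ^ 2) 1 := by
    have hcop : Nat.Coprime p (Nat.card (Subgroup.center Q)) := by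
      obtain ⟨j, hj⟩ := IsPGroup.iff_card.1 (hQ.to_subgroup (Subgroup.center Q))
      rw [hj]
      exact Nat.Coprime.pow_right j ((Nat.coprime_primes hp hq).2 hpq)
    refine Nat.ModEq.cancel_left_of_coprime (c := Nat.card (Subgroup.center Q)) hcop ?_
    rw [mul_one]
    exact hmod
  have hdle : charDegree (ψ : Q → ℂ) ≤ n := by
    have h1 := congrFun hm 1
    simp only [OneMemClass.coe_one, hn, Finset.sum_apply, Pi.smul_apply, smul_eq_mul,
      H24.irr_one, ← Nat.cast_mul, ← Nat.cast_sum, Nat.cast_inj] at h1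
    rw [h1]
    exact le_trans (Nat.le_mul_of_pos_left _ (Nat.pos_of_ne_zero hψm))
      (Finset.single_le_sum (f := fun φ => m φ * charDegree (φ : Q → ℂ))
        (fun _ _ => Nat.zero_le _) (Finset.mem_univ ψ))
  have hd1 := H24.irr_pos ψ
  set d := charDegree (ψ : Q → ℂ)
  have hdvd : p ∣ (d + 1) * (d - 1) := by
    have h2 := (Nat.modEq_iff_dvd' (Nat.one_le_pow _ _ hd1)).1 hd.symm
    rwa [← one_pow 2, Nat.sq_sub_sq] at h2
  rcases (Nat.Prime.dvd_mul hp).1 hdvd with h | h <;> have := Nat.le_of_dvd (by omega) h <;> omega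

end H14.SmallDegree
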