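import Cfsg.Agent.H14.SqGen
import Cfsg.Agent.H54.ChevSylow
import Cfsg.Prelude.Def_LieTypeChar

/-!
Split groups in characteristic `2`: the Sylow `2`-subgroup is generated by root involutions.
-/

set_option autoImplicit false

namespace H14.Sq

open Cfsg.Lie

theorem good_chev {D : ChevalleyDatum}
    (hD : D ∈ [chevG2, chevB2, chevD4, chevF4, chevE6, chevE7, chevE8])
    (F : Type*) [Field F] [Fintype F] [CharP F 2] : Good ↥(D.group F) := by
  obtain ⟨C⟩ := H54.exists_ctx hD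
  haveI : Fact (Nat.Prime 2) := ⟨Nat.prime_two⟩
  obtain ⟨P, hP⟩ := C.exists_sylow (F := F) 2
  refine ⟨P, P.isPGroup', P.not_dvd_index, ?_⟩
  rw [hP]
  refine gen_subgroupOf C.pos_le_group (gen_of_involutions ?_)
  refine (Subgroup.closure_le _).2 ?_
  intro g hg
  refine Subgroup.subset_closure ⟨Subgroup.subset_closure hg, ?_⟩
  obtain ⟨r, t, hr, hg⟩ := hg
  rw [C.hC.eq_rt hg, pow_two, C.hC.rt_mul, CharTwo.add_self_eq_zero, C.hC.rt_zero]

theorem good_exceptional {G : Type*} [Group G] (h : Cfsg.IsExceptionalChevChar 2 G) : Good G := by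
  obtain ⟨F, _, _, _, ⟨_, ⟨e⟩⟩ | ⟨⟨e⟩⟩ | ⟨⟨e⟩⟩ | ⟨⟨e⟩⟩ | ⟨⟨e⟩⟩⟩ := h <;>
    exact (good_chev (by simp) F).congr e.symm

end H14.Sq
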