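import Cfsg.Agent.H14.SqSuz
import Cfsg.Agent.H52.F4Order
import Cfsg.Agent.H53.TwistF4Res

/-!
`²F₄(q)`: squares in a Sylow `2`-subgroup lie in the derived subgroup.
-/

set_option autoImplicit false
set_option linter.unusedSectionVars false
set_option linter.style.haveILetI false

open scoped commutatorElement

namespace H14.Sq

open Cfsg.Lie H52 H53 H53.F4T

/-! ### The generic step -/

section

variable {G ι R κ : Type*} [Group G] [Fintype R] {T : TwistData G ι R κ}

/-- If the fixed elements of each fundamental piece are generated by elements with square in the derived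
subgroup, then so are the fixed elements of every `U_π`. -/
theorem mem_closure_fix_Uinv (hT : T.Hyp)
    (hbase : ∀ k, ∀ q ∈ T.S.Uinv (T.w k), T.τ q = q → q ∈ Subgroup.closure
      {s | ∃ W : Subgroup G, W ≤ T.S.Uinv (T.w k) ⊓ T.G1 ∧ s ∈ W ∧ s ^ 2 ∈ ⁅W, W⁆})
    {x : G} {π : Equiv.Perm R} (hx : x ∈ T.S.N) (hπ : T.S.Acts x π) (hxf : T.τ x = x)
    {u : G} (hu : u ∈ T.S.Uinv π) (huf : T.τ u = u) :
    u ∈ Subgroup.closure {s | ∃ W : Subgroup G, W ≤ T.S.Uinv π ⊓ T.G1 ∧ s ∈ W ∧ s ^ 2 ∈ ⁅W, W⁆} := by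
  induction hn : TwistData.len T π using Nat.strong_induction_on generalizing x π u with
  | _ n ih =>
    by_cases hex : ∃ r, T.S.pos r ∧ ¬ T.S.pos (π r)
    swap
    · have : T.S.Uinv π = ⊥ := by
        rw [RootGroupSys.Uinv, Subgroup.closure_eq_bot_iff]
        rintro g ⟨r, h1, h2, -⟩
        exact absurd ⟨r, h1, h2⟩ hex
      rw [this, Subgroup.mem_bot] at hu
      rw [hu]; exact one_mem _
    obtain ⟨k, hk⟩ := TwistData.descentK hT hπ.1 (TwistData.comm_of_fix hT hx hπ hxf) hex
    obtain ⟨p', hp', hpf, q, hq, hqf, rfl⟩ := TwistData.step_down hT hx hπ hxf hk hu huf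
    have h1 := TwistData.len_div hT hπ.1 hk
    have h2 := TwistData.card_P_pos hT k
    have hm := hT.m_G1 k
    have hact : T.S.Acts (x * (T.m k)⁻¹) (π * T.w k) := by
      have := RootGroupSys.acts_mul hπ (RootGroupSys.acts_inv (hT.m_acts k))
      rwa [TwistData.w_inv hT] at this
    have hrec := ih (TwistData.len T (π * T.w k)) (by omega) (mul_mem hx (inv_mem (hT.m_N k))) hact
      (by rw [map_mul, map_inv, hxf, hT.G1_fix _ hm]) hp' hpf rfl
    refine mul_mem ?_ (Subgroup.closure_mono ?_ (hbase k q hq hqf))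
    · have h3 := Subgroup.mem_map_of_mem (MulAut.conj (T.m k)⁻¹).toMonoidHom hrec
      rw [MonoidHom.map_closure] at h3
      have h4 : (T.m k)⁻¹ * p' * T.m k = (MulAut.conj (T.m k)⁻¹).toMonoidHom p' := by simp
      rw [h4]
      refine Subgroup.closure_mono ?_ h3
      rintro _ ⟨s, ⟨W, hW, hsW, hs2⟩, rfl⟩
      refine ⟨W.map (MulAut.conj (T.m k)⁻¹).toMonoidHom, ?_, Subgroup.mem_map_of_mem _ hsW, ?_⟩
      · rintro _ ⟨w, hw, rfl⟩
        have h5 := Subgroup.mem_inf.1 (hW hw)
        refine Subgroup.mem_inf.2 ⟨?_, ?_⟩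
        · simpa using TwistData.conj_w_Uinv hT hπ.1 hk h5.1
        · simpa using mul_mem (mul_mem (inv_mem hm) h5.2) hm
      · rw [← map_pow, ← Subgroup.map_commutator]
        exact Subgroup.mem_map_of_mem _ hs2
    · rintro s ⟨W, hW, hs⟩
      refine ⟨W, hW.trans (inf_le_inf_right _ ?_), hs⟩
      refine Subgroup.closure_mono ?_
      rintro g ⟨r, hr, hn', hg⟩
      exact ⟨r, hr, hk r ⟨hr, hn'⟩, hg⟩

theorem gen_Uplus_G1 (hT : T.Hyp)
    (hbase : ∀ k, ∀ q ∈ T.S.Uinv (T.w k), T.τ q = q → q ∈ Subgroup.closure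
      {s | ∃ W : Subgroup G, W ≤ T.S.Uinv (T.w k) ⊓ T.G1 ∧ s ∈ W ∧ s ^ 2 ∈ ⁅W, W⁆}) :
    Gen (T.S.Uplus ⊓ T.G1) := by
  obtain ⟨x, hxN, hxG, π, hπ, hall⟩ := TwistData.exists_longest hT
  refine gen_of_closure (S := {s | ∃ W : Subgroup G, W ≤ T.S.Uinv π ⊓ T.G1 ∧ s ∈ W ∧ s ^ 2 ∈ ⁅W, W⁆})
    (fun u hu => ?_) ?_
  · obtain ⟨hu1, hu2⟩ := Subgroup.mem_inf.1 hu
    exact mem_closure_fix_Uinv hT hbase hxN hπ (hT.G1_fix _ hxG) (TwistData.Uplus_le_Uinv hall hu1)
      (hT.G1_fix _ hu2)
  · rintro s ⟨W, hW, hs⟩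
    exact ⟨W, hW.trans (inf_le_inf_right _ (RootGroupSys.Uinv_le_Uplus π)), hs⟩

end

/-! ### The class of type `B₂` -/

variable {K : Type*} [Field K]

theorem char2_commute (h2 : (2 : K) = 0) {a b : ℕ} (h : (a, b) ∈ [(27, 28), (27, 30), (25, 28), (25, 30)])
    (x y : K) : Commute (rt chevF4 a x) (rt chevF4 b y) := by
  have key : ∀ (a b : ℕ), a < chevF4.nroots → b < chevF4.nroots → b ≠ a → b ≠ chevF4.neg a →
      wordRt chevF4 (chevF4.commWord K a b x y) = 1 → Commute (rt chevF4 a x) (rt chevF4 b y) := by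
    intro a b ha hb h1 h1' hw
    have := checkedF4.comm_rt ha hb h1 h1' x y
    rw [hw, mul_one] at this
    exact this.symm
  simp only [List.mem_cons, Prod.mk.injEq, List.not_mem_nil, or_false] at h
  rcases h with ⟨rfl, rfl⟩ | ⟨rfl, rfl⟩ | ⟨rfl, rfl⟩ | ⟨rfl, rfl⟩
  · refine key 27 28 (by decide +kernel) (by decide +kernel) (by decide) (by decide +kernel) ?_
    rw [ChevalleyDatum.commWord, show chevF4.commTerms 27 28 = [(30, 2, 1, 1)] by decide +kernel]
    simp [wordRt, h2, checkedF4.rt_zero]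
  · refine key 27 30 (by decide +kernel) (by decide +kernel) (by decide) (by decide +kernel) ?_
    rw [ChevalleyDatum.commWord, show chevF4.commTerms 27 30 = [] by decide +kernel]
    simp [wordRt]
  · refine key 25 28 (by decide +kernel) (by decide +kernel) (by decide) (by decide +kernel) ?_
    rw [ChevalleyDatum.commWord, show chevF4.commTerms 25 28 = [] by decide +kernel]
    simp [wordRt]
  · refine key 25 30 (by decide +kernel) (by decide +kernel) (by decide) (by decide +kernel) ?_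
    rw [ChevalleyDatum.commWord, show chevF4.commTerms 25 30 = [] by decide +kernel]
    simp [wordRt]

theorem swap_mid {H : Type*} [Group H] {a b c d : H} (h : Commute b c) : a * b * c * d = a * c * b * d := by
  rw [mul_assoc a b c, h.eq, ← mul_assoc a c b]

theorem yWord_mul (h2 : (2 : K) = 0) (s p c d s' p' c' d' : K) :
    yWord (27, 25, 28, 30) s p c d * yWord (27, 25, 28, 30) s' p' c' d' =
      yWord (27, 25, 28, 30) (s + s') (p + p') (c + c' + s' * p) (d + d' + s' ^ 2 * p) := by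
  have c1 := fun x y => char2_commute h2 (a := 27) (b := 28) (by simp) x y
  have c2 := fun x y => char2_commute h2 (a := 27) (b := 30) (by simp) x y
  have c3 := fun x y => char2_commute h2 (a := 25) (b := 28) (by simp) x y
  have c4 := fun x y => char2_commute h2 (a := 25) (b := 30) (by simp) x y
  obtain ⟨h3, h4, h5, h6, h7⟩ := comm_pairs (28, 30) (by simp)
  have c5 : ∀ x y : K, Commute (rt chevF4 28 x) (rt chevF4 30 y) := fun x y =>
    H53.rt_commute checkedF4 h3 h4 h5 h6 h7 x y
  have hswap : rt chevF4 25 p * rt chevF4 27 s' =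
      rt chevF4 27 s' * rt chevF4 25 p * (rt chevF4 28 (s' * p) * rt chevF4 30 (s' ^ 2 * p)) := by
    have := y_swap h2 (z := (27, 25, 28, 30)) (by simp) s' p 0 0
    simpa [yWord, checkedF4.rt_zero, mul_assoc] using this
  set Z := fun u v : K => rt chevF4 28 u * rt chevF4 30 v with hZ
  have hZA : ∀ u v x, Commute (Z u v) (rt chevF4 27 x) := fun u v x =>
    ((c1 x u).symm).mul_left (c2 x v).symm
  have hZB : ∀ u v x, Commute (Z u v) (rt chevF4 25 x) := fun u v x =>
    ((c3 x u).symm).mul_left (c4 x v).symm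
  have hZZ : ∀ u v u' v', Z u v * Z u' v' = Z (u + u') (v + v') := fun u v u' v' => by
    simp only [hZ]
    rw [← mul_assoc, swap_mid (c5 u' v).symm, checkedF4.rt_mul, mul_assoc, checkedF4.rt_mul]
  show rt chevF4 27 s * rt chevF4 25 p * rt chevF4 28 c * rt chevF4 30 d *
    (rt chevF4 27 s' * rt chevF4 25 p' * rt chevF4 28 c' * rt chevF4 30 d') = _
  calc rt chevF4 27 s * rt chevF4 25 p * rt chevF4 28 c * rt chevF4 30 d *
        (rt chevF4 27 s' * rt chevF4 25 p' * rt chevF4 28 c' * rt chevF4 30 d')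
      = rt chevF4 27 s * rt chevF4 25 p * (Z c d * rt chevF4 27 s') * rt chevF4 25 p' * Z c' d' := by
        simp only [hZ, mul_assoc]
    _ = rt chevF4 27 s * (rt chevF4 25 p * rt chevF4 27 s') * (Z c d * rt chevF4 25 p') * Z c' d' := by
        rw [(hZA c d s').eq]; simp only [mul_assoc]
    _ = (rt chevF4 27 s * rt chevF4 27 s') * rt chevF4 25 p * (Z (s' * p) (s' ^ 2 * p) * rt chevF4 25 p') *
          (Z c d * Z c' d') := by
        rw [hswap, (hZB c d p').eq]; simp only [hZ, mul_assoc]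
    _ = rt chevF4 27 (s + s') * (rt chevF4 25 p * rt chevF4 25 p') *
          (Z (s' * p) (s' ^ 2 * p) * (Z c d * Z c' d')) := by
        rw [(hZB _ _ p').eq, checkedF4.rt_mul]; simp only [mul_assoc]
    _ = _ := by
        rw [checkedF4.rt_mul, hZZ, hZZ, show s' * p + (c + c') = c + c' + s' * p by ring,
          show s' ^ 2 * p + (d + d') = d + d' + s' ^ 2 * p by ring]
        simp only [hZ, yWord, ← mul_assoc]

theorem good_f4 {G : Type*} [Group G] (h : Cfsg.Lie.Iso2F4 G) : Good G := by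
  obtain ⟨K, _, _, m, hm, hK, ⟨iso⟩⟩ := h
  refine Good.congr iso.symm ?_
  haveI : Fact (Nat.Prime 2) := ⟨Nat.prime_two⟩
  obtain ⟨he, hperf, hc, f, hf⟩ := exists_params hK
  have h2 := two_eq hK
  have hT := hyp h2 (hperf := hperf) (hc := hc) hf he
  set T := twistData weylForF4 spec (tau hperf hc f)
      ((twistedF4 K (2 ^ m)).subgroupOf (chevF4.group K)) (mk K) with hTdef
  set e := 2 ^ m with hedef
  have he1 : 1 < e := Nat.one_lt_two_pow (by omega)
  -- base step
  have hbase : ∀ k, ∀ q ∈ T.S.Uinv (T.w k), T.τ q = q → q ∈ Subgroup.closure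
      {s | ∃ W : Subgroup ↥(chevF4.group K), W ≤ T.S.Uinv (T.w k) ⊓ T.G1 ∧ s ∈ W ∧ s ^ 2 ∈ ⁅W, W⁆} := by
    intro k q hq hqf
    set W := T.S.Uinv (T.w k) ⊓ T.G1 with hW
    have hqW : q ∈ W := Subgroup.mem_inf.2 ⟨hq, hT.UJ k q hq hqf⟩
    refine Subgroup.subset_closure ⟨W, le_rfl, hqW, ?_⟩
    fin_cases k
    · obtain ⟨t, ht⟩ := exists_listWord_Uinv checkedF4 weylForF4 ok spec (pk_closed 0) (pk_mem 0) hq
      have hq2 : q ^ 2 = 1 := by
        refine Subtype.ext ?_
        have ht' : (q : GL chevF4.Idx K) = rt chevF4 33 (t 33) * rt chevF4 24 (t 24) := by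
          rw [ht, show pk 0 = [24, 33] from rfl, listWord_cons, listWord_cons, listWord_nil, mul_one,
            (pair_comm (a := 33) (b := 24) (by simp) (t 33) (t 24)).eq]
        show (q : GL chevF4.Idx K) ^ 2 = 1
        rw [ht', (pair_comm (a := 33) (b := 24) (by simp) (t 33) (t 24)).mul_pow, pow_two, pow_two,
          checkedF4.rt_mul, checkedF4.rt_mul]
        have hz : ∀ x : K, x + x = 0 := fun x => by linear_combination x * h2
        rw [hz, hz, checkedF4.rt_zero, checkedF4.rt_zero, one_mul]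
      rw [hq2]; exact one_mem _
    · choose u hu hv using fun tu : K × K => listWord_mem_Uinv checkedF4 weylForF4 ok spec (pk_PW 1)
        (fun r => if r = 25 then tu.1 else if r = 27 then tu.1 ^ e
          else if r = 28 then tu.1 ^ (e + 1) + tu.2 + tu.1 ^ e * tu.1
          else tu.2 ^ (2 * e) + (tu.1 ^ e) ^ 2 * tu.1)
      have hs : ∀ tu : K × K, (u tu : GL chevF4.Idx K) =
          yWord (27, 25, 28, 30) (tu.1 ^ e) tu.1 (tu.1 ^ (e + 1) + tu.2) (tu.2 ^ (2 * e)) := by
        intro tu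
        rw [hv, yWord_eq_listWord h2]
        rfl
      have hmem : ∀ tu, u tu ∈ W := fun tu => Subgroup.mem_inf.2 ⟨hu tu, by
        show (u tu : GL chevF4.Idx K) ∈ twistedF4 K e
        rw [hs]; exact class_mem e (by simp) _ _⟩
      have hz : ∀ x : K, x + x = 0 := fun x => by linear_combination x * h2
      have hadd : ∀ x y : K, (x + y) ^ (2 * e) = x ^ (2 * e) + y ^ (2 * e) := fun x y => by
        have hpow : 2 * e = 2 ^ (m + 1) := by rw [hedef, pow_succ]; ring
        haveI : CharP K 2 := (CharP.charP_iff_prime_eq_zero Nat.prime_two).2 (by simpa using h2)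
        rw [hpow, add_pow_char_pow]
      have h0 : (0 : K) ^ e = 0 := zero_pow (by omega)
      have h01 : (0 : K) ^ (e + 1) = 0 := zero_pow (by omega)
      have hmul : ∀ z w : K, u (0, z) * u (0, w) = u (0, z + w) := fun z w => by
        refine Subtype.ext ?_
        rw [Subgroup.coe_mul, hs, hs, hs, yWord_mul h2]
        simp [h0, h01, hadd]
      have hone : u (0, 0) = 1 := mul_left_cancel (a := u (0, 0)) (by rw [hmul, add_zero, mul_one])
      let A : AddSubgroup K :=
        { carrier := {z | u (0, z) ∈ ⁅W, W⁆}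
          zero_mem' := by show u (0, 0) ∈ ⁅W, W⁆; rw [hone]; exact one_mem _
          add_mem' := by
            intro a b (ha : u (0, a) ∈ ⁅W, W⁆) (hb : u (0, b) ∈ ⁅W, W⁆)
            show u (0, a + b) ∈ ⁅W, W⁆
            rw [← hmul]; exact mul_mem ha hb
          neg_mem' := by
            intro a (ha : u (0, a) ∈ ⁅W, W⁆)
            show u (0, -a) ∈ ⁅W, W⁆
            rwa [show -a = a by linear_combination (-a) * h2] }
      have hpe : ∀ x : K, ((x ^ e) ^ e) ^ 2 = x := pow_e_e_two he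
      have hA : ∀ t s : K, t ^ e * s + s ^ e * t ∈ A := by
        intro t s
        show u (0, t ^ e * s + s ^ e * t) ∈ ⁅W, W⁆
        have h1 : u (t, 0) * u (s, 0) = u (0, t ^ e * s + s ^ e * t) * (u (s, 0) * u (t, 0)) := by
          refine Subtype.ext ?_
          simp only [Subgroup.coe_mul, hs, yWord_mul h2]
          have e1 : (t ^ e * s + s ^ e * t) ^ (2 * e) = t * (s ^ e) ^ 2 + s * (t ^ e) ^ 2 := by
            rw [hadd, mul_pow, mul_pow, pow_mul', pow_mul', pow_mul', pow_mul', hpe, hpe]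
          simp only [h0, h01, zero_add, add_zero, mul_zero, zero_pow (two_ne_zero), e1,
            zero_pow (show 2 * e ≠ 0 by omega)]
          congr 1 <;> first | ring | skip
          · linear_combination (-(t ^ e * s)) * h2
          · linear_combination (-(s * (t ^ e) ^ 2)) * h2
        have h3 : ⁅u (t, 0), u (s, 0)⁆ = u (0, t ^ e * s + s ^ e * t) := by
          rw [commutatorElement_def, h1]; group
        rw [← h3]
        exact Subgroup.commutator_mem_commutator (hmem _) (hmem _)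
      obtain ⟨t, x, htx⟩ := fixed_class h2 hf he hq hqf
      have hqu : q ^ 2 = u (0, t ^ (e + 1)) := by
        refine Subtype.ext ?_
        rw [pow_two, Subgroup.coe_mul, htx, hs, yWord_mul h2]
        simp only [h0, h01, hz, zero_add, add_zero]
        congr 1
        · rw [pow_succ t e]
        · rw [pow_succ t e, mul_pow, pow_mul' (t ^ e), pow_mul' t, hpe, mul_comm]
      rw [hqu]
      refine mem_of_twist (e := e) he1 ?_ ?_ h2 A hA _
      · rw [hK]; exact Nat.pow_lt_pow_right (by omega) (by omega)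
      · intro l hl
        refine ⟨(l⁻¹) ^ (2 * (e - 1)), ?_⟩
        have hN : 2 * (e - 1) * (e + 1) + 1 = Fintype.card K - 1 := by
          rw [hK]
          have h1 : e * e * 2 = 2 ^ (2 * m + 1) := by
            rw [hedef, ← pow_add, ← pow_succ]; congr 1; omega
          have h3 : 1 ≤ 2 ^ (2 * m + 1) := Nat.one_le_two_pow
          have h4 : 1 ≤ e := by omega
          zify [h3, h4] at h1 ⊢
          linear_combination h1
        have h5 := FiniteField.pow_card_sub_one_eq_one l⁻¹ (inv_ne_zero hl)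
        rw [← hN, pow_succ] at h5
        rw [← pow_mul]
        exact (eq_inv_of_mul_eq_one_left h5).trans (inv_inv l)
  have hgen := gen_Uplus_G1 hT hbase
  -- transport into the twisted group
  have hmap : chevF4.posUnipotent K ⊓ twistedF4 K e =
      (T.S.Uplus ⊓ T.G1).map (chevF4.group K).subtype := by
    show _ = ((grpSys weylForF4 K).Uplus ⊓ (twistedF4 K e).subgroupOf (chevF4.group K)).map _
    rw [Subgroup.map_inf _ _ _ Subtype.val_injective, map_Uplus checkedF4 weylForF4, Subgroup.subgroupOf,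
      Subgroup.map_comap_eq, Subgroup.range_subtype, inf_eq_right.2 (twisted_le e)]
  set U := (chevF4.posUnipotent K ⊓ twistedF4 K e).subgroupOf (twistedF4 K e) with hU
  have hcard : Nat.card U = (2 ^ (2 * m + 1)) ^ 12 := by
    rw [hU, Nat.card_congr (Subgroup.subgroupOfEquivOfLe inf_le_right).toEquiv, card_U hK]
  refine ⟨U, IsPGroup.of_card (n := (2 * m + 1) * 12) (by rw [hcard, pow_mul]), ?_, ?_⟩
  · intro hd
    have h1 := U.card_mul_index
    rw [hcard, H52.F4Ree.card_f4 hK] at h1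
    simp only [mul_assoc] at h1
    have h3 := Nat.eq_of_mul_eq_mul_left (by positivity) h1
    rw [h3] at hd
    set Q := 2 ^ (2 * m + 1) with hQ
    have hev : 2 ∣ Q := dvd_pow_self 2 (by omega)
    have hQ1 : 1 ≤ Q := Nat.one_le_two_pow
    have hk : ∀ k, k ≠ 0 → 2 ∣ Q ^ k ∧ 1 ≤ Q ^ k := fun k hk => ⟨dvd_pow hev hk, Nat.one_le_pow _ _ hQ1⟩
    obtain ⟨a3, b3⟩ := hk 3 (by omega)
    obtain ⟨a4, b4⟩ := hk 4 (by omega)
    obtain ⟨a6, b6⟩ := hk 6 (by omega)
    rcases Nat.prime_two.dvd_mul.1 hd with h | h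
    · omega
    rcases Nat.prime_two.dvd_mul.1 h with h | h
    · omega
    rcases Nat.prime_two.dvd_mul.1 h with h | h <;> omega
  · refine gen_subgroupOf inf_le_right ?_
    rw [hmap]
    exact gen_map _ hgen

end H14.Sq
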