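import Cfsg.Agent.H14.SqGen
import Cfsg.Agent.H54.ChevSylow
import Cfsg.Agent.H52.TwistSys
import Cfsg.Agent.H52.TwistD4
import Cfsg.Agent.H52.TwistE6
import Cfsg.Prelude.Def_LieTypeChar

/-!
`³D₄` and `²E₆` in characteristic `2`: the fundamental root groups have exponent `2`.
-/

set_option autoImplicit false
set_option linter.unusedSectionVars false
set_option linter.style.haveILetI false

namespace H14.Sq

open Cfsg.Lie H52

theorem good_twist {D D' : ChevalleyDatum} {Fl : Fold D D'} {T : Tables} {K : Type*} [Field K] [Fintype K]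
    [CharP K 2] (X : Twist Fl T K) : Good ↥X.grp := by
  haveI : Fact (Nat.Prime 2) := ⟨Nat.prime_two⟩
  let C : H54.Ctx D := ⟨T, X.chk, Fl.W, X.ok⟩
  refine good_of_rootSys X.axioms' X.sep' ?_ ?_ (fun r hr => reach_of_weylFor Fl.W' r hr) ?_
  · exact ((C.isPGroup_pos (F := K) 2).to_le X.map_Uplus'_le).of_equiv
      (X.sys.Uplus.equivMapOfInjective X.grp.subtype Subtype.val_injective).symm
  · intro h hh h2
    refine Subtype.ext ?_
    exact C.diag_eq_one_of_pow 2 (X.torusT_le_diag hh) (k := 1)
      (by rw [pow_one]; exact congrArg Subtype.val h2)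
  · intro J x hx
    refine Subtype.ext ?_
    have hP : (x : GL D.Idx K) ∈ Twist.P Fl K (Fl.ap J) := hx.1
    set S : Set (GL D.Idx K) := {g | ∃ j ∈ Fl.orb J, ∃ t : K, g = rt D (Fl.sp j).val t} with hS
    have hle : Twist.P Fl K (Fl.ap J) ≤ Subgroup.closure S := by
      refine (Subgroup.closure_le _).2 ?_
      rintro _ ⟨r, t, ⟨hr, hcls⟩, rfl⟩
      obtain ⟨j, hj, hje⟩ := X.roots_ap hcls
      exact Subgroup.subset_closure ⟨j, hj, t, by rw [← hje]⟩
    have hcomm : ∀ a ∈ Subgroup.closure S, ∀ b ∈ Subgroup.closure S, Commute a b := by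
      intro a ha b hb
      induction ha, hb using Subgroup.closure_induction₂ with
      | mem a b ha hb =>
        obtain ⟨i, hi, t, rfl⟩ := ha
        obtain ⟨j, hj, u, rfl⟩ := hb
        rcases eq_or_ne i j with rfl | hne
        · show _ * _ = _ * _
          rw [X.chk.rt_mul, X.chk.rt_mul, add_comm]
        · exact X.pairGrp_commute hi hj hne (Twist.rt_mem_pairGrp_p i t) (Twist.rt_mem_pairGrp_p j u)
      | one_left => exact Commute.one_left _
      | one_right => exact Commute.one_right _
      | mul_left _ _ _ _ _ _ h1 h2 => exact h1.mul_left h2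
      | mul_right _ _ _ _ _ _ h1 h2 => exact h1.mul_right h2
      | inv_left _ _ _ _ h => exact h.inv_left
      | inv_right _ _ _ _ h => exact h.inv_right
    show ((x : GL D.Idx K)) ^ 2 = 1
    have hx' := hle hP
    generalize (x : GL D.Idx K) = g at hx'
    induction hx' using Subgroup.closure_induction with
    | mem z hz =>
      obtain ⟨j, -, t, rfl⟩ := hz
      rw [pow_two, X.chk.rt_mul, CharTwo.add_self_eq_zero, X.chk.rt_zero]
    | one => exact one_pow 2
    | mul a b ha hb h1 h2 => rw [(hcomm a ha b hb).mul_pow, h1, h2, one_mul]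
    | inv a _ h => rw [inv_pow, h, inv_one]

theorem good_twisted {G : Type*} [Group G] (h : Cfsg.IsTwistedE6D4Char 2 G) : Good G := by
  obtain ⟨K, _, _, _, q, hq, h⟩ := h
  rcases h with ⟨hK, ⟨e⟩⟩ | ⟨hK, ⟨e⟩⟩
  · obtain ⟨T, X, hf⟩ := exists_twistE6 hq hK
    exact (good_twist X).congr ((MulEquiv.subgroupCongr (twistE6_grp X hf hK)).trans e.symm)
  · obtain ⟨T, X, hf⟩ := exists_twistD4 hq hK
    exact (good_twist X).congr ((MulEquiv.subgroupCongr (twistD4_grp X hf hK)).trans e.symm)

end H14.Sq
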